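import Groth.Agent.L09.CohAffBC.Key
import Groth.Agent.L23.CohAff.Moduli
import Mathlib.AlgebraicGeometry.Morphisms.FlatMono

/-!
# Agreement loci and lifts of arrows to an affine scheme etale over a space
-/

universe w v u

open CategoryTheory CategoryTheory.Limits AlgebraicGeometry Opposite TopologicalSpace AlgSp

set_option backward.isDefEq.respectTransparency false
set_option backward.isDefEq.respectTransparency.types false
set_option linter.style.haveILetI false
set_option linter.unusedSectionVars false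
set_option linter.unusedVariables false

noncomputable section

namespace Groth.L09.CohAffBC

open StMod Groth.L23.RelGen

section Scheme

/-- A clopen subset of an affine scheme is cut out by an idempotent. -/
theorem exists_idem_of_isClopen (T : Scheme.{u}) [IsAffine T] (W : Set T) (hW : IsClopen W) :
    ∃ e : Γ(T, ⊤), IsIdempotentElem e ∧ (T.basicOpen e : Set T) = W := by
  let f := T.isoSpec.inv
  obtain ⟨e, he, hW'⟩ := PrimeSpectrum.isClopen_iff.1 (hW.preimage f.base.hom.continuous :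
    IsClopen (f ⁻¹' W : Set (Spec Γ(T, ⊤))))
  refine ⟨e, he, Set.ext fun x => ?_⟩
  obtain ⟨p, rfl⟩ := f.surjective x
  have h : p ∈ f ⁻¹ᵁ T.basicOpen e ↔ p ∈ PrimeSpectrum.basicOpen e := by
    rw [← (isAffineOpen_top T).fromSpec_preimage_basicOpen e]
    rw [IsAffineOpen.fromSpec_top]
  exact h.trans (Set.ext_iff.1 hW' p).symm

/-- The locus where two morphisms into a scheme with open and closed diagonal agree. -/
theorem exists_agree {T E P : Scheme.{u}} [IsAffine T] (p₁ p₂ : P ⟶ E) [Etale p₁] [P.IsSeparated]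
    (hmono : ∀ {Z : Scheme.{u}} (x y : Z ⟶ P), x ≫ p₁ = y ≫ p₁ → x ≫ p₂ = y ≫ p₂ → x = y)
    (δ : E ⟶ P) (h₁ : δ ≫ p₁ = 𝟙 E) (h₂ : δ ≫ p₂ = 𝟙 E) (f f' : T ⟶ E) (l : T ⟶ P) (hl₁ : l ≫ p₁ = f)
    (hl₂ : l ≫ p₂ = f') :
    ∃ e : Γ(T, ⊤), IsIdempotentElem e ∧
      ∀ (T' : Scheme.{u}) (φ : T' ⟶ T), φ ≫ f = φ ≫ f' ↔ φ.appTop e = 1 := by
  haveI : Mono δ := ⟨fun a b h => by
    simpa [h₁] using congrArg (fun k => k ≫ p₁) h⟩
  haveI : IsSeparated p₁ := IsSeparated.of_comp p₁ (terminal.from E)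
  haveI : IsClosedImmersion (δ ≫ p₁) := by rw [h₁]; infer_instance
  haveI : IsClosedImmersion δ := IsClosedImmersion.of_comp δ p₁
  haveI : Etale (δ ≫ p₁) := by rw [h₁]; infer_instance
  haveI : Etale δ := MorphismProperty.of_postcomp @Etale (W' := @Etale) δ p₁ inferInstance ‹_›
  haveI : IsOpenImmersion δ := IsOpenImmersion.of_flat_of_mono δ
  obtain ⟨e, he, hW⟩ := exists_idem_of_isClopen T (l ⁻¹' Set.range δ)
    (IsClopen.preimage ⟨δ.isClosedEmbedding.isClosed_range, δ.isOpenEmbedding.isOpen_range⟩ l.base.hom.continuous)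
  refine ⟨e, he, fun T' φ => ⟨fun h => ?_, fun h => ?_⟩⟩
  · have hfac : φ ≫ l = (φ ≫ f) ≫ δ := hmono _ _
      (by simp only [Category.assoc, hl₁, h₁, Category.comp_id])
      (by simp only [Category.assoc, hl₂, h₂, Category.comp_id]; exact h.symm)
    refine (IsIdempotentElem.iff_eq_one_of_isUnit ?_).1 (he.map φ.appTop.hom)
    refine T'.toRingedSpace.isUnit_of_isUnit_germ ⊤ _ fun p _ => ?_
    refine (Scheme.mem_basicOpen_top (X := T') _ p).1 ?_
    rw [← Scheme.preimage_basicOpen_top]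
    refine hW.ge ?_
    show l (φ p) ∈ Set.range δ
    rw [← Scheme.Hom.comp_apply, hfac, Scheme.Hom.comp_apply]
    exact ⟨_, rfl⟩
  · have hr : Set.range (φ ≫ l) ⊆ Set.range δ := by
      rintro _ ⟨p, rfl⟩
      rw [Scheme.Hom.comp_apply]
      refine hW.le ?_
      show p ∈ φ ⁻¹ᵁ T.basicOpen e
      rw [Scheme.preimage_basicOpen_top, h, Scheme.basicOpen_one]
      trivial
    have hx := IsOpenImmersion.lift_fac δ (φ ≫ l) hr
    generalize IsOpenImmersion.lift δ (φ ≫ l) hr = x at hx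
    have e₁ : x = φ ≫ f := by
      simpa [Category.assoc, h₁, hl₁] using congrArg (fun k => k ≫ p₁) hx
    have e₂ : x = φ ≫ f' := by
      simpa [Category.assoc, h₂, hl₂] using congrArg (fun k => k ≫ p₂) hx
    rw [← e₁, ← e₂]

end Scheme

variable {S : Scheme.{u}} {M : AlgSp.Sp S}

/-- The classifying map of an object of the category of a sheaf. -/
abbrev cls (a : (AlgSt.ofSp M).obj) : (yon S).obj a.base ⟶ M := (AlgSp.J S).uliftYonedaEquiv.symm a.sec

theorem cls_hom {a b : (AlgSt.ofSp M).obj} (f : a ⟶ b) : (yon S).map f.hom ≫ cls b = cls a := by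
  refine (AlgSp.J S).uliftYonedaEquiv.injective ?_
  rw [← GrothendieckTopology.uliftYonedaEquiv_naturality, Equiv.apply_symm_apply, Equiv.apply_symm_apply]
  exact f.map_sec

theorem cls_etaOf (E : EtOver M) : cls (etaOf E) = E.obj.hom := Equiv.symm_apply_apply _ _

theorem exists_hom_of_cls {a b : (AlgSt.ofSp M).obj} (f : a.base ⟶ b.base) (h : (yon S).map f ≫ cls b = cls a) :
    ∃ g : a ⟶ b, g.hom = f := by
  refine ⟨⟨f, ?_⟩, rfl⟩
  have := congrArg (AlgSp.J S).uliftYonedaEquiv h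
  rwa [← GrothendieckTopology.uliftYonedaEquiv_naturality, Equiv.apply_symm_apply, Equiv.apply_symm_apply] at this

variable {𝒳 : BasedCategory.{v, w} (Over S)} (π : 𝒳 ⥤ᵇ AlgSt.ofSp M) (E : EtOver M)

theorem bmap_map_hom {x' x : 𝒳.obj} (φ : x' ⟶ x) :
    (π.map φ).hom.left = eqToHom (sch_obj_eq π x') ≫ bmap 𝒳 φ ≫ eqToHom (sch_obj_eq π x).symm := by
  show bmap (AlgSt.ofSp M) (π.map φ) = _
  rw [← cancel_mono (eqToHom (sch_obj_eq π x)), bmap_map_comm π φ rfl]
  simp

theorem map_hom {x' x : 𝒳.obj} (φ : x' ⟶ x) :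
    (π.map φ).hom = eqToHom (π.w_obj x') ≫ 𝒳.p.map φ ≫ eqToHom (π.w_obj x).symm := by
  haveI := (BasedFunctor.isHomLift_iff π (𝒳.p.map φ) φ).2 (IsHomLift.map _ _)
  exact IsHomLift.fac' (AlgSt.ofSp M).p (𝒳.p.map φ) (π.map φ)

/-- The agreement idempotent of two arrows to an affine scheme etale over the space. -/
theorem exists_agree_idem (hE : IsAffine E.obj.left.left) (v : AObj 𝒳) (α α' : π.obj v.1 ⟶ etaOf E) :
    ∃ e : Fn v.1, IsIdempotentElem e ∧ ∀ (v' : AObj 𝒳) (φ : v'.1 ⟶ v.1),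
      π.map φ ≫ α = π.map φ ≫ α' ↔ fnMap φ e = 1 := by
  haveI := hE
  let P := E.property.rep.pullback E.obj.hom
  let q₁ : (yon S).obj P ⟶ (yon S).obj E.obj.left := E.property.rep.fst E.obj.hom
  let q₂ : P ⟶ E.obj.left := E.property.rep.snd E.obj.hom
  let q₁' : P ⟶ E.obj.left := (yon S).preimage q₁
  have hq₁ : (yon S).map q₁' = q₁ := (yon S).map_preimage _
  have hsq := E.property.rep.isPullback E.obj.hom
  haveI : Etale q₂.left := E.property.property _ _ _ hsq
  obtain ⟨δ, hδ₁, hδ₂⟩ := hsq.exists_lift ((yon S).map (𝟙 E.obj.left)) ((yon S).map (𝟙 E.obj.left)) rfl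
  obtain ⟨δ, rfl⟩ := (yon S).map_surjective δ
  have hh : (yon S).map α.hom ≫ E.obj.hom = (yon S).map α'.hom ≫ E.obj.hom := by
    rw [← cls_etaOf E, cls_hom, cls_hom]
  obtain ⟨l, hl₁, hl₂⟩ := hsq.exists_lift ((yon S).map α.hom) ((yon S).map α'.hom) hh
  obtain ⟨l, rfl⟩ := (yon S).map_surjective l
  replace hl₁ : l ≫ q₁' = α.hom := (yon S).map_injective (by rw [Functor.map_comp, hq₁]; exact hl₁)
  replace hδ₁ : δ ≫ q₁' = 𝟙 _ := (yon S).map_injective (by rw [Functor.map_comp, hq₁]; exact hδ₁)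
  replace hl₂ : l ≫ q₂ = α'.hom := (yon S).map_injective (by rw [Functor.map_comp]; exact hl₂)
  replace hδ₂ : δ ≫ q₂ = 𝟙 _ := (yon S).map_injective (by rw [Functor.map_comp]; exact hδ₂)
  have hmono : ∀ {Z : Scheme.{u}} (x y : Z ⟶ P.left), x ≫ q₂.left = y ≫ q₂.left →
      x ≫ q₁'.left = y ≫ q₁'.left → x = y := by
    intro Z x y h₁ h₂
    have hs : x ≫ P.hom = y ≫ P.hom := by
      rw [← Over.w q₂, ← Category.assoc, ← Category.assoc, h₁]
    let x' : Over.mk (x ≫ P.hom) ⟶ P := Over.homMk x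
    let y' : Over.mk (x ≫ P.hom) ⟶ P := Over.homMk y hs.symm
    have : (yon S).map x' = (yon S).map y' := by
      refine hsq.hom_ext ?_ ?_
      · refine (congrArg ((yon S).map x' ≫ ·) hq₁.symm).trans (Eq.trans ?_ (congrArg ((yon S).map y' ≫ ·) hq₁))
        show (yon S).map x' ≫ (yon S).map q₁' = (yon S).map y' ≫ (yon S).map q₁'
        rw [← Functor.map_comp, ← Functor.map_comp]
        exact congrArg _ (Over.OverMorphism.ext h₂)
      · rw [← Functor.map_comp, ← Functor.map_comp]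
        exact congrArg _ (Over.OverMorphism.ext h₁)
    exact congrArg (fun k => k.left) ((yon S).map_injective this)
  haveI : P.left.IsSeparated := by
    let g : P.left ⟶ pullback (terminal.from E.obj.left.left) (terminal.from E.obj.left.left) :=
      pullback.lift q₂.left q₁'.left (Subsingleton.elim _ _)
    haveI : Mono g := ⟨fun x y h => hmono x y (by simpa [g] using congrArg (fun k => k ≫ pullback.fst _ _) h)
      (by simpa [g] using congrArg (fun k => k ≫ pullback.snd _ _) h)⟩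
    haveI : IsAffine (pullback (terminal.from E.obj.left.left) (terminal.from E.obj.left.left)) := inferInstance
    exact ⟨by rw [Subsingleton.elim (terminal.from P.left) (g ≫ terminal.from _)]; infer_instance⟩
  haveI : IsAffine (sch (AlgSt.ofSp M) (π.obj v.1)) := IsAffine.of_isIso (eqToHom (sch_obj_eq π v.1))
  let c : sch 𝒳 v.1 ⟶ (π.obj v.1).base.left := eqToHom (sch_obj_eq π v.1).symm
  obtain ⟨e, he, hspec⟩ := exists_agree (T := sch 𝒳 v.1) q₂.left q₁'.left (fun {Z} => hmono) δ.left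
    (congrArg (fun k => k.left) hδ₂) (congrArg (fun k => k.left) hδ₁) (c ≫ α'.hom.left) (c ≫ α.hom.left)
    (c ≫ l.left) (by rw [Category.assoc, ← Over.comp_left, hl₂]) (by rw [Category.assoc, ← Over.comp_left, hl₁])
  refine ⟨e, he, fun v' φ => ?_⟩
  refine Iff.trans ?_ (hspec _ (bmap 𝒳 φ))
  constructor
  · intro h
    have h' := congrArg (fun k : π.obj v'.1 ⟶ etaOf E => k.hom.left) h
    simp only [Stk.EltObj.comp_hom, Over.comp_left, bmap_map_hom, Category.assoc] at h'
    exact ((cancel_epi _).1 h').symm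
  · intro h
    refine Stk.EltObj.hom_ext (Over.OverMorphism.ext ?_)
    simp only [Stk.EltObj.comp_hom, Over.comp_left, bmap_map_hom, Category.assoc]
    exact congrArg (eqToHom _ ≫ ·) h.symm

/-- Arrows to an affine scheme etale over the space lift to objects flat over a given one. -/
theorem hasLifts (hX : FibCat.IsFibGrpd 𝒳.p) : HasLifts π (etaOf E) := by
  intro v v' φ α'
  let P := E.property.rep.pullback (cls (π.obj v.1))
  let p₁ : (yon S).obj P ⟶ (yon S).obj E.obj.left := E.property.rep.fst (cls (π.obj v.1))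
  let p₂ : P ⟶ (π.obj v.1).base := E.property.rep.snd (cls (π.obj v.1))
  let p₁' : P ⟶ E.obj.left := (yon S).preimage p₁
  have hp₁ : (yon S).map p₁' = p₁ := (yon S).map_preimage _
  have hsq := E.property.rep.isPullback (cls (π.obj v.1))
  haveI : Etale p₂.left := E.property.property _ _ _ hsq
  obtain ⟨w, q, e, hq⟩ := exists_lift hX (x := v.1) (p₂ ≫ eqToHom (π.w_obj v.1))
  have hπq : (π.map q).hom = eqToHom ((π.w_obj w).trans e) ≫ p₂ := by
    rw [map_hom, hq]
    simp
  have hw : (yon S).map (eqToHom ((π.w_obj w).trans e) ≫ p₁') ≫ cls (etaOf E) = cls (π.obj w) := by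
    rw [cls_etaOf, Functor.map_comp, Category.assoc, hp₁, hsq.w, ← Category.assoc, ← Functor.map_comp, ← hπq,
      cls_hom]
  obtain ⟨αw, hαw⟩ := exists_hom_of_cls (a := π.obj w) (b := etaOf E) _ hw
  obtain ⟨l, hl₁, hl₂⟩ := hsq.exists_lift ((yon S).map α'.hom) ((yon S).map (π.map φ).hom) (by
    rw [← cls_etaOf E, cls_hom, cls_hom])
  obtain ⟨l, rfl⟩ := (yon S).map_surjective l
  replace hl₁ : l ≫ p₁' = α'.hom := (yon S).map_injective (by rw [Functor.map_comp, hp₁]; exact hl₁)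
  replace hl₂ : l ≫ p₂ = (π.map φ).hom := (yon S).map_injective (by rw [Functor.map_comp]; exact hl₂)
  obtain ⟨k, ⟨hk, hkq⟩, -⟩ := existsUnique_factor hX φ q (eqToHom (π.w_obj v'.1).symm ≫ l ≫ eqToHom e.symm) (by
    rw [hq]
    simp only [Category.assoc, eqToHom_trans_assoc, eqToHom_refl, Category.id_comp]
    rw [← Category.assoc l, hl₂, map_hom]
    simp)
  have hkα : π.map k ≫ αw = α' := by
    refine Stk.EltObj.hom_ext ?_
    show (π.map k).hom ≫ αw.hom = α'.hom
    rw [map_hom, hk, hαw]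
    simp only [Category.assoc, eqToHom_trans_assoc, eqToHom_refl, Category.id_comp]
    exact hl₁
  haveI : Etale (bmap 𝒳 q) := by
    show Etale (𝒳.p.map q).left
    rw [hq]
    simp only [Over.comp_left, Over.eqToHom_left]
    infer_instance
  choose o m hi hmem hsub using fun p : sch 𝒳 w => exists_piece hX ⊤ p trivial
  haveI := hi
  obtain ⟨𝒰, hfin, h𝒰⟩ := PB.exists_openCover (v := v'.1) hX
    (fun p => bmap 𝒳 k ⁻¹ᵁ (bmap 𝒳 (m p)).opensRange) fun z => ⟨bmap 𝒳 k z, hmem _⟩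
  refine ⟨𝒰, hfin, fun n => ?_⟩
  obtain ⟨p, hp⟩ := h𝒰 n
  obtain ⟨a, ha⟩ := exists_factor_open hX (𝒰.map n ≫ k) (m p) (by
    rintro _ ⟨z, rfl⟩
    rw [bmap_comp]
    exact hp (show z ∈ (⊤ : (sch 𝒳 (𝒰.obj n)).Opens) from trivial))
  refine ⟨o p, m p ≫ q, π.map (m p) ≫ αw, a, ?_, ?_, ?_⟩
  · rw [bmap_comp]; infer_instance
  · rw [← Category.assoc, ha, Category.assoc, hkq]
  · rw [← Category.assoc, ← π.toFunctor.map_comp, ha, π.toFunctor.map_comp, Category.assoc, hkα]

end Groth.L09.CohAffBC
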