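import Groth.Agent.L09.CohAffBC.QCoh
import Groth.Agent.L23.RelGen.Atlas3

/-!
# Flat charts of an algebraic stack
-/

universe u

open CategoryTheory CategoryTheory.Limits AlgebraicGeometry Opposite TopologicalSpace

set_option backward.isDefEq.respectTransparency false
set_option backward.isDefEq.respectTransparency.types false
set_option linter.style.haveILetI false
set_option linter.unusedSectionVars false
set_option linter.unusedVariables false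

noncomputable section

namespace Groth.L09.CohAffBC

open StMod Groth.L23.RelGen Groth.L24.St
open Groth.L19.QCohFpqc (IsCov)

variable {S : Scheme.{u}}

section General

universe v w

variable {𝒳 : BasedCategory.{v, w} (Over S)}

theorem isCov_comp {κ : Type*} {κ' : κ → Type*} {U : Scheme.{u}} {W : κ → Scheme.{u}} {g : ∀ l, W l ⟶ U}
    (hg : IsCov g) {W' : ∀ l, κ' l → Scheme.{u}} {g' : ∀ l n, W' l n ⟶ W l} (hg' : ∀ l, IsCov (g' l)) :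
    IsCov (fun i : Σ l, κ' l => g' i.1 i.2 ≫ g i.1) := by
  refine ⟨fun i => ?_, fun y => ?_⟩
  · haveI := hg.flat i.1
    haveI := (hg' i.1).flat i.2
    infer_instance
  · obtain ⟨l, w, hw⟩ := hg.surj y
    obtain ⟨n, p, hp⟩ := (hg' l).surj w
    exact ⟨⟨l, n⟩, p, by rw [Scheme.Hom.comp_apply, hp, hw]⟩

/-- A finite cover refined by finite covers of its members. -/
theorem exists_refine {y : 𝒳.obj} (𝒰 : Cover y) [Finite 𝒰.ι] (P : ∀ z : 𝒳.obj, (z ⟶ y) → Prop)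
    (h : ∀ l, ∃ 𝒲 : Cover (𝒰.obj l), Finite 𝒲.ι ∧ ∀ n, P (𝒲.obj n) (𝒲.map n ≫ 𝒰.map l)) :
    ∃ 𝒱 : Cover y, Finite 𝒱.ι ∧ ∀ i, P (𝒱.obj i) (𝒱.map i) := by
  choose 𝒲 hfin hP using h
  haveI := hfin
  refine ⟨⟨Σ l, (𝒲 l).ι, fun i => (𝒲 i.1).obj i.2, fun i => (𝒲 i.1).map i.2 ≫ 𝒰.map i.1,
    fun i => (𝒲 i.1).affine i.2, ?_⟩, (inferInstance : Finite (Σ l, (𝒲 l).ι)), fun i => hP i.1 i.2⟩
  have e := isCov_comp 𝒰.cov (g' := fun l n => bmap 𝒳 ((𝒲 l).map n)) fun l => (𝒲 l).cov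
  simpa only [bmap_comp] using e

/-- A finite cover indexed in a small universe. -/
abbrev finCover {n : ℕ} {y : 𝒳.obj} (o : Fin n → 𝒳.obj) (m : ∀ l, o l ⟶ y) (ho : ∀ l, IsAffine (sch 𝒳 (o l)))
    (hm : IsCov (fun l => bmap 𝒳 (m l))) : Cover y :=
  ⟨ULift.{u} (Fin n), fun l => o l.down, fun l => m l.down, fun l => ho l.down,
    ⟨fun l => hm.flat l.down, fun p => by obtain ⟨l, w, hw⟩ := hm.surj p; exact ⟨⟨l⟩, w, hw⟩⟩⟩

theorem flat_of_comp_openImm {X Y Z : Scheme.{u}} (f : X ⟶ Y) (g : Y ⟶ Z) [IsOpenImmersion g] (h : Flat (f ≫ g)) :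
    Flat f := by
  have H : IsPullback (𝟙 X) f (f ≫ g) g :=
    ⟨⟨by rw [Category.id_comp]⟩, ⟨PullbackCone.IsLimit.mk _ (fun s => s.fst) (fun s => Category.comp_id _)
      (fun s => by rw [← cancel_mono g, Category.assoc]; exact s.condition)
      (fun s m h₁ h₂ => by rw [← h₁, Category.comp_id])⟩⟩
  exact MorphismProperty.of_isPullback H h

/-- An affine open neighbourhood in an object as an open immersion of an affine object. -/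
theorem exists_piece (h : FibCat.IsFibGrpd 𝒳.p) {x : 𝒳.obj} (U : (sch 𝒳 x).Opens) (p : sch 𝒳 x) (hp : p ∈ U) :
    ∃ (o : AObj 𝒳) (m : o.1 ⟶ x), IsOpenImmersion (bmap 𝒳 m) ∧ p ∈ Set.range (bmap 𝒳 m) ∧
      Set.range (bmap 𝒳 m) ⊆ (U : Set (sch 𝒳 x)) := by
  obtain ⟨A, hA, hpA, hAU⟩ := exists_isAffineOpen_mem_and_subset hp
  obtain ⟨o, m, hi, hr, ha⟩ := exists_restrict h x A
  exact ⟨⟨o, ha hA⟩, m, hi, hr.symm.subset hpA, hr.subset.trans hAU⟩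

theorem chain₁ {z o₁ o₂ y c t u : 𝒳.obj} {g : z ⟶ o₁} {m : o₁ ⟶ o₂} {e : z ⟶ y} {k : y ⟶ o₂} {a : o₁ ⟶ c}
    {j : c ⟶ u} {A : o₂ ⟶ u} {r : y ⟶ t} {p : t ⟶ c} (hg : g ≫ m = e ≫ k) (ha : a ≫ j = m ≫ A)
    (hk : k ≫ A = r ≫ p ≫ j) : (g ≫ a) ≫ j = ((e ≫ r) ≫ p) ≫ j := by
  rw [Category.assoc, ha, ← Category.assoc, hg, Category.assoc, hk]
  simp only [Category.assoc]

theorem chain₂ {w o o' oW oW₂ c u : 𝒳.obj} {a : w ⟶ o} {b : w ⟶ o'} {s : o ⟶ oW} {s' : o' ⟶ oW} {m : w ⟶ oW₂}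
    {P P' : oW₂ ⟶ oW} {A : oW ⟶ u} {e : o ⟶ c} {e' : o' ⟶ c} {j : c ⟶ u} (ha : a ≫ s = m ≫ P)
    (hb : b ≫ s' = m ≫ P') (he : e ≫ j = s ≫ A) (he' : e' ≫ j = s' ≫ A) (hP : P ≫ A = P' ≫ A) :
    (a ≫ e) ≫ j = (b ≫ e') ≫ j := by
  rw [Category.assoc, Category.assoc, he, he', ← Category.assoc, ← Category.assoc, ha, hb, Category.assoc,
    Category.assoc, hP]

end General

theorem exists_flatChart {𝒳 : AlgSt.Cat S} (h𝒳 : AlgSt.IsAlgStack Scheme.fppfPrecoverage 𝒳) :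
    Nonempty (FlatChart.{u + 1} 𝒳) := by
  have hX := h𝒳.isStack.1
  obtain ⟨U, x, hxsm, hxs⟩ := h𝒳.atlas
  have hxflp : AlgSt.RepByAlgSpWith L09.Artin.Res.FLP x :=
    Groth.L24.St.repWith_mono (fun _ _ _ _ h => L09.Artin.Res.flp_of_smooth h) hxsm
  have hR := isAlgStack_fp (isAlgStack_overCat U) (isAlgStack_overCat U) h𝒳 x x
  obtain ⟨W, c, hcsm, hcs⟩ := hR.atlas
  have hcflp : AlgSt.RepByAlgSpWith L09.Artin.Res.FLP c :=
    Groth.L24.St.repWith_mono (fun _ _ _ _ h => L09.Artin.Res.flp_of_smooth h) hcsm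
  have hR₂ := isAlgStack_fp (isAlgStack_overCat W) (isAlgStack_overCat W) hR c c
  obtain ⟨W₂, d, hdsm, hds⟩ := hR₂.atlas
  have hdflp : AlgSt.RepByAlgSpWith L09.Artin.Res.FLP d :=
    Groth.L24.St.repWith_mono (fun _ _ _ _ h => L09.Artin.Res.flp_of_smooth h) hdsm
  have hxfl : AlgSt.RepByAlgSpWith (AlgSp.LocP @Flat) x :=
    Groth.L24.St.repWith_mono (fun _ _ _ _ h => h.1) hxflp
  have hcfl : AlgSt.RepByAlgSpWith (AlgSp.LocP @Flat) c :=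
    Groth.L24.St.repWith_mono (fun _ _ _ _ h => h.1) hcflp
  have hdfl : AlgSt.RepByAlgSpWith (AlgSp.LocP @Flat) d :=
    Groth.L24.St.repWith_mono (fun _ _ _ _ h => h.1) hdflp
  let u₀ := x.obj (idObj U)
  let v := c.obj (idObj W)
  let v₂ := d.obj (idObj W₂)
  let oW := x.obj v.obj.fst
  let A : oW ⟶ u₀ := x.map (L09.Fib.toTerm v.obj.fst)
  let B : oW ⟶ u₀ := v.obj.iso.hom ≫ x.map (L09.Fib.toTerm v.obj.snd)
  let oW₂ := x.obj (c.obj v₂.obj.fst).obj.fst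
  let P : oW₂ ⟶ oW := x.map (c.map (L09.Fib.toTerm v₂.obj.fst)).hom.fst
  let P' : oW₂ ⟶ oW := x.map (v₂.obj.iso.hom ≫ c.map (L09.Fib.toTerm v₂.obj.snd)).hom.fst
  haveI hA : Flat (bmap 𝒳 A) := flat_bmap_chart x _ (flat_chart_proj hR.isStack.1 hcfl (repWith_fpFst x hxfl))
  haveI hB : Flat (bmap 𝒳 B) := flat_bmap_of_overId v.obj.iso _
    (flat_bmap_chart x _ (flat_chart_proj hR.isStack.1 hcfl (repWith_fpSnd x hxfl)))
  haveI hP : Flat (bmap 𝒳 P) := flat_bmap_chart x _ (by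
    show Flat (bmap (FibCat.fp x x) (c.map (L09.Fib.toTerm v₂.obj.fst)))
    exact flat_bmap_chart c _ (flat_chart_proj hR₂.isStack.1 hdfl (repWith_fpFst c hcfl)))
  have hterm₁ : (c.map (L09.Fib.toTerm v₂.obj.fst)).hom.fst ≫ L09.Fib.toTerm v.obj.fst =
      (v₂.obj.iso.hom ≫ c.map (L09.Fib.toTerm v₂.obj.snd)).hom.fst ≫ L09.Fib.toTerm v.obj.fst :=
    Over.OverMorphism.ext ((Over.w _).trans (Over.w _).symm)
  have hPA : P ≫ A = P' ≫ A := by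
    show x.map _ ≫ x.map _ = x.map _ ≫ x.map _
    rw [← x.toFunctor.map_comp, ← x.toFunctor.map_comp, hterm₁]
  have hPB : P ≫ B = P' ≫ B := by
    show x.map _ ≫ _ ≫ x.map _ = x.map _ ≫ _ ≫ x.map _
    rw [reassoc_of% (c.map (L09.Fib.toTerm v₂.obj.fst)).hom.w,
      reassoc_of% (v₂.obj.iso.hom ≫ c.map (L09.Fib.toTerm v₂.obj.snd)).hom.w, ← x.toFunctor.map_comp,
      ← x.toFunctor.map_comp]
    exact congrArg (fun a => (c.obj v₂.obj.fst).obj.iso.hom ≫ x.map a)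
      (Over.OverMorphism.ext ((Over.w _).trans (Over.w _).symm))
  choose yi ri hri hrr hra using fun i : (sch 𝒳 u₀).affineOpens => exists_restrict hX u₀ i.1
  let I := ULift.{u + 1} (sch 𝒳 u₀).affineOpens
  let xi : I → AObj 𝒳 := fun i => ⟨yi i.down, hra i.down i.down.2⟩
  let ji : ∀ i : I, (xi i).1 ⟶ u₀ := fun i => ri i.down
  haveI hji : ∀ i, IsOpenImmersion (bmap 𝒳 (ji i)) := fun i => hri i.down
  refine ⟨{
    fib := hX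
    I := I
    x := xi
    loc := fun y => ?_
    Std := fun i k => {σ : Σ o : AObj 𝒳, (o.1 ⟶ oW) × (o.1 ⟶ (xi i).1) × (o.1 ⟶ (xi k).1) //
      IsOpenImmersion (bmap 𝒳 σ.2.1) ∧ σ.2.2.1 ≫ ji i = σ.2.1 ≫ A ∧ σ.2.2.2 ≫ ji k = σ.2.1 ≫ B}
    ov := fun c => c.1.1
    a := fun c => c.1.2.2.1
    b := fun c => c.1.2.2.2
    flat_a := fun {i k} c => flat_of_comp_openImm _ (bmap 𝒳 (ji i)) (by
      haveI := c.2.1
      rw [← bmap_comp, c.2.2.1, bmap_comp]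
      infer_instance)
    flat_b := fun {i k} c => flat_of_comp_openImm _ (bmap 𝒳 (ji k)) (by
      haveI := c.2.1
      rw [← bmap_comp, c.2.2.2, bmap_comp]
      infer_instance)
    pairs := fun y i k p q => ?_
    triple := fun y {i k} s s' t t' ea eb => ?_ }⟩
  · haveI : IsAffine (sch 𝒳 y.1) := y.2
    obtain ⟨n, t, m, hm, hm'⟩ := exists_chart_cover hX hxflp hxs y.1
    let 𝒰 := finCover (fun l => x.obj (t l)) m hm hm'
    haveI : Finite 𝒰.ι := (inferInstance : Finite (ULift.{u} (Fin n)))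
    refine exists_refine 𝒰 (fun z _ => ∃ i, Nonempty (z ⟶ (xi i).1)) fun l => ?_
    let r : 𝒰.obj l ⟶ u₀ := x.map (L09.Fib.toTerm (t l.down))
    haveI : IsAffine (sch 𝒳 (𝒰.obj l)) := 𝒰.affine l
    obtain ⟨𝒲, hfin, h𝒲⟩ := PB.exists_openCover (v := 𝒰.obj l) hX
      (fun i : (sch 𝒳 u₀).affineOpens => bmap 𝒳 r ⁻¹ᵁ i.1) fun q => by
        obtain ⟨O, hO, hqO, -⟩ :=
          exists_isAffineOpen_mem_and_subset (show bmap 𝒳 r q ∈ (⊤ : (sch 𝒳 u₀).Opens) from trivial)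
        exact ⟨⟨O, hO⟩, hqO⟩
    refine ⟨𝒲, hfin, fun e => ?_⟩
    obtain ⟨i, hi⟩ := h𝒲 e
    obtain ⟨g, hg⟩ := exists_factor_open hX (𝒲.map e ≫ r) (ji ⟨i⟩) (by
      rw [show Set.range (bmap 𝒳 (ji ⟨i⟩)) = _ from hrr i]
      rintro _ ⟨q, rfl⟩
      rw [bmap_comp]
      exact hi (show q ∈ (⊤ : (sch 𝒳 (𝒲.obj e)).Opens) from trivial))
    exact ⟨⟨i⟩, ⟨g⟩⟩
  · haveI : IsAffine (sch 𝒳 y.1) := y.2
    obtain ⟨n, o, m, k₀, ho, hm, hk⟩ :=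
      exists_pairs_cover hX x hR.isStack.1 c hcflp hcs y.1 (p ≫ ji i) (q ≫ ji k)
    let 𝒰 := finCover o m ho hm
    haveI : Finite 𝒰.ι := (inferInstance : Finite (ULift.{u} (Fin n)))
    refine exists_refine 𝒰 (fun z g => ∃ (e : {σ : Σ o : AObj 𝒳, (o.1 ⟶ oW) × (o.1 ⟶ (xi i).1) × (o.1 ⟶ (xi k).1) //
        IsOpenImmersion (bmap 𝒳 σ.2.1) ∧ σ.2.2.1 ≫ ji i = σ.2.1 ≫ A ∧ σ.2.2.2 ≫ ji k = σ.2.1 ≫ B})
        (t : z ⟶ e.1.1.1), t ≫ e.1.2.2.1 = g ≫ p ∧ t ≫ e.1.2.2.2 = g ≫ q) fun l => ?_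
    haveI : IsAffine (sch 𝒳 (𝒰.obj l)) := 𝒰.affine l
    let kl : 𝒰.obj l ⟶ oW := k₀ l.down
    have hkA : kl ≫ A = 𝒰.map l ≫ p ≫ ji i := (hk l.down).1
    have hkB : kl ≫ B = 𝒰.map l ≫ q ≫ ji k := (hk l.down).2
    let O : (sch 𝒳 oW).Opens :=
      bmap 𝒳 A ⁻¹ᵁ Scheme.Hom.opensRange (bmap 𝒳 (ji i)) ⊓ bmap 𝒳 B ⁻¹ᵁ Scheme.Hom.opensRange (bmap 𝒳 (ji k))
    choose P₀ m₀ hi₀ hmem hsub using fun z : O => exists_piece hX O z.1 z.2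
    obtain ⟨𝒲, hfin, h𝒲⟩ := PB.exists_openCover (v := 𝒰.obj l) hX
      (fun z : O => bmap 𝒳 kl ⁻¹ᵁ @Scheme.Hom.opensRange _ _ (bmap 𝒳 (m₀ z)) (hi₀ z)) fun e => by
        have h₁ : bmap 𝒳 A (bmap 𝒳 kl e) ∈ Set.range (bmap 𝒳 (ji i)) := by
          rw [← Scheme.Hom.comp_apply, ← bmap_comp, hkA, ← Category.assoc, bmap_comp, Scheme.Hom.comp_apply]
          exact ⟨_, rfl⟩
        have h₂ : bmap 𝒳 B (bmap 𝒳 kl e) ∈ Set.range (bmap 𝒳 (ji k)) := by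
          rw [← Scheme.Hom.comp_apply, ← bmap_comp, hkB, ← Category.assoc, bmap_comp, Scheme.Hom.comp_apply]
          exact ⟨_, rfl⟩
        exact ⟨⟨bmap 𝒳 kl e, h₁, h₂⟩, hmem ⟨bmap 𝒳 kl e, h₁, h₂⟩⟩
    refine ⟨𝒲, hfin, fun e => ?_⟩
    obtain ⟨z, hz⟩ := h𝒲 e
    haveI := hi₀ z
    obtain ⟨g, hg⟩ := exists_factor_open hX (𝒲.map e ≫ kl) (m₀ z) (by
      rintro _ ⟨w, rfl⟩
      rw [bmap_comp]
      exact hz (show w ∈ (⊤ : (sch 𝒳 (𝒲.obj e)).Opens) from trivial))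
    obtain ⟨a, ha⟩ := exists_factor_open hX (m₀ z ≫ A) (ji i) (by
      rintro _ ⟨w, rfl⟩
      rw [bmap_comp]
      exact (hsub z ⟨w, rfl⟩).1)
    obtain ⟨b, hb⟩ := exists_factor_open hX (m₀ z ≫ B) (ji k) (by
      rintro _ ⟨w, rfl⟩
      rw [bmap_comp]
      exact (hsub z ⟨w, rfl⟩).2)
    refine ⟨⟨⟨P₀ z, m₀ z, a, b⟩, hi₀ z, ha, hb⟩, g, PB.factor_unique (ji i) hX ?_, PB.factor_unique (ji k) hX ?_⟩
    · exact chain₁ hg ha hkA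
    · exact chain₁ hg hb hkB
  · haveI : IsAffine (sch 𝒳 y.1) := y.2
    haveI := s.2.1
    haveI := s'.2.1
    have ea' : (t ≫ s.1.2.1) ≫ A = (t' ≫ s'.1.2.1) ≫ A := by
      rw [Category.assoc, Category.assoc, ← s.2.2.1, ← s'.2.2.1, ← Category.assoc, ← Category.assoc]
      exact congrArg (· ≫ ji i) ea
    have eb' : (t ≫ s.1.2.1) ≫ B = (t' ≫ s'.1.2.1) ≫ B := by
      rw [Category.assoc, Category.assoc, ← s.2.2.2, ← s'.2.2.2, ← Category.assoc, ← Category.assoc]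
      exact congrArg (· ≫ ji k) eb
    obtain ⟨n, o, m, k₀, ho, hm, hk⟩ :=
      exists_triple_cover hX x hR.isStack.1 c hR₂.isStack.1 d hdflp hds y.1 (t ≫ s.1.2.1) (t' ≫ s'.1.2.1) ea' eb'
    let 𝒰 := finCover o m ho hm
    haveI : Finite 𝒰.ι := (inferInstance : Finite (ULift.{u} (Fin n)))
    refine exists_refine 𝒰 (fun z g => ∃ (w : AObj 𝒳) (e : w.1 ⟶ s.1.1.1) (e' : w.1 ⟶ s'.1.1.1) (r : z ⟶ w.1),
      r ≫ e = g ≫ t ∧ r ≫ e' = g ≫ t' ∧ e ≫ s.1.2.2.1 = e' ≫ s'.1.2.2.1 ∧ e ≫ s.1.2.2.2 = e' ≫ s'.1.2.2.2 ∧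
        Flat (bmap 𝒳 (e ≫ s.1.2.2.1)) ∧ Flat (bmap 𝒳 (e ≫ s.1.2.2.2))) fun l => ?_
    haveI : IsAffine (sch 𝒳 (𝒰.obj l)) := 𝒰.affine l
    let kl : 𝒰.obj l ⟶ oW₂ := k₀ l.down
    have hk₁ : kl ≫ P = 𝒰.map l ≫ t ≫ s.1.2.1 := (hk l.down).1
    have hk₂ : kl ≫ P' = 𝒰.map l ≫ t' ≫ s'.1.2.1 := (hk l.down).2
    let O : (sch 𝒳 oW₂).Opens := bmap 𝒳 P ⁻¹ᵁ Scheme.Hom.opensRange (bmap 𝒳 s.1.2.1) ⊓
      bmap 𝒳 P' ⁻¹ᵁ Scheme.Hom.opensRange (bmap 𝒳 s'.1.2.1)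
    choose P₀ m₀ hi₀ hmem hsub using fun z : O => exists_piece hX O z.1 z.2
    obtain ⟨𝒲, hfin, h𝒲⟩ := PB.exists_openCover (v := 𝒰.obj l) hX
      (fun z : O => bmap 𝒳 kl ⁻¹ᵁ @Scheme.Hom.opensRange _ _ (bmap 𝒳 (m₀ z)) (hi₀ z)) fun e => by
        have h₁ : bmap 𝒳 P (bmap 𝒳 kl e) ∈ Set.range (bmap 𝒳 s.1.2.1) := by
          rw [← Scheme.Hom.comp_apply, ← bmap_comp, hk₁, ← Category.assoc, bmap_comp, Scheme.Hom.comp_apply]
          exact ⟨_, rfl⟩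
        have h₂ : bmap 𝒳 P' (bmap 𝒳 kl e) ∈ Set.range (bmap 𝒳 s'.1.2.1) := by
          rw [← Scheme.Hom.comp_apply, ← bmap_comp, hk₂, ← Category.assoc, bmap_comp, Scheme.Hom.comp_apply]
          exact ⟨_, rfl⟩
        exact ⟨⟨bmap 𝒳 kl e, h₁, h₂⟩, hmem ⟨bmap 𝒳 kl e, h₁, h₂⟩⟩
    refine ⟨𝒲, hfin, fun e => ?_⟩
    obtain ⟨z, hz⟩ := h𝒲 e
    haveI := hi₀ z
    obtain ⟨g, hg⟩ := exists_factor_open hX (𝒲.map e ≫ kl) (m₀ z) (by
      rintro _ ⟨w, rfl⟩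
      rw [bmap_comp]
      exact hz (show w ∈ (⊤ : (sch 𝒳 (𝒲.obj e)).Opens) from trivial))
    obtain ⟨a, ha⟩ := exists_factor_open hX (m₀ z ≫ P) s.1.2.1 (by
      rintro _ ⟨w, rfl⟩
      rw [bmap_comp]
      exact (hsub z ⟨w, rfl⟩).1)
    obtain ⟨b, hb⟩ := exists_factor_open hX (m₀ z ≫ P') s'.1.2.1 (by
      rintro _ ⟨w, rfl⟩
      rw [bmap_comp]
      exact (hsub z ⟨w, rfl⟩).2)
    have hfl : Flat (bmap 𝒳 a) := flat_of_comp_openImm _ (bmap 𝒳 s.1.2.1) (by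
      rw [← bmap_comp, ha, bmap_comp]
      infer_instance)
    refine ⟨P₀ z, a, b, g, PB.factor_unique s.1.2.1 hX ?_, PB.factor_unique s'.1.2.1 hX ?_,
      PB.factor_unique (ji i) hX ?_, PB.factor_unique (ji k) hX ?_, ?_, ?_⟩
    · rw [Category.assoc, ha, ← Category.assoc, hg, Category.assoc, hk₁]
      simp only [Category.assoc]
    · rw [Category.assoc, hb, ← Category.assoc, hg, Category.assoc, hk₂]
      simp only [Category.assoc]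
    · exact chain₂ ha hb s.2.2.1 s'.2.2.1 hPA
    · exact chain₂ ha hb s.2.2.2 s'.2.2.2 hPB
    · haveI := hfl
      haveI : Flat (bmap 𝒳 s.1.2.2.1) := flat_of_comp_openImm _ (bmap 𝒳 (ji i)) (by
        rw [← bmap_comp, s.2.2.1, bmap_comp]
        infer_instance)
      rw [bmap_comp]
      infer_instance
    · haveI := hfl
      haveI : Flat (bmap 𝒳 s.1.2.2.2) := flat_of_comp_openImm _ (bmap 𝒳 (ji k)) (by
        rw [← bmap_comp, s.2.2.2, bmap_comp]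
        infer_instance)
      rw [bmap_comp]
      infer_instance

end Groth.L09.CohAffBC
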