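import Groth.Agent.L09.CohAffBC.Ext
import Groth.Agent.L23.TwDesc.Hom
import Groth.Agent.L23.RelGen.Slice

/-!
# Data on affine objects with base change along flat morphisms
-/

universe t w v u

open CategoryTheory CategoryTheory.Limits AlgebraicGeometry Opposite TopologicalSpace
open scoped TensorProduct

set_option backward.isDefEq.respectTransparency false
set_option backward.isDefEq.respectTransparency.types false
set_option linter.style.haveILetI false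
set_option linter.unusedSectionVars false
set_option linter.unusedVariables false

noncomputable section

namespace Groth.L09.CohAffBC

open StMod Groth.L23.RelGen Groth.L23.TwDesc

variable {S : Scheme.{u}}

/-- Objects with affine scheme. -/
abbrev AObj (𝒳 : BasedCategory.{v, w} (Over S)) : Type w := {x : 𝒳.obj // IsAffine (sch 𝒳 x)}

variable {𝒳 : BasedCategory.{v, w} (Over S)}

instance (x : AObj 𝒳) : IsAffine (sch 𝒳 x.1) := x.2

/-- Modules on affine objects with restrictions, compatible with base change along flat morphisms. -/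
structure FlatDatum (𝒳 : BasedCategory.{v, w} (Over S)) where
  /-- the modules -/
  H : ∀ x : AObj 𝒳, ModuleCat.{u} (Fn x.1)
  /-- the restrictions -/
  res : ∀ {x' x : AObj 𝒳} (φ : x'.1 ⟶ x.1), H x →+ H x'
  res_smul : ∀ {x' x : AObj 𝒳} (φ : x'.1 ⟶ x.1) (r : Fn x.1) (m : H x), res φ (r • m) = fnMap φ r • res φ m
  res_comp : ∀ {x'' x' x : AObj 𝒳} (ψ : x''.1 ⟶ x'.1) (φ : x'.1 ⟶ x.1) (m : H x),
    res ψ (res φ m) = res (ψ ≫ φ) m
  bc : ∀ {x' x : AObj 𝒳} (φ : x'.1 ⟶ x.1), Flat (bmap 𝒳 φ) →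
    letI := (fnMap φ).toAlgebra
    ∃ E : Fn x'.1 ⊗[Fn x.1] H x ≃+ H x', ∀ r m, E (r ⊗ₜ m) = r • res φ m

/-- A member of a cover as an affine object. -/
abbrev memb {x : 𝒳.obj} (𝒰 : Cover x) (l : 𝒰.ι) : AObj 𝒳 := ⟨𝒰.obj l, 𝒰.affine l⟩

theorem fnMap_comp' {x'' x' x : 𝒳.obj} {ψ : x'' ⟶ x'} {φ : x' ⟶ x} {χ : x'' ⟶ x} (h : ψ ≫ φ = χ) :
    (fnMap ψ).comp (fnMap φ) = fnMap χ := by
  rw [← h, fnMap_comp]

namespace FlatDatum

variable (D : FlatDatum 𝒳)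

theorem res_congr {x' x : AObj 𝒳} {φ φ' : x'.1 ⟶ x.1} (h : φ = φ') (m : D.H x) : D.res φ m = D.res φ' m := by
  subst h; rfl

theorem eq_zero {x : AObj 𝒳} (𝒰 : Cover x.1) (m : D.H x) (h0 : ∀ l, D.res (x' := memb 𝒰 l) (𝒰.map l) m = 0) :
    m = 0 := by
  letI := fun l => (fnMap (𝒰.map l)).toAlgebra
  haveI := 𝒰.affine
  haveI := fun l => Groth.L19.QCohFpqc.IsCov.flat_appTop (fun l => bmap 𝒳 (𝒰.map l)) 𝒰.cov l
  refine Groth.L19.QCohFpqc.eq_zero_of_forall (fun l => Fn (𝒰.obj l))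
    (Groth.L19.QCohFpqc.IsCov.prime_lift (fun l => bmap 𝒳 (𝒰.map l)) 𝒰.cov) m fun l => ?_
  obtain ⟨E, hE⟩ := D.bc (x' := memb 𝒰 l) (𝒰.map l) (𝒰.cov.flat l)
  refine E.injective ?_
  rw [hE, h0 l, smul_zero, map_zero]

theorem ext {x : AObj 𝒳} (𝒰 : Cover x.1) (m m' : D.H x)
    (h : ∀ l, D.res (x' := memb 𝒰 l) (𝒰.map l) m = D.res (x' := memb 𝒰 l) (𝒰.map l) m') : m = m' := by
  refine sub_eq_zero.1 (D.eq_zero 𝒰 _ fun l => ?_)
  rw [map_sub, h l, sub_self]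

/-- Base change along a square with a flat side. -/
theorem exists_bcSquare {q a b x : AObj 𝒳} {c : a.1 ⟶ x.1} {d : b.1 ⟶ x.1} {p₁ : q.1 ⟶ a.1} {p₂ : q.1 ⟶ b.1}
    (H : IsPullback (bmap 𝒳 p₁) (bmap 𝒳 p₂) (bmap 𝒳 c) (bmap 𝒳 d)) (hc : Flat (bmap 𝒳 c)) :
    letI := (fnMap c).toAlgebra
    letI := Module.compHom (D.H b) (fnMap d)
    ∃ E : Fn a.1 ⊗[Fn x.1] D.H b ≃+ D.H q, ∀ r m, E (r ⊗ₜ m) = fnMap p₁ r • D.res p₂ m := by
  letI := (fnMap c).toAlgebra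
  letI := (fnMap d).toAlgebra
  letI := (fnMap p₂).toAlgebra
  letI := (fnMap p₁).toAlgebra
  letI : Algebra (Fn x.1) (Fn q.1) := ((fnMap p₁).comp (fnMap c)).toAlgebra
  haveI : IsScalarTower (Fn x.1) (Fn a.1) (Fn q.1) := IsScalarTower.of_algebraMap_eq fun _ => rfl
  have hsq := isPushout_appTop_of_isPullback H
  haveI : IsScalarTower (Fn x.1) (Fn b.1) (Fn q.1) := IsScalarTower.of_algebraMap_eq fun r => by
    exact congr($(hsq.w) r)
  letI := Module.compHom (D.H b) (fnMap d)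
  haveI : IsScalarTower (Fn x.1) (Fn b.1) (D.H b) := IsScalarTower.of_algebraMap_smul fun _ _ => rfl
  haveI : Algebra.IsPushout (Fn x.1) (Fn a.1) (Fn b.1) (Fn q.1) := CommRingCat.isPushout_iff_isPushout.mp hsq
  obtain ⟨E, hE⟩ := D.bc p₂ (MorphismProperty.of_isPullback H hc)
  refine ⟨(Algebra.IsPushout.cancelBaseChange (Fn x.1) (Fn a.1) (Fn b.1) (Fn q.1) (D.H b)).symm.toAddEquiv.trans E,
    fun r m => ?_⟩
  show E ((Algebra.IsPushout.cancelBaseChange (Fn x.1) (Fn a.1) (Fn b.1) (Fn q.1) (D.H b)).symm (r ⊗ₜ m)) = _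
  rw [Algebra.IsPushout.cancelBaseChange_symm_tmul, hE]
  rfl

set_option maxHeartbeats 800000 in
/-- Gluing along a finite flat cover. -/
theorem exists_glue (h : FibCat.IsFibGrpd 𝒳.p) {x : AObj 𝒳} (𝒰 : Cover x.1) [Finite 𝒰.ι]
    (y : ∀ l, D.H (memb 𝒰 l))
    (hy : ∀ (z : AObj 𝒳) (k l : 𝒰.ι) (p : z.1 ⟶ 𝒰.obj k) (q : z.1 ⟶ 𝒰.obj l),
      p ≫ 𝒰.map k = q ≫ 𝒰.map l → D.res (x := memb 𝒰 k) p (y k) = D.res (x := memb 𝒰 l) q (y l)) :
    ∃ m : D.H x, ∀ l, D.res (x' := memb 𝒰 l) (𝒰.map l) m = y l := by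
  classical
  haveI : Fintype 𝒰.ι := Fintype.ofFinite _
  haveI := 𝒰.affine
  letI := fun l => (fnMap (𝒰.map l)).toAlgebra
  haveI := fun l => Groth.L19.QCohFpqc.IsCov.flat_appTop (fun l => bmap 𝒳 (𝒰.map l)) 𝒰.cov l
  letI : ∀ l, Module (Fn x.1) (D.H (memb 𝒰 l)) := fun l => Module.compHom _ (fnMap (𝒰.map l))
  let Δ : D.H x →ₗ[Fn x.1] ∀ l, D.H (memb 𝒰 l) :=
    LinearMap.pi fun l =>
      { toFun := D.res (𝒰.map l), map_add' := map_add _, map_smul' := D.res_smul _ }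
  suffices hy' : y ∈ LinearMap.range Δ by
    obtain ⟨m, hm⟩ := hy'
    exact ⟨m, fun l => congrFun hm l⟩
  rw [← Submodule.Quotient.mk_eq_zero (LinearMap.range Δ)]
  refine Groth.L19.QCohFpqc.eq_zero_of_forall (A := Fn x.1) (fun k => Fn (𝒰.obj k))
    (Groth.L19.QCohFpqc.IsCov.prime_lift (fun l => bmap 𝒳 (𝒰.map l)) 𝒰.cov)
    (Q := (∀ l, D.H (memb 𝒰 l)) ⧸ LinearMap.range Δ) _ fun k => ?_
  obtain ⟨Ek, hEk⟩ := D.bc (x' := memb 𝒰 k) (𝒰.map k) (𝒰.cov.flat k)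
  obtain ⟨s, hs⟩ := Ek.surjective (y k)
  have hm : Δ.lTensor (Fn (𝒰.obj k)) s = (1 : Fn (𝒰.obj k)) ⊗ₜ y := by
    refine (TensorProduct.piRight (Fn x.1) (Fn x.1) (Fn (𝒰.obj k)) fun l => D.H (memb 𝒰 l)).injective ?_
    funext l
    obtain ⟨q, p₁, p₂, hw, H⟩ := exists_square h (𝒰.map k) (𝒰.map l)
    let q' : AObj 𝒳 := ⟨q, IsAffine.of_isIso H.isoPullback.hom⟩
    obtain ⟨E, hE⟩ := D.exists_bcSquare (q := q') (a := memb 𝒰 k) (b := memb 𝒰 l) H (𝒰.cov.flat k)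
    refine E.injective ?_
    have key : ∀ t, E ((TensorProduct.piRight (Fn x.1) (Fn x.1) (Fn (𝒰.obj k)) (fun l => D.H (memb 𝒰 l))
        (Δ.lTensor _ t)) l) = D.res (x' := q') (x := memb 𝒰 k) p₁ (Ek t) := fun t => by
      induction t using TensorProduct.induction_on with
      | zero => simp only [map_zero, Pi.zero_apply]
      | tmul c m =>
        rw [LinearMap.lTensor_tmul, TensorProduct.piRight_apply, TensorProduct.piRightHom_tmul, hE, hEk,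
          D.res_smul, D.res_comp, D.res_congr (x' := q') (x := x) hw]
        refine congrArg _ ?_
        show D.res (x' := q') (x := memb 𝒰 l) p₂ (D.res (𝒰.map l) m) = _
        rw [D.res_comp]
      | add a b ha hb => simp only [map_add, Pi.add_apply, ha, hb]
    rw [key, hs, TensorProduct.piRight_apply, TensorProduct.piRightHom_tmul, hE, map_one, one_smul]
    exact hy q' k l p₁ p₂ hw
  rw [show (Submodule.Quotient.mk y : _ ⧸ LinearMap.range Δ) = (LinearMap.range Δ).mkQ y from rfl,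
    ← LinearMap.lTensor_tmul, ← hm, ← LinearMap.comp_apply, ← LinearMap.lTensor_comp,
    LinearMap.range_mkQ_comp, LinearMap.lTensor_zero, LinearMap.zero_apply]

end FlatDatum

section Pull

variable (h : FibCat.IsFibGrpd 𝒳.p) {c : 𝒳.obj} (M : ModuleCat.{u} (Fn c))

/-- Transition of pullbacks along a morphism over the fixed object. -/
def pullTr {y' y : 𝒳.obj} (k : y' ⟶ y) {p : y ⟶ c} {p' : y' ⟶ c} (hk : k ≫ p = p') :
    Ext (fnMap p) M →+ Ext (fnMap p') M := tr (fnMap k) (fnMap_comp' hk) M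

theorem pullTr_ι {y' y : 𝒳.obj} (k : y' ⟶ y) {p : y ⟶ c} {p' : y' ⟶ c} (hk : k ≫ p = p') (m : M) :
    pullTr M k hk (ι (fnMap p) m) = ι (fnMap p') m := tr_ι _ _ _ _

theorem pullTr_smul {y' y : 𝒳.obj} (k : y' ⟶ y) {p : y ⟶ c} {p' : y' ⟶ c} (hk : k ≫ p = p') (r : Fn y)
    (e : Ext (fnMap p) M) : pullTr M k hk (r • e) = fnMap k r • pullTr M k hk e := tr_smul _ _ _ _ _

theorem pullTr_comp {y'' y' y : 𝒳.obj} (k' : y'' ⟶ y') (k : y' ⟶ y) {p : y ⟶ c} {p' : y' ⟶ c} {p'' : y'' ⟶ c}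
    (hk : k ≫ p = p') (hk' : k' ≫ p' = p'') (hkk : (k' ≫ k) ≫ p = p'') (e : Ext (fnMap p) M) :
    pullTr M k' hk' (pullTr M k hk e) = pullTr M (k' ≫ k) hkk e :=
  tr_tr _ _ _ _ _ _ (fnMap_comp k' k).symm M e

theorem pullTr_congr {y' y : 𝒳.obj} {k k' : y' ⟶ y} (e : k = k') {p : y ⟶ c} {p' : y' ⟶ c} (hk : k ≫ p = p')
    (hk' : k' ≫ p = p') (m : Ext (fnMap p) M) : pullTr M k hk m = pullTr M k' hk' m := by
  subst e; rfl

theorem pullTr_id {y : 𝒳.obj} {p : y ⟶ c} (hk : 𝟙 y ≫ p = p) (m : Ext (fnMap p) M) : pullTr M (𝟙 y) hk m = m := by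
  have e : fnMap (𝟙 y) = RingHom.id (Fn y) := by
    rw [fnMap, bmap_id, Scheme.Hom.id_appTop]; rfl
  have key : ∀ (τ : Fn y →+* Fn y) (hτ : τ.comp (fnMap p) = fnMap p), τ = RingHom.id _ → tr τ hτ M m = m := by
    intro τ hτ e; subst e; exact tr_id M hτ m
  exact key _ _ e

/-- The pullback to an object of the slice. -/
abbrev pullM (s : (Sl c).obj) : ModuleCat.{u} (Fn s) := Ext (A := Fn c) (B := Fn s.left) (fnMap (𝒳 := 𝒳) (x' := s.left) (x := c) s.hom) M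

/-- The transition of pullbacks as a semilinear map. -/
def pullT {s' s : (Sl c).obj} (β : s' ⟶ s) : pullM M s →ₛₗ[fnMap β] pullM M s' where
  toFun := pullTr M β.left (CostructuredArrow.w β)
  map_add' := map_add _
  map_smul' := pullTr_smul M β.left (CostructuredArrow.w β)

theorem exists_pullT_equiv {s' s : (Sl c).obj} (β : s' ⟶ s) :
    letI := (fnMap β).toAlgebra
    ∃ E : Fn s' ⊗[Fn s] pullM M s ≃+ pullM M s', ∀ r m, E (r ⊗ₜ m) = r • pullT M β m :=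
  exists_trEquiv (fnMap β.left) (fnMap_comp' (CostructuredArrow.w β)) M

/-- Pullbacks of a module form a datum on the pieces of the slice. -/
def pullDatum : PDatum.{max w v} (Sl c) where
  fib := isFibGrpd_sl h
  J := {s : (Sl c).obj // IsAffine (sch (Sl c) s)}
  o s := s.1
  aff s := s.2
  lift z hz _ _ := ⟨⟨z, hz⟩, ⟨Iso.refl z⟩⟩
  loc z hz := ⟨PUnit, inferInstance, fun _ => ⟨z, hz⟩, fun _ => 𝟙 z,
    ⟨fun _ => by rw [bmap_id]; infer_instance, fun q => ⟨⟨⟩, q, by rw [bmap_id]; rfl⟩⟩⟩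
  M s := pullM M s.1
  T β := pullT M β
  T_id s m := pullTr_id M (p := (s.1.hom : s.1.left ⟶ c)) (Category.id_comp _) m
  T_comp β γ m := pullTr_comp M β.left γ.left (CostructuredArrow.w γ) (CostructuredArrow.w β) (CostructuredArrow.w (β ≫ γ)) m
  bc β := exists_pullT_equiv M β

variable {M}

include h in
theorem pull_ext {y : 𝒳.obj} (hy : IsAffine (sch 𝒳 y)) (𝒰 : Cover y) (p : y ⟶ c) (e e' : Ext (fnMap p) M)
    (he : ∀ l, pullTr M (𝒰.map l) (p' := 𝒰.map l ≫ p) rfl e = pullTr M (𝒰.map l) rfl e') : e = e' :=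
  (pullDatum h M).ext' (j := Subtype.mk (slMk p) hy)
    ⟨𝒰.ι, fun l => Subtype.mk (slMk (𝒰.map l ≫ p)) (𝒰.affine l), fun l => slHom (𝒰.map l) rfl, 𝒰.cov⟩ e e' he

include h in
theorem pull_glue {y : 𝒳.obj} (hy : IsAffine (sch 𝒳 y)) (𝒰 : Cover y) [Finite 𝒰.ι] (p : y ⟶ c)
    (e : ∀ l, Ext (fnMap (𝒰.map l ≫ p)) M)
    (he : ∀ (z : 𝒳.obj) (_ : IsAffine (sch 𝒳 z)) (k l : 𝒰.ι) (a : z ⟶ 𝒰.obj k) (b : z ⟶ 𝒰.obj l) (q : z ⟶ c)
      (ha : a ≫ 𝒰.map k ≫ p = q) (hb : b ≫ 𝒰.map l ≫ p = q), a ≫ 𝒰.map k = b ≫ 𝒰.map l →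
        pullTr M a ha (e k) = pullTr M b hb (e l)) :
    ∃ m : Ext (fnMap p) M, ∀ l, pullTr M (𝒰.map l) rfl m = e l := by
  let 𝒱 : PCov (pullDatum h M).toPieces (slMk p) :=
    ⟨𝒰.ι, fun l => Subtype.mk (slMk (𝒰.map l ≫ p)) (𝒰.affine l), fun l => slHom (𝒰.map l) rfl, 𝒰.cov⟩
  haveI : Finite 𝒱.ι := ‹Finite 𝒰.ι›
  exact (pullDatum h M).exists_glue (j := Subtype.mk (slMk p) hy) 𝒱 e fun z k l a b hab =>
    he z.1.left z.2 k l a.left b.left z.1.hom (CostructuredArrow.w a) (CostructuredArrow.w b)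
      (congrArg CommaMorphism.left hab)

end Pull

end Groth.L09.CohAffBC
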