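import Mathlib.Algebra.Category.ModuleCat.Basic
import Mathlib.RingTheory.IsTensorProduct
import Mathlib.LinearAlgebra.TensorProduct.Tower
import Mathlib.RingTheory.Flat.Basic

/-!
# Extension of scalars along a ring homomorphism, with its universal property for semilinear maps
-/

universe u u' u''

set_option linter.style.haveILetI false
set_option linter.unusedVariables false

open scoped TensorProduct

noncomputable section

namespace Groth.L09.CohAffBC

variable {A B : Type u} [CommRing A] [CommRing B]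

/-- Extension of scalars. -/
def Ext (σ : A →+* B) (M : ModuleCat.{u} A) : ModuleCat.{u} B :=
  letI := σ.toAlgebra
  ModuleCat.of B (B ⊗[A] M)

/-- The canonical map to the extension of scalars. -/
def ι (σ : A →+* B) {M : ModuleCat.{u} A} : M →+ Ext σ M :=
  letI := σ.toAlgebra
  (TensorProduct.mk A B M 1).toAddMonoidHom

theorem ι_smul (σ : A →+* B) {M : ModuleCat.{u} A} (a : A) (m : M) : ι σ (a • m) = σ a • ι σ m := by
  letI := σ.toAlgebra
  show (1 : B) ⊗ₜ[A] (a • m) = σ a • ((1 : B) ⊗ₜ[A] m)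
  rw [TensorProduct.tmul_smul]
  exact (algebraMap_smul B a _).symm

@[elab_as_elim]
theorem Ext.induction {σ : A →+* B} {M : ModuleCat.{u} A} {P : Ext σ M → Prop} (y : Ext σ M) (h0 : P 0)
    (hι : ∀ (b : B) (m : M), P (b • ι σ m)) (hadd : ∀ y z, P y → P z → P (y + z)) : P y := by
  letI := σ.toAlgebra
  refine TensorProduct.induction_on (motive := P) y h0 (fun b m => ?_) hadd
  have e : b • ((1 : B) ⊗ₜ[A] m) = b ⊗ₜ[A] m := by rw [TensorProduct.smul_tmul', smul_eq_mul, mul_one]
  exact e ▸ hι b m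

variable {C : Type u'} [CommRing C] {N : Type u''} [AddCommGroup N] [Module C N]

/-- The additive map out of an extension of scalars induced by a semilinear map. -/
def lift (σ : A →+* B) {M : ModuleCat.{u} A} (τ : B →+* C) (f : M →+ N)
    (hf : ∀ a m, f (a • m) = τ (σ a) • f m) : Ext σ M →+ N :=
  letI := σ.toAlgebra
  TensorProduct.liftAddHom
    { toFun := fun b => { toFun := fun m => τ b • f m, map_zero' := by rw [map_zero, smul_zero]
                          map_add' := fun m n => by rw [map_add, smul_add] }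
      map_zero' := AddMonoidHom.ext fun m => by show τ 0 • f m = 0; rw [map_zero, zero_smul]
      map_add' := fun b c => AddMonoidHom.ext fun m => by
        show τ (b + c) • f m = τ b • f m + τ c • f m
        rw [map_add, add_smul] }
    (fun a b m => by
      show τ (a • b) • f m = τ b • f (a • m)
      rw [hf, smul_smul, ← map_mul, Algebra.smul_def, mul_comm]
      rfl)

theorem lift_smul_ι (σ : A →+* B) {M : ModuleCat.{u} A} (τ : B →+* C) (f : M →+ N)
    (hf : ∀ a m, f (a • m) = τ (σ a) • f m) (b : B) (m : M) : lift σ τ f hf (b • ι σ m) = τ b • f m := by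
  letI := σ.toAlgebra
  show lift σ τ f hf (b • ((1 : B) ⊗ₜ[A] m)) = _
  rw [TensorProduct.smul_tmul', smul_eq_mul, mul_one]
  rfl

theorem lift_ι (σ : A →+* B) {M : ModuleCat.{u} A} (τ : B →+* C) (f : M →+ N)
    (hf : ∀ a m, f (a • m) = τ (σ a) • f m) (m : M) : lift σ τ f hf (ι σ m) = f m := by
  have h := lift_smul_ι σ τ f hf 1 m
  rwa [one_smul, map_one, one_smul] at h

theorem lift_smul (σ : A →+* B) {M : ModuleCat.{u} A} (τ : B →+* C) (f : M →+ N)
    (hf : ∀ a m, f (a • m) = τ (σ a) • f m) (b : B) (y : Ext σ M) :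
    lift σ τ f hf (b • y) = τ b • lift σ τ f hf y := by
  refine Ext.induction y ?_ (fun c m => ?_) fun y z hy hz => ?_
  · rw [smul_zero, map_zero, smul_zero]
  · rw [smul_smul, lift_smul_ι, lift_smul_ι, map_mul, mul_smul]
  · rw [smul_add, map_add, hy, hz, map_add, smul_add]

theorem lift_ext {σ : A →+* B} {M : ModuleCat.{u} A} (f g : Ext σ M →+ N) (τ : B →+* C)
    (hfs : ∀ b y, f (b • y) = τ b • f y) (hgs : ∀ b y, g (b • y) = τ b • g y)
    (h : ∀ m, f (ι σ m) = g (ι σ m)) (y : Ext σ M) : f y = g y := by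
  refine Ext.induction y (by rw [map_zero, map_zero]) (fun c m => ?_) fun y z hy hz => ?_
  · rw [hfs, hgs, h]
  · rw [map_add, map_add, hy, hz]

section Transition

variable {D : Type u} [CommRing D]

/-- Transition between extensions of scalars. -/
def tr {σ : A →+* B} {σ' : A →+* D} (τ : B →+* D) (h : τ.comp σ = σ') (M : ModuleCat.{u} A) :
    Ext σ M →+ Ext σ' M :=
  lift σ τ (ι σ') fun a m => by rw [ι_smul, ← h]; rfl

theorem tr_ι {σ : A →+* B} {σ' : A →+* D} (τ : B →+* D) (h : τ.comp σ = σ') (M : ModuleCat.{u} A) (m : M) :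
    tr τ h M (ι σ m) = ι σ' m := lift_ι _ _ _ _ _

theorem tr_smul {σ : A →+* B} {σ' : A →+* D} (τ : B →+* D) (h : τ.comp σ = σ') (M : ModuleCat.{u} A) (b : B)
    (y : Ext σ M) : tr τ h M (b • y) = τ b • tr τ h M y := lift_smul _ _ _ _ _ _

theorem tr_tr {E : Type u} [CommRing E] {σ : A →+* B} {σ' : A →+* D} {σ'' : A →+* E} (τ : B →+* D) (h : τ.comp σ = σ')
    (τ' : D →+* E) (h' : τ'.comp σ' = σ'') (τ'' : B →+* E) (h'' : τ''.comp σ = σ'') (hτ : τ'.comp τ = τ'')
    (M : ModuleCat.{u} A) (y : Ext σ M) : tr τ' h' M (tr τ h M y) = tr τ'' h'' M y := by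
  refine lift_ext ((tr τ' h' M).comp (tr τ h M)) (tr τ'' h'' M) τ'' (fun b y => ?_) (tr_smul _ _ _) (fun m => ?_) y
  · simp only [AddMonoidHom.coe_comp, Function.comp_apply, tr_smul, ← hτ]
    rfl
  · simp only [AddMonoidHom.coe_comp, Function.comp_apply, tr_ι]

theorem tr_id {σ : A →+* B} (M : ModuleCat.{u} A) (h : (RingHom.id B).comp σ = σ) (y : Ext σ M) :
    tr (RingHom.id B) h M y = y :=
  lift_ext (tr (RingHom.id B) h M) (AddMonoidHom.id _) (RingHom.id B) (tr_smul _ _ _) (fun _ _ => rfl)
    (fun m => tr_ι _ _ _ _) y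

/-- The transition is a base change. -/
theorem exists_trEquiv {σ : A →+* B} {σ' : A →+* D} (τ : B →+* D) (h : τ.comp σ = σ') (M : ModuleCat.{u} A) :
    letI := τ.toAlgebra
    ∃ E : D ⊗[B] Ext σ M ≃+ Ext σ' M, ∀ r y, E (r ⊗ₜ y) = r • tr τ h M y := by
  letI := τ.toAlgebra
  let f : D ⊗[B] Ext σ M →+ Ext σ' M :=
    TensorProduct.liftAddHom
      { toFun := fun r => { toFun := fun y => r • tr τ h M y, map_zero' := by rw [map_zero, smul_zero]
                            map_add' := fun y z => by rw [map_add, smul_add] }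
        map_zero' := AddMonoidHom.ext fun y => zero_smul _ _
        map_add' := fun r s => AddMonoidHom.ext fun y => add_smul _ _ _ }
      (fun b r y => by
        show (b • r) • tr τ h M y = r • tr τ h M (b • y)
        rw [tr_smul, smul_smul, Algebra.smul_def, mul_comm]
        rfl)
  have hf : ∀ r y, f (r ⊗ₜ y) = r • tr τ h M y := fun r y => rfl
  let g : Ext σ' M →+ D ⊗[B] Ext σ M :=
    lift σ' (RingHom.id D) ((TensorProduct.mk B D (Ext σ M) 1).toAddMonoidHom.comp (ι σ)) fun a m => by
      show (1 : D) ⊗ₜ[B] ι σ (a • m) = σ' a • ((1 : D) ⊗ₜ[B] ι σ m)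
      rw [ι_smul, TensorProduct.tmul_smul, ← algebraMap_smul D (σ a), ← h]
      rfl
  have hg : ∀ (r : D) (y : Ext σ' M), g (r • y) = r • g y := fun r y => lift_smul _ _ _ _ r y
  have h1 : ∀ y, f (g y) = y := fun y => by
    refine Ext.induction y (by rw [map_zero, map_zero]) (fun r m => ?_) fun y z hy hz => by rw [map_add, map_add, hy, hz]
    rw [hg, show g (ι σ' m) = (1 : D) ⊗ₜ[B] ι σ m from lift_ι _ _ _ _ m, TensorProduct.smul_tmul', smul_eq_mul,
      mul_one, hf, tr_ι]
  have h2 : ∀ z, g (f z) = z := fun z => by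
    induction z using TensorProduct.induction_on with
    | zero => rw [map_zero, map_zero]
    | tmul r y =>
      rw [hf, hg]
      have hy : g (tr τ h M y) = (1 : D) ⊗ₜ[B] y := by
        refine Ext.induction y (by rw [map_zero, map_zero, TensorProduct.tmul_zero]) (fun b m => ?_) fun y z hy hz => by
          rw [map_add, map_add, hy, hz, TensorProduct.tmul_add]
        rw [tr_smul, hg, tr_ι, show g (ι σ' m) = (1 : D) ⊗ₜ[B] ι σ m from lift_ι _ _ _ _ m, TensorProduct.tmul_smul,
          ← algebraMap_smul D b]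
        rfl
      rw [hy, TensorProduct.smul_tmul', smul_eq_mul, mul_one]
    | add x y hx hy => rw [map_add, map_add, hx, hy]
  exact ⟨AddMonoidHom.toAddEquiv f g (AddMonoidHom.ext h2) (AddMonoidHom.ext h1), hf⟩

end Transition

/-- A semilinear map realised by a base change equivalence induces a bijection. -/
theorem bijective_lift_of_equiv (σ : A →+* B) {M : ModuleCat.{u} A} {N : ModuleCat.{u} B} (f : M →+ N)
    (hf : ∀ a m, f (a • m) = (RingHom.id B) (σ a) • f m)
    (h : letI := σ.toAlgebra; ∃ E : B ⊗[A] M ≃+ N, ∀ r m, E (r ⊗ₜ m) = r • f m) :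
    Function.Bijective (lift σ (RingHom.id B) f hf) := by
  letI := σ.toAlgebra
  obtain ⟨E, hE⟩ := h
  have e : ∀ y, lift σ (RingHom.id B) f hf y = E y := fun y => by
    refine Ext.induction y (by rw [map_zero]; exact E.map_zero.symm) (fun b m => ?_) fun y z hy hz => ?_
    · rw [lift_smul_ι]
      show b • f m = E (b • ((1 : B) ⊗ₜ[A] m))
      rw [TensorProduct.smul_tmul', smul_eq_mul, mul_one, hE]
    · rw [map_add, hy, hz]
      exact (E.map_add y z).symm
  rw [show (lift σ (RingHom.id B) f hf : Ext σ M → N) = fun y => E y from funext e]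
  exact E.bijective

end Groth.L09.CohAffBC
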