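import Groth.Agent.L09.CohAffBC.QCoh
import Groth.Agent.L23.CohAff.Local

/-!
# Compatible families of a datum, images of morphisms of data, and lifting of families
-/

universe t w v u

open CategoryTheory CategoryTheory.Limits AlgebraicGeometry Opposite TopologicalSpace
open scoped TensorProduct

set_option backward.isDefEq.respectTransparency false
set_option backward.isDefEq.respectTransparency.types false
set_option linter.style.haveILetI false
set_option linter.unusedSectionVars false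
set_option linter.unusedVariables false

noncomputable section

namespace Groth.L09.CohAffBC

open StMod Groth.L23.RelGen Groth.L23.CohAff

variable {S : Scheme.{u}} {𝒵 : BasedCategory.{v, w} (Over S)}

/-- A compatible family at affine objects. -/
def IsFam (D : FlatDatum 𝒵) (m : ∀ x : AObj 𝒵, D.H x) : Prop :=
  ∀ {x' x : AObj 𝒵} (φ : x'.1 ⟶ x.1), D.res φ (m x) = m x'

namespace DHom

variable {D D' : FlatDatum 𝒵} (f : DHom D D')

/-- The map as a linear map. -/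
def lin (x : AObj 𝒵) : D.H x →ₗ[Fn x.1] D'.H x where
  toFun := f.f x
  map_add' := map_add _
  map_smul' := f.f_smul x

/-- The image at an object. -/
abbrev imgMod (x : AObj 𝒵) : Submodule (Fn x.1) (D'.H x) := LinearMap.range (f.lin x)

/-- Restriction of images. -/
def imgRes' {x' x : AObj 𝒵} (φ : x'.1 ⟶ x.1) : f.imgMod x →+ f.imgMod x' where
  toFun m := ⟨D'.res φ m.1, by
    obtain ⟨_, s, rfl⟩ := m
    exact ⟨D.res φ s, f.f_res φ s⟩⟩
  map_zero' := Subtype.ext (map_zero _)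
  map_add' a b := Subtype.ext (map_add _ _ _)

theorem img_bc' {x' x : AObj 𝒵} (φ : x'.1 ⟶ x.1) (hφ : Flat (bmap 𝒵 φ)) :
    letI := (fnMap φ).toAlgebra
    ∃ E : Fn x'.1 ⊗[Fn x.1] f.imgMod x ≃+ f.imgMod x', ∀ a m, E (a ⊗ₜ m) = a • f.imgRes' φ m := by
  haveI := hφ
  letI := (fnMap φ).toAlgebra
  haveI : Module.Flat (Fn x.1) (Fn x'.1) := fnMap_flat φ
  obtain ⟨EF, hEF⟩ := D.bc φ hφ
  obtain ⟨EG, hEG⟩ := D'.bc φ hφ
  let Ψ : Fn x'.1 ⊗[Fn x.1] f.imgMod x →+ D'.H x' :=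
    EG.toAddMonoidHom.comp ((f.imgMod x).subtype.lTensor (Fn x'.1)).toAddMonoidHom
  have hΨ : ∀ a m, Ψ (a ⊗ₜ m) = a • D'.res φ m.1 := fun a m => hEG a m.1
  have hmem : ∀ t, Ψ t ∈ f.imgMod x' := fun t => by
    induction t using TensorProduct.induction_on with
    | zero => rw [map_zero]; exact zero_mem _
    | tmul a m => rw [hΨ]; exact Submodule.smul_mem _ _ (f.imgRes' φ m).2
    | add a b ha hb => rw [map_add]; exact add_mem ha hb
  refine ⟨AddEquiv.ofBijective (Ψ.codRestrict (f.imgMod x').toAddSubmonoid hmem) ⟨fun s t e => ?_, fun m => ?_⟩,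
    fun a m => Subtype.ext (hΨ a m)⟩
  · exact Module.Flat.lTensor_preserves_injective_linearMap _ (f.imgMod x).injective_subtype
      (EG.injective (congrArg Subtype.val e))
  · obtain ⟨_, s, rfl⟩ := m
    obtain ⟨t, rfl⟩ := EF.surjective s
    refine ⟨(f.lin x).rangeRestrict.lTensor (Fn x'.1) t, Subtype.ext ?_⟩
    show Ψ _ = f.lin x' (EF t)
    induction t using TensorProduct.induction_on with
    | zero => simp only [map_zero]
    | tmul a s => rw [LinearMap.lTensor_tmul, hΨ, hEF, map_smul]; exact congrArg _ (f.f_res φ s).symm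
    | add a b ha hb => simp only [map_add, ha, hb]

/-- The image datum. -/
def imgDatum : FlatDatum 𝒵 where
  H x := ModuleCat.of (Fn x.1) (f.imgMod x)
  res φ := f.imgRes' φ
  res_smul φ r m := Subtype.ext (D'.res_smul φ r m.1)
  res_comp ψ φ m := Subtype.ext (D'.res_comp ψ φ m.1)
  bc φ hφ := f.img_bc' φ hφ

/-- The map onto the image. -/
def toImgDatum : DHom D f.imgDatum where
  f x := (f.lin x).rangeRestrict.toAddMonoidHom
  f_smul x r m := (f.lin x).rangeRestrict.map_smul r m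
  f_res φ m := Subtype.ext (f.f_res φ m)

theorem toImgDatum_surjective (x : AObj 𝒵) : Function.Surjective (f.toImgDatum.f x) := fun ⟨_, s, hs⟩ =>
  ⟨s, Subtype.ext hs⟩

theorem toImgDatum_val (x : AObj 𝒵) (m : D.H x) : (f.toImgDatum.f x m).1 = f.f x m := rfl

end DHom

namespace FlatChart

variable (C : FlatChart.{t} 𝒵)

/-- A compatible family comes from a global section. -/
theorem exists_glob (D : FlatDatum 𝒵) {m : ∀ x : AObj 𝒵, D.H x} (hm : IsFam D m) :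
    ∃ τ : (C.qcoh D).obj.GlobSect, ∀ x : AObj 𝒵, C.eps D x (τ.1 x.1) = m x := by
  let L := C.qcoh D
  have hflat : ∀ i, Flat (bmap 𝒵 (𝟙 (C.x i).1)) := fun i => by rw [bmap_id]; infer_instance
  let pre : ∀ i, Sec L.obj (C.x i).1 := fun i =>
    (AddEquiv.ofBijective _ (C.eps_bijective D (𝟙 (C.x i).1) (hflat i))).symm (m (C.x i))
  have hpre : ∀ i, C.eps D (C.x i) (pre i) = m (C.x i) := fun i =>
    (AddEquiv.ofBijective _ (C.eps_bijective D (𝟙 (C.x i).1) (hflat i))).apply_symm_apply _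
  have hag : ∀ (z : AObj 𝒵) (i k : C.I) (a : z.1 ⟶ (C.x i).1) (b : z.1 ⟶ (C.x k).1),
      L.obj.mapTop a (pre i) = L.obj.mapTop b (pre k) := by
    intro z i k a b
    obtain ⟨𝒰, -, h𝒰⟩ := C.pairs z i k a b
    refine 𝒰.ext L.property.1 L.property.2 _ _ fun l => ?_
    obtain ⟨c, s, hsa, hsb⟩ := h𝒰 l
    rw [← Mod.mapTop_comp, ← Mod.mapTop_comp, ← hsa, ← hsb, Mod.mapTop_comp, Mod.mapTop_comp]
    refine congrArg _ ((C.eps_bijective D (x := C.ov c) (C.a c) (C.flat_a c)).1 ?_)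
    rw [C.eps_mapTop D, C.eps_mapTop D, hpre, hpre, hm, hm]
  have hex : ∀ x : AObj 𝒵, ∃ s : Sec L.obj x.1,
      ∀ (z : AObj 𝒵) (ψ : z.1 ⟶ x.1) (i : C.I) (a : z.1 ⟶ (C.x i).1),
        L.obj.mapTop ψ s = L.obj.mapTop a (pre i) := by
    intro x
    obtain ⟨𝒰, hfin, h𝒰⟩ := C.loc x
    haveI := hfin
    choose i a using h𝒰
    obtain ⟨s, hs⟩ := 𝒰.exists_glue C.fib L.property.1 L.property.2 (fun l => L.obj.mapTop (a l).some (pre (i l)))
      fun z hz k l p q e => by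
        rw [← Mod.mapTop_comp, ← Mod.mapTop_comp]
        exact hag ⟨z, hz⟩ _ _ _ _
    refine ⟨s, fun z ψ i' a' => ?_⟩
    obtain ⟨𝒲, -, h𝒲⟩ := 𝒰.exists_pullback C.fib ψ
    refine 𝒲.ext L.property.1 L.property.2 _ _ fun n => ?_
    obtain ⟨k, b, hb⟩ := h𝒲 n
    rw [← Mod.mapTop_comp, ← hb, Mod.mapTop_comp, hs, ← Mod.mapTop_comp, ← Mod.mapTop_comp]
    exact hag (memb 𝒲 n) _ _ _ _
  choose f hf using hex
  have hfn : ∀ {x' x : AObj 𝒵} (φ : x'.1 ⟶ x.1), L.obj.mapTop φ (f x) = f x' := by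
    intro x' x φ
    obtain ⟨𝒰, -, h𝒰⟩ := C.loc x'
    refine 𝒰.ext L.property.1 L.property.2 _ _ fun l => ?_
    obtain ⟨i, ⟨a⟩⟩ := h𝒰 l
    rw [← Mod.mapTop_comp, hf x (memb 𝒰 l) _ i a, hf x' (memb 𝒰 l) _ i a]
  have hfe : ∀ x : AObj 𝒵, C.eps D x (f x) = m x := by
    intro x
    obtain ⟨𝒰, -, h𝒰⟩ := C.loc x
    refine D.ext 𝒰 _ _ fun l => ?_
    obtain ⟨i, ⟨a⟩⟩ := h𝒰 l
    rw [← C.eps_mapTop D (x' := memb 𝒰 l), hf x (memb 𝒰 l) _ i a, C.eps_mapTop D (x' := memb 𝒰 l), hpre, hm, hm]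
  have hval : ∀ ξ : 𝒵.obj, ∃ s : Sec L.obj ξ,
      ∀ (y : 𝒵.obj) (hy : IsAffine (sch 𝒵 y)) (r : y ⟶ ξ), L.obj.mapTop r s = f ⟨y, hy⟩ :=
    fun ξ => exists_sec_of_affine C.fib L.property.1 (fun y hy r => f ⟨y, hy⟩)
      fun y' y hy' hy k r => hfn (x' := ⟨y', hy'⟩) (x := ⟨y, hy⟩) k
  choose s hs using hval
  refine ⟨⟨s, fun ξ' ξ φ => sec_ext C.fib L.property.1 fun y hy r => ?_⟩, fun x => ?_⟩
  · rw [← Mod.mapTop_comp, hs _ y hy, hs _ y hy]
  · show C.eps D x (s x.1) = m x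
    have h := hs x.1 x.1 x.2 (𝟙 x.1)
    rw [Mod.mapTop_id] at h
    rw [h]
    exact hfe x

theorem isFam_eps (D : FlatDatum 𝒵) (τ : (C.qcoh D).obj.GlobSect) :
    IsFam D fun x => C.eps D x (τ.1 x.1) := fun φ => by rw [← C.eps_mapTop D, τ.2 φ]

include C in
/-- Families lift along surjections of data, when global sections of modules do. -/
theorem exists_fam_lift
    (h : ∀ ⦃A B : StMod.QCoh 𝒵⦄ (u : A ⟶ B), Mod.IsSurj u.hom → Function.Surjective (Mod.globSectMap u.hom))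
    {D D' : FlatDatum 𝒵} (f : DHom D D') (hf : ∀ x, Function.Surjective (f.f x))
    {m' : ∀ x : AObj 𝒵, D'.H x} (hm' : IsFam D' m') :
    ∃ m : ∀ x : AObj 𝒵, D.H x, IsFam D m ∧ ∀ x, f.f x (m x) = m' x := by
  obtain ⟨ψ, hψ, hψs⟩ := C.exists_map f
  obtain ⟨τ, hτ⟩ := C.exists_glob D' hm'
  obtain ⟨σ, hσ⟩ := h ψ (hψs fun i => hf _) τ
  refine ⟨fun x => C.eps D x (σ.1 x.1), C.isFam_eps D σ, fun x => ?_⟩
  rw [← hψ x, ← hτ x]
  exact congrArg (C.eps D' x) (congrFun (congrArg Subtype.val hσ) x.1)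

end FlatChart

end Groth.L09.CohAffBC
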