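import Groth.Agent.L09.CohAffBC.Agree
import Groth.Agent.L23.CohAff.Transfer
import Mathlib.AlgebraicGeometry.Limits

/-!
# The category over an affine object etale over the new base, over the original stack
-/

universe u

open CategoryTheory CategoryTheory.Limits AlgebraicGeometry Opposite TopologicalSpace AlgSp

set_option backward.isDefEq.respectTransparency false
set_option backward.isDefEq.respectTransparency.types false
set_option linter.style.haveILetI false
set_option linter.unusedSectionVars false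
set_option linter.unusedVariables false
set_option maxHeartbeats 1000000

noncomputable section

namespace Groth.L09.CohAffBC

open StMod Groth.L23.RelGen Groth.L23.CohAff

variable {S : Scheme.{u}} {𝒳 : AlgSt.Cat S} {M M' : AlgSp.Sp S}

/-- Fibre products of quasi-compact schemes over the sheaf are quasi-compact. -/
def CompactFibres (M : AlgSp.Sp S) : Prop :=
  ∀ ⦃A B P : Over S⦄, CompactSpace A.left → CompactSpace B.left → ∀ ⦃a : (yon S).obj A ⟶ M⦄
    ⦃b : (yon S).obj B ⟶ M⦄ ⦃p₁ : P ⟶ A⦄ ⦃p₂ : P ⟶ B⦄,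
    IsPullback ((yon S).map p₁) ((yon S).map p₂) a b → CompactSpace P.left

variable (g : M' ⟶ M) (π : 𝒳 ⥤ᵇ AlgSt.ofSp M) (V : EtOver M')

/-- The category of the base change over the object. -/
abbrev Zc : AlgSt.Cat S := fibCat (FibCat.fpFst (AlgSt.ofSpMap g) π) (etaOf V)

/-- The functor to the original category. -/
abbrev jc : Zc g π V ⥤ᵇ 𝒳 :=
  BasedFunctor.comp (fibFst (FibCat.fpFst (AlgSt.ofSpMap g) π) (etaOf V)) (FibCat.fpSnd (AlgSt.ofSpMap g) π)

/-- The arrow to the image of the object. -/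
abbrev bArr (z : (Zc g π V).obj) : π.obj ((jc g π V).obj z) ⟶ (AlgSt.ofSpMap g).obj (etaOf V) :=
  imArr (η' := etaOf V) z.left z.hom

theorem bArr_natural {z' z : (Zc g π V).obj} (k : z' ⟶ z) :
    π.map ((jc g π V).map k) ≫ bArr g π V z = bArr g π V z' :=
  (imArr_natural k.left z.hom).trans (congrArg (imArr z'.left) (CostructuredArrow.w k))

/-- A morphism of the category is determined by its image. -/
theorem jc_injective {z' z : (Zc g π V).obj} {k k' : z' ⟶ z} (h : (jc g π V).map k = (jc g π V).map k') :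
    k = k' := by
  have h₂ : k.left.hom.snd = k'.left.hom.snd := h
  refine CostructuredArrow.hom_ext _ _ (ObjectProperty.hom_ext _ ?_)
  refine CategoryTheory.Limits.CategoricalPullback.Hom.ext ?_ h₂
  have e₁ := k.left.hom.w
  have e₂ := k'.left.hom.w
  rw [h₂] at e₁
  have e := (cancel_mono z.left.obj.iso.hom).1 (e₁.trans e₂.symm)
  exact Stk.EltObj.hom_ext (congrArg (fun f => f.hom) e : _)

/-- The scheme under the image of an object. -/
abbrev D (z : (Zc g π V).obj) : Over S := (π.obj ((jc g π V).obj z)).base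

/-- A morphism of the images lifts. -/
theorem exists_k (hX : FibCat.IsFibGrpd 𝒳.p) {v : 𝒳.obj} {z' z : (Zc g π V).obj}
    (γ' : (jc g π V).obj z' ⟶ v) (γ : (jc g π V).obj z ⟶ v) (d : D g π V z' ⟶ D g π V z)
    (ha : d ≫ (π.map γ).hom = (π.map γ').hom) (hb : d ≫ (bArr g π V z).hom = (bArr g π V z').hom) :
    ∃ k : z' ⟶ z, (jc g π V).map k ≫ γ = γ' ∧ (π.map ((jc g π V).map k)).hom = d := by
  obtain ⟨k₀, ⟨hk₀, hγ⟩, -⟩ := existsUnique_factor hX γ' γ
    (eqToHom (π.w_obj ((jc g π V).obj z')).symm ≫ d ≫ eqToHom (π.w_obj ((jc g π V).obj z))) (by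
      rw [map_hom, map_hom] at ha
      have h₂ := congrArg (fun f => f ≫ eqToHom (π.w_obj v)) ha
      simp only [Category.assoc, eqToHom_trans, eqToHom_refl, Category.comp_id] at h₂
      rw [Category.assoc, Category.assoc, h₂, eqToHom_trans_assoc, eqToHom_refl, Category.id_comp])
  have hd : (π.map k₀).hom = d := by
    rw [map_hom, hk₀]
    simp
  obtain ⟨k', hk', hk''⟩ := Groth.L23.CohAff.exists_hom (g := AlgSt.ofSpMap g) (π := π)
    (Groth.L24.St.ofSp_isFibGrpd M) (Groth.L24.St.ofSp_isFibGrpd M') (z' := z'.left) (z := z.left)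
    (η' := etaOf V) z'.hom z.hom k₀ (Stk.EltObj.hom_ext (by
      show (π.map k₀).hom ≫ (bArr g π V z).hom = (bArr g π V z').hom
      rw [hd, hb]))
  exact ⟨CostructuredArrow.homMk k' hk'', by
    show k'.hom.snd ≫ γ = γ'
    rw [hk', hγ], by
    show (π.map k'.hom.snd).hom = d
    rw [hk', hd]⟩

/-- Morphisms over a given one are determined by the maps of schemes. -/
theorem k_unique (hX : FibCat.IsFibGrpd 𝒳.p) {v : 𝒳.obj} {z' z : (Zc g π V).obj} (γ : (jc g π V).obj z ⟶ v)
    {k k' : z' ⟶ z} (h : (jc g π V).map k ≫ γ = (jc g π V).map k' ≫ γ)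
    (hd : (π.map ((jc g π V).map k)).hom = (π.map ((jc g π V).map k')).hom) : k = k' := by
  refine jc_injective g π V ?_
  rw [map_hom, map_hom] at hd
  have hp := (cancel_mono _).1 ((cancel_epi _).1 hd)
  exact (existsUnique_factor hX ((jc g π V).map k ≫ γ) γ (𝒳.p.map ((jc g π V).map k))
    (𝒳.p.map_comp _ _).symm).unique ⟨rfl, rfl⟩ ⟨hp.symm, h.symm⟩

/-- Objects over a given one from maps of schemes. -/
theorem exists_z (hX : FibCat.IsFibGrpd 𝒳.p) (v : 𝒳.obj) (T : Over S) (a : T ⟶ (π.obj v).base)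
    (b : T ⟶ V.obj.left) (h : (yon S).map a ≫ cls (π.obj v) = (yon S).map b ≫ V.obj.hom ≫ g) :
    ∃ (z : (Zc g π V).obj) (γ : (jc g π V).obj z ⟶ v) (e : D g π V z = T),
      (π.map γ).hom = eqToHom e ≫ a ∧ (bArr g π V z).hom = eqToHom e ≫ b := by
  obtain ⟨w, q, e, hq⟩ := exists_lift hX (x := v) (a ≫ eqToHom (π.w_obj v))
  have hπq : (π.map q).hom = eqToHom ((π.w_obj w).trans e) ≫ a := by
    rw [map_hom, hq]
    simp
  have hV : cls ((AlgSt.ofSpMap g).obj (etaOf V)) = V.obj.hom ≫ g := by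
    refine (AlgSp.J S).uliftYonedaEquiv.injective ?_
    rw [Equiv.apply_symm_apply, GrothendieckTopology.uliftYonedaEquiv_comp]
    rfl
  obtain ⟨b', hb'⟩ := exists_hom_of_cls (a := π.obj w) (b := (AlgSt.ofSpMap g).obj (etaOf V))
    (eqToHom ((π.w_obj w).trans e) ≫ b) (by
      rw [hV, Functor.map_comp, Category.assoc, ← h, ← Category.assoc, ← Functor.map_comp, ← hπq, cls_hom])
  obtain ⟨y, i, hi, α, hα⟩ := exists_obj (g := AlgSt.ofSpMap g) (π := π) (Groth.L24.St.ofSp_isFibGrpd M)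
    (Groth.L24.St.ofSp_isFibGrpd M') w b'
  let o : (FibCat.fp (AlgSt.ofSpMap g) π).obj := ⟨{ fst := y, snd := w, iso := i }, hi⟩
  refine ⟨CostructuredArrow.mk (S := (FibCat.fpFst (AlgSt.ofSpMap g) π).toFunctor) (Y := o) α, q,
    (π.w_obj w).trans e, hπq, ?_⟩
  show (i.inv ≫ (AlgSt.ofSpMap g).map α).hom = _
  rw [hα, hb']

variable {g π V} (hM : IsAlgSpace M) (hc : CompactFibres M)

theorem cls_bArr (z : (Zc g π V).obj) :
    (yon S).map (bArr g π V z).hom ≫ V.obj.hom ≫ g = cls (π.obj ((jc g π V).obj z)) := by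
  rw [← cls_hom (bArr g π V z)]
  refine congrArg _ ?_
  refine (AlgSp.J S).uliftYonedaEquiv.injective ?_
  rw [Equiv.apply_symm_apply, GrothendieckTopology.uliftYonedaEquiv_comp]
  rfl

include hM hc in
/-- The fibres over affine objects have atlases. -/
theorem exists_fibreAtlas (hX : FibCat.IsFibGrpd 𝒳.p) (hX' : FibCat.IsFibGrpd (FibCat.fp (AlgSt.ofSpMap g) π).p)
    (hV : IsAffine V.obj.left.left) (v : AObj 𝒳) : Nonempty (Atlas (fibCat (jc g π V) v.1)) := by
  classical
  haveI := hV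
  haveI : IsAffine (sch (AlgSt.ofSp M) (π.obj v.1)) := IsAffine.of_isIso (eqToHom (sch_obj_eq π v.1))
  haveI : IsAffine (π.obj v.1).base.left := ‹IsAffine (sch (AlgSt.ofSp M) (π.obj v.1))›
  have hr := hM.representable_from_yon (V.obj.hom ≫ g)
  let W := hr.pullback (cls (π.obj v.1))
  let w₁ : W ⟶ (π.obj v.1).base := hr.snd (cls (π.obj v.1))
  let w₂ : W ⟶ V.obj.left := (yon S).preimage (hr.fst (cls (π.obj v.1)))
  have hw₂ : (yon S).map w₂ = hr.fst (cls (π.obj v.1)) := (yon S).map_preimage _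
  have hsq₀ : IsPullback ((yon S).map w₂) ((yon S).map w₁) (V.obj.hom ≫ g) (cls (π.obj v.1)) := by
    rw [hw₂]
    exact hr.isPullback _
  haveI : CompactSpace W.left := hc inferInstance inferInstance hsq₀
  have hext : ∀ {T : Over S} (x y : T ⟶ W), x ≫ w₁ = y ≫ w₁ → x ≫ w₂ = y ≫ w₂ → x = y := by
    intro T x y h₁ h₂
    refine (yon S).map_injective (hsq₀.hom_ext ?_ ?_)
    · rw [← Functor.map_comp, ← Functor.map_comp, h₂]
    · rw [← Functor.map_comp, ← Functor.map_comp, h₁]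
  haveI : W.left.IsSeparated := by
    let f : W.left ⟶ pullback (terminal.from (π.obj v.1).base.left) (terminal.from V.obj.left.left) :=
      pullback.lift w₁.left w₂.left (Subsingleton.elim _ _)
    haveI : Mono f := ⟨fun {Z} x y h => by
      have h₁ : x ≫ w₁.left = y ≫ w₁.left := by simpa [f] using congrArg (fun k => k ≫ pullback.fst _ _) h
      have h₂ : x ≫ w₂.left = y ≫ w₂.left := by simpa [f] using congrArg (fun k => k ≫ pullback.snd _ _) h
      have hs : x ≫ W.hom = y ≫ W.hom := by rw [← Over.w w₁, ← Category.assoc, ← Category.assoc, h₁]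
      exact congrArg (fun k => k.left) (hext (T := Over.mk (x ≫ W.hom)) (Over.homMk x) (Over.homMk y hs.symm)
        (Over.OverMorphism.ext h₁) (Over.OverMorphism.ext h₂))⟩
    haveI : IsAffine (pullback (terminal.from (π.obj v.1).base.left) (terminal.from V.obj.left.left)) := inferInstance
    exact ⟨by rw [Subsingleton.elim (terminal.from W.left) (f ≫ terminal.from _)]; infer_instance⟩
  let 𝒲 := W.left.affineCover.finiteSubcover
  haveI : Fintype 𝒲.I₀ := inferInstance
  let Y₀ : Scheme.{u} := ∐ fun i : 𝒲.I₀ => 𝒲.X i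
  haveI : ∀ i, IsAffine (𝒲.X i) := fun i => inferInstanceAs (IsAffine (W.left.affineCover.X _))
  haveI : IsAffine Y₀ := inferInstance
  let f : Y₀ ⟶ W.left := Sigma.desc fun i => 𝒲.f i
  haveI : Flat f := IsZariskiLocalAtSource.sigmaDesc fun i => inferInstance
  let Y : Over S := Over.mk (f ≫ W.hom)
  let fY : Y ⟶ W := Over.homMk f
  have hcomm : (yon S).map (fY ≫ w₁) ≫ cls (π.obj v.1) = (yon S).map (fY ≫ w₂) ≫ V.obj.hom ≫ g := by
    rw [Functor.map_comp, Functor.map_comp, Category.assoc, Category.assoc, hsq₀.w]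
  obtain ⟨z₀, γ₀, e₀, ha₀, hb₀⟩ := exists_z g π V hX v.1 Y (fY ≫ w₁) (fY ≫ w₂) hcomm
  haveI : IsAffineHom f := by
    haveI : IsAffineHom (f ≫ terminal.from W.left) := isAffineHom_of_isAffine _
    exact IsAffineHom.of_comp f (terminal.from W.left)
  let R₀ : Scheme.{u} := pullback f f
  haveI : IsAffine R₀ := by
    haveI : Mono (pullback.lift (pullback.fst f f) (pullback.snd f f) (Subsingleton.elim _ _) :
        pullback f f ⟶ pullback (terminal.from Y₀) (terminal.from Y₀)) := ⟨fun x y h => pullback.hom_ext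
      (by simpa using congrArg (fun k => k ≫ pullback.fst _ _) h)
      (by simpa using congrArg (fun k => k ≫ pullback.snd _ _) h)⟩
    haveI : IsAffineHom (pullback.fst f f) := MorphismProperty.pullback_fst f f inferInstance
    exact isAffine_of_isAffineHom (pullback.fst f f)
  let R : Over S := Over.mk (pullback.fst f f ≫ Y.hom)
  let r₁ : R ⟶ Y := Over.homMk (pullback.fst f f)
  let r₂ : R ⟶ Y := Over.homMk (pullback.snd f f) (by
    show pullback.snd f f ≫ f ≫ W.hom = pullback.fst f f ≫ f ≫ W.hom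
    rw [pullback.condition_assoc])
  have hrf : r₁ ≫ fY = r₂ ≫ fY := Over.OverMorphism.ext pullback.condition
  obtain ⟨z₁, γ₁, e₁, ha₁, hb₁⟩ := exists_z g π V hX v.1 R (r₁ ≫ fY ≫ w₁) (r₁ ≫ fY ≫ w₂) (by
    rw [Functor.map_comp, Category.assoc, hcomm, ← Category.assoc, ← Functor.map_comp])
  obtain ⟨k₁, hk₁, hk₁d⟩ := exists_k g π V hX γ₁ γ₀ (eqToHom e₁ ≫ r₁ ≫ eqToHom e₀.symm)
    (by rw [ha₀, ha₁]; simp) (by rw [hb₀, hb₁]; simp)
  obtain ⟨k₂, hk₂, hk₂d⟩ := exists_k g π V hX γ₁ γ₀ (eqToHom e₁ ≫ r₂ ≫ eqToHom e₀.symm)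
    (by rw [ha₀, ha₁]; simp [reassoc_of% hrf]) (by rw [hb₀, hb₁]; simp [reassoc_of% hrf])
  let Φ : fibCat (jc g π V) v.1 ⥤ᵇ AlgSt.ofSp M :=
    BasedFunctor.comp (fibFst (jc g π V) v.1) (BasedFunctor.comp (jc g π V) π)
  let x₀ : (fibCat (jc g π V) v.1).obj := CostructuredArrow.mk γ₀
  let x₁ : (fibCat (jc g π V) v.1).obj := CostructuredArrow.mk γ₁
  have haff : ∀ (x : (fibCat (jc g π V) v.1).obj) (T : Over S), IsAffine T.left → D g π V x.left = T →
      IsAffine (sch (fibCat (jc g π V) v.1) x) := fun x T hT e => by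
    haveI : IsAffine (sch (AlgSt.ofSp M) (Φ.obj x)) := by
      show IsAffine (D g π V x.left).left
      rw [e]; exact hT
    exact IsAffine.of_isIso (eqToHom (sch_obj_eq Φ x).symm)
  have hto : ∀ x : (fibCat (jc g π V) v.1).obj, ∃ l : D g π V x.left ⟶ W,
      l ≫ w₁ = (π.map x.hom).hom ∧ l ≫ w₂ = (bArr g π V x.left).hom := fun x => by
    obtain ⟨l, hl₁, hl₂⟩ := hsq₀.exists_lift ((yon S).map (bArr g π V x.left).hom) ((yon S).map (π.map x.hom).hom)
      (by rw [cls_hom, cls_bArr])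
    obtain ⟨l, rfl⟩ := (yon S).map_surjective l
    exact ⟨l, (yon S).map_injective (by rw [Functor.map_comp, hl₂]),
      (yon S).map_injective (by rw [Functor.map_comp, hl₁])⟩
  have hZ := isFibGrpd_fibCat (isFibGrpd_fibCat hX' (FibCat.fpFst (AlgSt.ofSpMap g) π) (etaOf V)) (jc g π V) v.1
  refine ⟨{
    x₀ := x₀
    aff₀ := haff x₀ Y ‹IsAffine Y₀› e₀
    loc := ?_
    n := 1
    w := fun _ => x₁
    affw := fun _ => haff x₁ R ‹IsAffine R₀› e₁
    a := fun _ => CostructuredArrow.homMk k₁ hk₁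
    b := fun _ => CostructuredArrow.homMk k₂ hk₂
    pairs := ?_ }⟩
  · intro x hx
    obtain ⟨l, hl₁, hl₂⟩ := hto x
    haveI := hx
    let c : sch (fibCat (jc g π V) v.1) x ⟶ (D g π V x.left).left := eqToHom (sch_obj_eq Φ x).symm
    obtain ⟨𝒰, hfin, h𝒰⟩ := PB.exists_openCover (v := x) hZ
      (fun i : 𝒲.I₀ => (c ≫ l.left) ⁻¹ᵁ (𝒲.f i).opensRange) fun p => ⟨𝒲.idx _, 𝒲.covers _⟩
    refine ⟨𝒰, hfin, fun n => ?_⟩
    obtain ⟨i, hi⟩ := h𝒰 n
    let m := 𝒰.map n
    let d : D g π V (𝒰.obj n).left ⟶ D g π V x.left := (π.map ((jc g π V).map m.left)).hom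
    have hrange : Set.range (d.left ≫ l.left) ⊆ Set.range (𝒲.f i) := by
      rintro _ ⟨p, rfl⟩
      rw [show d.left = _ from bmap_map_hom Φ m]
      simp only [Scheme.Hom.comp_apply]
      exact hi (show (eqToHom (sch_obj_eq Φ (𝒰.obj n)) : _ ⟶ sch (fibCat (jc g π V) v.1) (𝒰.obj n)) p ∈
        (⊤ : (sch (fibCat (jc g π V) v.1) (𝒰.obj n)).Opens) from trivial)
    let l' : (D g π V (𝒰.obj n).left).left ⟶ Y₀ :=
      IsOpenImmersion.lift (𝒲.f i) (d.left ≫ l.left) hrange ≫ Sigma.ι (fun i : 𝒲.I₀ => 𝒲.X i) i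
    have hl' : l' ≫ f = d.left ≫ l.left := by
      rw [Category.assoc, show Sigma.ι _ i ≫ f = 𝒲.f i from Sigma.ι_desc _ _, IsOpenImmersion.lift_fac]
    let L : D g π V (𝒰.obj n).left ⟶ Y := Over.homMk l' (by
      show l' ≫ f ≫ W.hom = _
      rw [← Category.assoc, hl', Category.assoc, Over.w l, Over.w d])
    have hL : L ≫ fY = d ≫ l := Over.OverMorphism.ext hl'
    have hγ : (jc g π V).map m.left ≫ x.hom = (𝒰.obj n).hom := CostructuredArrow.w m
    obtain ⟨k, hk, -⟩ := exists_k g π V hX (𝒰.obj n).hom γ₀ (L ≫ eqToHom e₀.symm) (by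
        rw [ha₀, Category.assoc, eqToHom_trans_assoc, eqToHom_refl, Category.id_comp, reassoc_of% hL, hl₁, ← hγ,
          π.toFunctor.map_comp]
        rfl) (by
        rw [hb₀, Category.assoc, eqToHom_trans_assoc, eqToHom_refl, Category.id_comp, reassoc_of% hL, hl₂,
          ← bArr_natural g π V m.left]
        rfl)
    exact ⟨CostructuredArrow.homMk k hk⟩
  · intro x hx p q
    let dp : D g π V x.left ⟶ Y := (π.map ((jc g π V).map p.left)).hom ≫ eqToHom e₀
    let dq : D g π V x.left ⟶ Y := (π.map ((jc g π V).map q.left)).hom ≫ eqToHom e₀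
    have hA : ∀ s : x ⟶ x₀, ((π.map ((jc g π V).map s.left)).hom ≫ eqToHom e₀) ≫ fY ≫ w₁ = (π.map x.hom).hom := by
      intro s
      rw [Category.assoc, ← ha₀, ← Stk.EltObj.comp_hom, ← π.toFunctor.map_comp]
      exact congrArg (fun a => (π.map a).hom) (CostructuredArrow.w s)
    have hB : ∀ s : x ⟶ x₀,
        ((π.map ((jc g π V).map s.left)).hom ≫ eqToHom e₀) ≫ fY ≫ w₂ = (bArr g π V x.left).hom := by
      intro s
      rw [Category.assoc, ← hb₀, ← Stk.EltObj.comp_hom]
      exact congrArg (fun a => a.hom) (bArr_natural g π V s.left)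
    have hdf : dp ≫ fY = dq ≫ fY := hext _ _
      (by simp only [Category.assoc]; simpa [dp, dq] using (hA p).trans (hA q).symm)
      (by simp only [Category.assoc]; simpa [dp, dq] using (hB p).trans (hB q).symm)
    let L : D g π V x.left ⟶ R := Over.homMk (pullback.lift dp.left dq.left (congrArg (fun a => a.left) hdf)) (by
      show _ ≫ pullback.fst f f ≫ Y.hom = _
      rw [pullback.lift_fst_assoc, Over.w dp])
    have hL₁ : L ≫ r₁ = dp := Over.OverMorphism.ext (pullback.lift_fst _ _ _)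
    have hL₂ : L ≫ r₂ = dq := Over.OverMorphism.ext (pullback.lift_snd _ _ _)
    obtain ⟨t, ht, htd⟩ := exists_k g π V hX x.hom γ₁ (L ≫ eqToHom e₁.symm)
      (by rw [ha₁, Category.assoc, eqToHom_trans_assoc, eqToHom_refl, Category.id_comp, reassoc_of% hL₁]
          exact hA p)
      (by rw [hb₁, Category.assoc, eqToHom_trans_assoc, eqToHom_refl, Category.id_comp, reassoc_of% hL₁]
          exact hB p)
    have heq : ∀ (r : R ⟶ Y) (k : z₁ ⟶ z₀) (hk : (jc g π V).map k ≫ γ₀ = γ₁)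
        (hkd : (π.map ((jc g π V).map k)).hom = eqToHom e₁ ≫ r ≫ eqToHom e₀.symm) (s : x ⟶ x₀),
        L ≫ r = (π.map ((jc g π V).map s.left)).hom ≫ eqToHom e₀ → t ≫ k = s.left := by
      intro r k hk hkd s hs
      refine k_unique g π V hX γ₀ ?_ ?_
      · rw [(jc g π V).toFunctor.map_comp, Category.assoc, hk, ht]
        exact (CostructuredArrow.w s).symm
      · rw [(jc g π V).toFunctor.map_comp, π.toFunctor.map_comp, Stk.EltObj.comp_hom, htd, hkd]
        simp [reassoc_of% hs]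
    haveI := hx
    refine ⟨⟨PUnit, fun _ => x, fun _ => 𝟙 x, fun _ => hx, ⟨fun _ => by rw [bmap_id]; infer_instance,
      fun q => ⟨⟨⟩, q, by rw [bmap_id]; rfl⟩⟩⟩, fun n => ⟨0, CostructuredArrow.homMk t ht, ?_, ?_⟩⟩
    · rw [Category.id_comp]
      exact CostructuredArrow.hom_ext _ _ (heq r₁ k₁ hk₁ hk₁d p hL₁)
    · rw [Category.id_comp]
      exact CostructuredArrow.hom_ext _ _ (heq r₂ k₂ hk₂ hk₂d q hL₂)

end Groth.L09.CohAffBC
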