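import Groth.Agent.L09.CohAffBC.Fibre
import Groth.Agent.L23.QcCalc

/-!
# Cohomological affineness is stable under base change
-/

universe u

open CategoryTheory CategoryTheory.Limits AlgebraicGeometry Opposite TopologicalSpace AlgSp

set_option backward.isDefEq.respectTransparency false
set_option backward.isDefEq.respectTransparency.types false
set_option linter.style.haveILetI false
set_option linter.unusedSectionVars false
set_option linter.unusedVariables false
set_option maxHeartbeats 1000000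

noncomputable section

namespace Groth.L09.CohAffBC

open StMod Groth.L23.RelGen Groth.L23.CohAff
open Groth.L19.QCohFpqc (IsCov)

variable {S : Scheme.{u}} {𝒳 : AlgSt.Cat S}

theorem compactFibres_of_qsSp [QuasiSeparatedSpace S] {M : AlgSp.Sp S} (h : IsQuasiSeparatedSp M) :
    CompactFibres M := fun A B P hA hB a b p₁ p₂ sq =>
  Groth.L23.compactSpace_of_qs h sq

theorem compactFibres_of_qsScheme (M : Over S) [QuasiSeparatedSpace M.left] :
    CompactFibres ((yon S).obj M) := by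
  intro A B P hA hB a b p₁ p₂ sq
  obtain ⟨a, rfl⟩ := (yon S).map_surjective a
  obtain ⟨b, rfl⟩ := (yon S).map_surjective b
  have hw : p₁ ≫ a = p₂ ≫ b := (yon S).map_injective (by simpa using sq.w)
  have sq' : IsPullback p₁.left p₂.left a.left b.left :=
    (IsPullback.of_map (yon S) hw sq).map (Over.forget S)
  haveI : QuasiCompact b.left := inferInstance
  haveI : QuasiCompact p₁.left := MorphismProperty.of_isPullback sq'.flip inferInstance
  exact QuasiCompact.compactSpace_of_compactSpace p₁.left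

/-- Surjectivity on sections of a pushforward from surjectivity on global sections over the object. -/
theorem surjective_relSect_of_fib {𝒵₀ 𝒴 : AlgSt.Cat S} (ψ : 𝒵₀ ⥤ᵇ 𝒴) (η : 𝒴.obj) {F G : Mod 𝒵₀} (u : F ⟶ G)
    (h : Function.Surjective (Mod.globSectMap (Mod.comapMap (fibFst ψ η) u))) :
    Function.Surjective (Mod.relSectMap ψ u η) := by
  intro t
  let p := fibFst ψ η
  let s : (Mod.comap p G).GlobSect := ⟨fun ξ => secC p G ξ (t.1 ξ.left ξ.hom), fun ξ' ξ φ =>
    (secC_mapTop p G φ _).trans (congrArg (secC p G ξ')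
      ((t.2 φ.left ξ.hom).trans (congrArg (t.1 ξ'.left) (CostructuredArrow.w φ))))⟩
  obtain ⟨r, hr⟩ := h s
  let val : ∀ (ξ : 𝒵₀.obj) (α : ψ.obj ξ ⟶ η), Sec F ξ := fun ξ α =>
    (secC p F (CostructuredArrow.mk α)).symm (r.1 (CostructuredArrow.mk α))
  refine ⟨⟨val, fun ξ' ξ φ α => ?_⟩, Mod.RelSect.ext _ _ _ fun ξ α => ?_⟩
  · let a : (fibCat ψ η).obj := CostructuredArrow.mk α
    let a' : (fibCat ψ η).obj := CostructuredArrow.mk (ψ.map φ ≫ α)
    let φ' : a' ⟶ a := CostructuredArrow.homMk φ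
    refine (secC p F a').injective ?_
    refine (secC_mapTop p F φ' (val ξ α)).symm.trans ?_
    rw [AddEquiv.apply_symm_apply, AddEquiv.apply_symm_apply]
    exact r.2 φ'
  · let a : (fibCat ψ η).obj := CostructuredArrow.mk α
    refine (secC p G a).injective ?_
    refine (secC_app p u a (val ξ α)).symm.trans ?_
    rw [AddEquiv.apply_symm_apply]
    exact congrArg (fun x : (Mod.comap p G).GlobSect => x.1 a) hr

variable {M M' : AlgSp.Sp S} {g : M' ⟶ M} {π : 𝒳 ⥤ᵇ AlgSt.ofSp M} {V : EtOver M'} {E : EtOver M}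

/-- The fibre category gives a setup. -/
theorem nonempty_setup (hM : IsAlgSpace M) (hc : CompactFibres M) (hX : FibCat.IsFibGrpd 𝒳.p)
    (hX' : FibCat.IsFibGrpd (FibCat.fp (AlgSt.ofSpMap g) π).p) (hV : IsAffine V.obj.left.left)
    (hE : IsAffine E.obj.left.left) (β : (AlgSt.ofSpMap g).obj (etaOf V) ⟶ etaOf E) :
    Nonempty (Setup (jc g π V) π (etaOf E)) := by
  haveI := hV
  haveI := hE
  choose A hA using fun v => (⟨(exists_fibreAtlas (g := g) (V := V) hM hc hX hX' hV v).some, trivial⟩ :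
    ∃ _ : Atlas (fibCat (jc g π V) v.1), True)
  choose e he hspec using fun v α α' => exists_agree_idem π E hE v α α'
  refine ⟨{
    hX := hX
    hZ := isFibGrpd_fibCat hX' _ _
    A := A
    P := fun z => bArr g π V z ≫ β
    hP := fun k => by rw [← Category.assoc, bArr_natural]
    e := e
    e_idem := he
    e_spec := hspec
    fib := ?_ }⟩
  intro v α
  haveI : IsAffine (π.obj v.1).base.left := IsAffine.of_isIso (eqToHom (sch_obj_eq π v.1))
  haveI : IsAffine (etaOf E).base.left := hE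
  let β₀ : V.obj.left ⟶ (etaOf E).base := β.hom
  let W : Scheme.{u} := pullback α.hom.left β₀.left
  haveI : IsAffine W := inferInstance
  let T : Over S := Over.mk (pullback.fst α.hom.left β₀.left ≫ (π.obj v.1).base.hom)
  let t₁ : T ⟶ (π.obj v.1).base := Over.homMk (pullback.fst α.hom.left β₀.left)
  let t₂ : T ⟶ V.obj.left := Over.homMk (pullback.snd α.hom.left β₀.left) (by
    show pullback.snd _ _ ≫ V.obj.left.hom = pullback.fst _ _ ≫ (π.obj v.1).base.hom
    rw [← Over.w β₀, ← Over.w α.hom, pullback.condition_assoc])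
  have ht : t₁ ≫ α.hom = t₂ ≫ β₀ := Over.OverMorphism.ext pullback.condition
  obtain ⟨z, q, e₀, hq, hb⟩ := exists_z g π V hX v.1 T t₁ t₂ (by
    have hcls : cls ((AlgSt.ofSpMap g).obj (etaOf V)) = V.obj.hom ≫ g := by
      refine (AlgSp.J S).uliftYonedaEquiv.injective ?_
      rw [Equiv.apply_symm_apply, GrothendieckTopology.uliftYonedaEquiv_comp]
      rfl
    rw [← hcls, ← cls_hom α, ← cls_hom β, ← Category.assoc, ← Category.assoc, ← Functor.map_comp,
      ← Functor.map_comp]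
    exact congrArg (fun f => (yon S).map f ≫ cls (etaOf E)) ht)
  haveI : IsAffine (sch (Zc g π V) z) := by
    haveI : IsAffine (sch (AlgSt.ofSp M) ((BasedFunctor.comp (jc g π V) π).obj z)) := by
      show IsAffine (D g π V z).left
      rw [e₀]; exact ‹IsAffine W›
    exact IsAffine.of_isIso (eqToHom (sch_obj_eq (BasedFunctor.comp (jc g π V) π) z).symm)
  refine ⟨⟨z, inferInstance⟩, q, Stk.EltObj.hom_ext ?_, fun z' φ hφ => ?_⟩
  · show (π.map q).hom ≫ α.hom = (bArr g π V z).hom ≫ β₀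
    rw [hq, hb, Category.assoc, Category.assoc, ht]
  · have hφ' : (π.map φ).hom ≫ α.hom = (bArr g π V z'.1).hom ≫ β₀ := congrArg (fun f => f.hom) hφ
    let d : D g π V z'.1 ⟶ T := Over.homMk
      (pullback.lift (π.map φ).hom.left (bArr g π V z'.1).hom.left (congrArg (fun f => f.left) hφ')) (by
        show _ ≫ pullback.fst _ _ ≫ (π.obj v.1).base.hom = _
        rw [pullback.lift_fst_assoc, Over.w])
    have hd₁ : d ≫ t₁ = (π.map φ).hom := Over.OverMorphism.ext (pullback.lift_fst _ _ _)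
    have hd₂ : d ≫ t₂ = (bArr g π V z'.1).hom := Over.OverMorphism.ext (pullback.lift_snd _ _ _)
    obtain ⟨k, hk, hkd⟩ := exists_k g π V hX φ q (d ≫ eqToHom e₀.symm)
      (by rw [hq, Category.assoc, eqToHom_trans_assoc, eqToHom_refl, Category.id_comp, hd₁])
      (by rw [hb, Category.assoc, eqToHom_trans_assoc, eqToHom_refl, Category.id_comp, hd₂])
    refine ⟨k, hk, fun k' hk' => k_unique g π V hX q (hk'.trans hk.symm) ?_⟩
    rw [hkd, ← cancel_mono (eqToHom e₀), Category.assoc, eqToHom_trans, eqToHom_refl, Category.comp_id]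
    refine Over.OverMorphism.ext (pullback.hom_ext ?_ ?_)
    · show (((π.map ((jc g π V).map k')).hom ≫ eqToHom e₀) ≫ t₁).left = (d ≫ t₁).left
      rw [Category.assoc, ← hq, ← Stk.EltObj.comp_hom, ← π.toFunctor.map_comp, hk', hd₁]
    · show (((π.map ((jc g π V).map k')).hom ≫ eqToHom e₀) ≫ t₂).left = (d ≫ t₂).left
      rw [Category.assoc, ← hb, ← Stk.EltObj.comp_hom, bArr_natural, hd₂]

/-- Surjectivity on sections over an affine object mapping to an etale one. -/
theorem surjective_fibre (hM : IsAlgSpace M) (hc : CompactFibres M)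
    (h𝒳 : AlgSt.IsAlgStack Scheme.fppfPrecoverage 𝒳) (hX' : FibCat.IsFibGrpd (FibCat.fp (AlgSt.ofSpMap g) π).p)
    (h : StMod.IsCohAffine π) (hV : IsAffine V.obj.left.left) (hE : IsAffine E.obj.left.left)
    (β : (AlgSt.ofSpMap g).obj (etaOf V) ⟶ etaOf E) {F G : StMod.QCoh (FibCat.fp (AlgSt.ofSpMap g) π)}
    (u' : F ⟶ G) (hu : Mod.IsSurj u'.hom) :
    Function.Surjective (Mod.relSectMap (FibCat.fpFst (AlgSt.ofSpMap g) π) u'.hom (etaOf V)) := by
  obtain ⟨C⟩ := exists_flatChart h𝒳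
  obtain ⟨T⟩ := nonempty_setup hM hc h𝒳.isStack.1 hX' hV hE β
  let p := fibFst (FibCat.fpFst (AlgSt.ofSpMap g) π) (etaOf V)
  have hv : Mod.IsSurj ((comapQ p).map u').hom := (StMod.comapQ_map_hom p u').symm ▸ isSurj_comap p u'.hom hu
  have h₁ := T.surjective_globSect C ((comapQ p).map u') hv (hasLifts π E h𝒳.isStack.1)
    (fun A B φ hφ => h φ hφ E hE)
  rw [StMod.comapQ_map_hom p u'] at h₁
  exact surjective_relSect_of_fib _ _ u'.hom h₁

/-- An affine scheme etale over the new space is covered by affine ones over etale ones over the old space. -/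
theorem exists_etale_cover (hM : IsAlgSpace M) (g : M' ⟶ M) (E' : EtOver M') (hE' : IsAffine E'.obj.left.left) :
    ∃ (κ : Type u) (V : κ → EtOver M') (γ : ∀ i, etaOf (V i) ⟶ etaOf E'),
      (∀ i, IsAffine (V i).obj.left.left) ∧ IsCov (fun i => bmap (AlgSt.ofSp M') (γ i)) ∧
      ∀ i, ∃ (E : EtOver M) (_ : IsAffine E.obj.left.left),
        Nonempty ((AlgSt.ofSpMap g).obj (etaOf (V i)) ⟶ etaOf E) := by
  haveI := hE'
  obtain ⟨U, p, hp, hps⟩ := hM.atlas
  let c : (yon S).obj E'.obj.left ⟶ M := E'.obj.hom ≫ g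
  let P := hp.rep.pullback c
  let a : P ⟶ E'.obj.left := hp.rep.snd c
  let b : P ⟶ U := (yon S).preimage (hp.rep.fst c)
  have hsq := hp.rep.isPullback c
  have hb : (yon S).map b = hp.rep.fst c := (yon S).map_preimage _
  haveI : Etale a.left := hp.property _ _ _ hsq
  haveI : Surjective a.left := hps.property _ _ _ hsq
  let κ : Type u := {i : U.left.affineOpens × P.left.affineOpens // (i.2 : P.left.Opens) ≤ b.left ⁻¹ᵁ i.1}
  let Wv : κ → Over S := fun i => Over.mk ((i.1.2 : P.left.Opens).ι ≫ P.hom)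
  let kv : ∀ i, Wv i ⟶ E'.obj.left := fun i =>
    (Over.homMk (i.1.2 : P.left.Opens).ι rfl : Wv i ⟶ P) ≫ a
  have hkv : ∀ i, Etale (kv i).left := fun i => by
    show Etale ((i.1.2 : P.left.Opens).ι ≫ a.left)
    infer_instance
  let V : κ → EtOver M' := fun i => EtOver.mk ((yon S).map (kv i) ≫ E'.obj.hom)
    (MorphismProperty.comp_mem _ _ _ ((repWith_yon_map_iff @Etale (kv i)).2 (hkv i)) E'.property)
  have hγ : ∀ i, ∃ γ : etaOf (V i) ⟶ etaOf E', γ.hom = kv i := fun i =>
    exists_hom_of_cls (a := etaOf (V i)) (b := etaOf E') (kv i) (by rw [cls_etaOf, cls_etaOf]; rfl)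
  choose γ hγ using hγ
  refine ⟨κ, V, γ, fun i => i.1.2.2, ⟨fun i => ?_, fun x => ?_⟩, fun i => ?_⟩
  · haveI := hkv i
    show Flat (γ i).hom.left
    rw [hγ i]
    infer_instance
  · obtain ⟨y, hy⟩ := a.left.surjective x
    obtain ⟨_, ⟨A, hA, rfl⟩, hbA, -⟩ :=
      U.left.isBasis_affineOpens.exists_subset_of_mem_open (Set.mem_univ (b.left y)) isOpen_univ
    obtain ⟨_, ⟨B, hB, rfl⟩, hyB, hBA⟩ :=
      P.left.isBasis_affineOpens.exists_subset_of_mem_open (show y ∈ b.left ⁻¹ᵁ A from hbA) (b.left ⁻¹ᵁ A).2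
    refine ⟨⟨(⟨A, hA⟩, ⟨B, hB⟩), hBA⟩, (⟨y, hyB⟩ : Scheme.Opens.toScheme (X := P.left) B), ?_⟩
    show (γ _).hom.left _ = x
    rw [hγ]
    exact hy
  · let A : U.left.Opens := i.1.1
    let EA : Over S := Over.mk (A.ι ≫ U.hom)
    let j : EA ⟶ U := Over.homMk A.ι rfl
    let E : EtOver M := EtOver.mk ((yon S).map j ≫ p)
      (MorphismProperty.comp_mem _ _ _ ((repWith_yon_map_iff @Etale j).2 (show Etale A.ι from inferInstance)) hp)
    let j' : Wv i ⟶ P := Over.homMk (i.1.2 : P.left.Opens).ι rfl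
    let m : Wv i ⟶ EA := Over.homMk (IsOpenImmersion.lift A.ι (j'.left ≫ b.left) (by
        rintro _ ⟨z, rfl⟩
        exact (Scheme.Opens.range_ι A).ge (i.2 z.2))) (by
        show _ ≫ A.ι ≫ U.hom = _
        rw [IsOpenImmersion.lift_fac_assoc, Category.assoc, Over.w b, Over.w j'])
    have hm : m ≫ j = j' ≫ b := Over.OverMorphism.ext (IsOpenImmersion.lift_fac _ _ _)
    obtain ⟨β, -⟩ := exists_hom_of_cls (a := (AlgSt.ofSpMap g).obj (etaOf (V i))) (b := etaOf E) m (by
      refine Eq.trans ?_ (show ((yon S).map (kv i) ≫ E'.obj.hom) ≫ g = _ from ?_)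
      · show _ ≫ cls (etaOf E) = _
        rw [cls_etaOf]
        show (yon S).map m ≫ (yon S).map j ≫ p = ((yon S).map (j' ≫ a) ≫ E'.obj.hom) ≫ g
        rw [← Category.assoc, ← Functor.map_comp, hm, Functor.map_comp, Functor.map_comp, hb]
        simp only [Category.assoc]
        exact congrArg ((yon S).map j' ≫ ·) hsq.w
      · refine ((AlgSp.J S).uliftYonedaEquiv.symm_apply_eq.2 ?_).symm
        rw [GrothendieckTopology.uliftYonedaEquiv_comp]
        show g.hom.app _ ((AlgSp.J S).uliftYonedaEquiv (V i).obj.hom) = _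
        rfl)
    exact ⟨E, i.1.1.2, ⟨β⟩⟩

/-- Cohomological affineness is stable under base change. -/
theorem isCohAffine_fpFst (M M' : AlgSp.Space S) (hc : CompactFibres M.obj)
    (h𝒳 : AlgSt.IsAlgStack Scheme.fppfPrecoverage 𝒳) (g : M'.obj ⟶ M.obj) (π : 𝒳 ⥤ᵇ AlgSt.ofSp M.obj)
    (h𝒳' : AlgSt.IsAlgStack Scheme.fppfPrecoverage (FibCat.fp (AlgSt.ofSpMap g) π))
    (hqc' : AlgSt.IsQuasiCompactMor Scheme.fppfPrecoverage (FibCat.fpFst (AlgSt.ofSpMap g) π))
    (hqs' : AlgSt.IsQuasiSeparatedMor (FibCat.fpFst (AlgSt.ofSpMap g) π)) (h : StMod.IsCohAffine π) :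
    StMod.IsCohAffine (FibCat.fpFst (AlgSt.ofSpMap g) π) := by
  intro F G u' hu E' hE'
  haveI : IsAffine (sch (AlgSt.ofSp M'.obj) (etaOf E')) := hE'
  obtain ⟨κ, V, γ, hV, hcov, hE⟩ := exists_etale_cover M.property g E' hE'
  obtain ⟨A⟩ := exists_atlas h𝒳' (Groth.L09.Gerbe.isAlgStack_ofSp M') (FibCat.fpFst (AlgSt.ofSpMap g) π) hqc' hqs'
    (etaOf E')
  refine surjective_of_cover h𝒳'.isStack.1 (Groth.L24.St.ofSp_isFibGrpd _) F.property.1 F.property.2 G.property.1
    G.property.2 u'.hom γ hV hcov A fun i => ?_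
  obtain ⟨E, hEa, ⟨β⟩⟩ := hE i
  exact surjective_fibre M.property hc h𝒳 h𝒳'.isStack.1 h (hV i) hEa β u' hu

end Groth.L09.CohAffBC
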