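import Groth.Agent.L23.CohAff.Local
import Groth.Agent.L23.RelGen.FamQCoh
import Groth.Agent.L23.RelGen.Desc

/-!
# Objects over the open and closed subscheme of an idempotent, and extension by zero
-/

universe w v u

open CategoryTheory CategoryTheory.Limits AlgebraicGeometry Opposite TopologicalSpace

set_option backward.isDefEq.respectTransparency false
set_option backward.isDefEq.respectTransparency.types false
set_option linter.style.haveILetI false
set_option linter.unusedSectionVars false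
set_option linter.unusedVariables false

noncomputable section

namespace Groth.L09.CohAffBC

open StMod Groth.L23.RelGen

variable {S : Scheme.{u}} {𝒳 : BasedCategory.{v, w} (Over S)}

theorem fnMap_comp_apply' {x'' x' x : 𝒳.obj} (ψ : x'' ⟶ x') (φ : x' ⟶ x) (r : Fn x) :
    fnMap (ψ ≫ φ) r = fnMap ψ (fnMap φ r) := by
  rw [fnMap_comp]
  rfl

/-- The object over the subscheme where an idempotent is one. -/
theorem exists_idemObj (h : FibCat.IsFibGrpd 𝒳.p) (x : 𝒳.obj) (hx : IsAffine (sch 𝒳 x)) (e : Fn x)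
    (he : IsIdempotentElem e) :
    ∃ (y : 𝒳.obj) (r : y ⟶ x), IsAffine (sch 𝒳 y) ∧ IsOpenImmersion (bmap 𝒳 r) ∧
      Set.range (bmap 𝒳 r) = ((sch 𝒳 x).basicOpen e : Set (sch 𝒳 x)) ∧ fnMap r e = 1 ∧
      ∀ (z : 𝒳.obj) (φ : z ⟶ x), fnMap φ e = 1 → ∃ t : z ⟶ y, t ≫ r = φ := by
  obtain ⟨y, r, hi, hr, ha⟩ := exists_restrict h x ((sch 𝒳 x).basicOpen e)
  haveI := hi
  have h1 : fnMap r e = 1 := by
    refine (IsIdempotentElem.iff_eq_one_of_isUnit ?_).1 (he.map (fnMap r))
    refine (sch 𝒳 y).toRingedSpace.isUnit_of_isUnit_germ ⊤ _ fun p _ => ?_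
    refine (Scheme.mem_basicOpen_top (X := sch 𝒳 y) _ p).1 ?_
    rw [show fnMap r e = (bmap 𝒳 r).appTop e from rfl, ← Scheme.preimage_basicOpen_top]
    exact hr.subset ⟨p, rfl⟩
  refine ⟨y, r, ha ((isAffineOpen_top (sch 𝒳 x)).basicOpen e), hi, hr, h1, fun z φ hφ => ?_⟩
  refine exists_factor_open h φ r ?_
  rw [hr]
  rintro _ ⟨q, rfl⟩
  have hq : q ∈ bmap 𝒳 φ ⁻¹ᵁ (sch 𝒳 x).basicOpen e := by
    rw [Scheme.preimage_basicOpen_top, show (bmap 𝒳 φ).appTop e = 1 from hφ, Scheme.basicOpen_one]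
    trivial
  exact hq

/-- A section killed by an idempotent on an object extends by zero uniquely. -/
theorem exists_extendZero {F : Mod 𝒳} (h : FibCat.IsFibGrpd 𝒳.p) (hF : F.IsCartesian) (hq : F.IsLocQCoh)
    {x y : 𝒳.obj} (hx : IsAffine (sch 𝒳 x)) (hy : IsAffine (sch 𝒳 y)) (e : Fn x) (he : IsIdempotentElem e)
    (r : y ⟶ x) (hi : IsOpenImmersion (bmap 𝒳 r))
    (hr : Set.range (bmap 𝒳 r) = ((sch 𝒳 x).basicOpen e : Set (sch 𝒳 x))) (h1 : fnMap r e = 1) (m : Sec F y) :
    ∃! n : Sec F x, e • n = n ∧ F.mapTop r n = m := by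
  obtain ⟨y₀, r₀, hy₀, hi₀, hr₀, h0, -⟩ := exists_idemObj h x hx (1 - e) he.one_sub
  haveI := hi
  haveI := hi₀
  let 𝒰 : Cover x := ⟨ULift.{u} Bool, fun l => bif l.down then y else y₀,
    fun l => match l with | ⟨true⟩ => r | ⟨false⟩ => r₀,
    fun l => match l with | ⟨true⟩ => hy | ⟨false⟩ => hy₀,
    ⟨fun l => match l with
      | ⟨true⟩ => (inferInstance : Flat (bmap 𝒳 r))
      | ⟨false⟩ => (inferInstance : Flat (bmap 𝒳 r₀)), fun p => by
        have hp : p ∈ (sch 𝒳 x).basicOpen e ⊔ (sch 𝒳 x).basicOpen (1 - e) := by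
          refine Scheme.basicOpen_add_le (sch 𝒳 x) _ _ ?_
          rw [add_sub_cancel, Scheme.basicOpen_one]
          trivial
        rcases hp with hp | hp
        · obtain ⟨w, hw⟩ := hr.ge hp
          exact ⟨⟨true⟩, w, hw⟩
        · obtain ⟨w, hw⟩ := hr₀.ge hp
          exact ⟨⟨false⟩, w, hw⟩⟩⟩
  haveI : Finite 𝒰.ι := inferInstanceAs (Finite (ULift.{u} Bool))
  have h0' : fnMap r₀ e = 0 := by
    have : 1 - fnMap r₀ e = 1 := by simpa only [map_sub, map_one] using h0
    exact sub_eq_self.1 this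
  have hz0 : ∀ {z : 𝒳.obj} (p : z ⟶ y) (q : z ⟶ y₀), p ≫ r = q ≫ r₀ → ∀ a b : Sec F z, a = b := by
    intro z p q hpq a b
    have h10 : (1 : Fn z) = 0 := by
      have := congrArg (fun k => fnMap k e) hpq
      simp only [fnMap_comp_apply', h1, h0', map_one, map_zero] at this
      exact this
    rw [← one_smul (Fn z) a, ← one_smul (Fn z) b, h10, zero_smul, zero_smul]
  haveI : IsAffine (sch 𝒳 x) := hx
  obtain ⟨n, hn⟩ := 𝒰.exists_glue h hF hq
    (fun l => match l with | ⟨true⟩ => m | ⟨false⟩ => 0) (fun z hz k l p q hpq => by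
      match k, l with
      | ⟨true⟩, ⟨true⟩ =>
        obtain rfl : p = q := PB.factor_unique r h hpq
        rfl
      | ⟨false⟩, ⟨false⟩ => exact (F.mapTop_zero _).trans (F.mapTop_zero _).symm
      | ⟨true⟩, ⟨false⟩ => exact hz0 p q hpq _ _
      | ⟨false⟩, ⟨true⟩ => exact (hz0 q p hpq.symm _ _).symm)
  have hu : ∀ a : Sec F x, e • a = a → F.mapTop r a = m → a = n := fun a ha ha' => by
    refine 𝒰.ext hF hq a n fun l => ?_
    match l with
    | ⟨true⟩ => exact ha'.trans (hn ⟨true⟩).symm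
    | ⟨false⟩ =>
      refine Eq.trans ?_ (hn ⟨false⟩).symm
      show F.mapTop r₀ a = 0
      rw [← ha, Mod.mapTop_smul]
      show fnMap r₀ e • _ = (0 : Sec F y₀)
      rw [h0', zero_smul]
  have hen : e • n = n := by
    refine hu (e • n) ?_ ?_
    · rw [smul_smul, he]
    · rw [Mod.mapTop_smul]
      show fnMap r e • _ = m
      rw [h1, one_smul]
      exact hn ⟨true⟩
  exact ⟨n, ⟨hen, hn ⟨true⟩⟩, fun a ha => hu a ha.1 ha.2⟩

/-- An idempotent is determined by the morphisms along which it becomes one. -/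
theorem idem_ext (h : FibCat.IsFibGrpd 𝒳.p) {x : 𝒳.obj} (hx : IsAffine (sch 𝒳 x)) {e e' : Fn x}
    (he : IsIdempotentElem e) (he' : IsIdempotentElem e')
    (hee : ∀ (z : 𝒳.obj), IsAffine (sch 𝒳 z) → ∀ φ : z ⟶ x, (fnMap φ e = 1 ↔ fnMap φ e' = 1)) : e = e' := by
  have key : ∀ {a b : Fn x}, IsIdempotentElem a → IsIdempotentElem b →
      (∀ (z : 𝒳.obj), IsAffine (sch 𝒳 z) → ∀ φ : z ⟶ x, fnMap φ a = 1 → fnMap φ b = 1) → a * b = a := by
    intro a b ha hb hab
    obtain ⟨y, r, hy, hi, hr, h1, -⟩ := exists_idemObj h x hx a ha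
    have h2 : fnMap r (a * b) = 1 := by rw [map_mul, h1, hab y hy r h1, one_mul]
    haveI : IsAffine (sch 𝒳 x) := hx
    have hle : (sch 𝒳 x).basicOpen a ≤ (sch 𝒳 x).basicOpen (a * b) := fun p hp => by
      obtain ⟨w, rfl⟩ := hr.ge hp
      show w ∈ bmap 𝒳 r ⁻¹ᵁ (sch 𝒳 x).basicOpen (a * b)
      rw [Scheme.preimage_basicOpen_top, show (bmap 𝒳 r).appTop (a * b) = 1 from h2, Scheme.basicOpen_one]
      trivial
    have hu : IsUnit (a * b + (1 - a)) := by
      refine (sch 𝒳 x).toRingedSpace.isUnit_of_isUnit_germ ⊤ _ fun p _ => ?_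
      refine (Scheme.mem_basicOpen_top (X := sch 𝒳 x) _ p).1 ?_
      have hsum : a * b + (1 - a) = 1 - (a - a * b) := by ring
      have hnil : p ∉ (sch 𝒳 x).basicOpen (a - a * b) := fun hp => by
        have h₁ : p ∈ (sch 𝒳 x).basicOpen a := by
          rw [show a - a * b = a * (1 - b) by ring] at hp
          exact (Scheme.basicOpen_mul (sch 𝒳 x) _ _).le hp |>.1
        have h₂ : p ∈ (sch 𝒳 x).basicOpen ((a - a * b) * (a * b)) := by
          rw [Scheme.basicOpen_mul]
          exact ⟨hp, hle h₁⟩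
        rw [show (a - a * b) * (a * b) = 0 by linear_combination -(a * a) * hb.eq,
          Scheme.basicOpen_zero] at h₂
        exact h₂
      have : p ∈ (sch 𝒳 x).basicOpen (a * b + (1 - a)) ⊔ (sch 𝒳 x).basicOpen (a - a * b) := by
        refine Scheme.basicOpen_add_le (sch 𝒳 x) _ _ ?_
        rw [show a * b + (1 - a) + (a - a * b) = 1 by ring, Scheme.basicOpen_one]
        trivial
      rcases this with hp | hp
      · exact hp
      · exact absurd hp hnil
    have h3 := (IsIdempotentElem.iff_eq_one_of_isUnit hu).1 (show IsIdempotentElem _ by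
      show (a * b + (1 - a)) * (a * b + (1 - a)) = a * b + (1 - a)
      linear_combination (b * b - 2 * b + 1) * ha.eq + a * hb.eq)
    linear_combination h3
  have h₁ := key he he' fun z hz φ h => (hee z hz φ).1 h
  have h₂ := key he' he fun z hz φ h => (hee z hz φ).2 h
  rw [← h₁, mul_comm, h₂]

end Groth.L09.CohAffBC
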