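import Groth.Agent.L09.CohAffBC.Push
import Groth.Agent.L09.CohAffBC.Idem

/-!
# The section of the image of the pushforward given by a section on a category over an etale object
-/

universe w'' v'' w' v' w v u

open CategoryTheory CategoryTheory.Limits AlgebraicGeometry Opposite TopologicalSpace

set_option backward.isDefEq.respectTransparency false
set_option backward.isDefEq.respectTransparency.types false
set_option linter.style.haveILetI false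
set_option linter.unusedSectionVars false
set_option linter.unusedVariables false

noncomputable section

namespace Groth.L09.CohAffBC

open StMod Groth.L23.RelGen Groth.L23.CohAff

variable {S : Scheme.{u}} {𝒵 : BasedCategory.{v', w'} (Over S)} {𝒳 : BasedCategory.{v, w} (Over S)}
  (j : 𝒵 ⥤ᵇ 𝒳)

/-- The image of an object with affine scheme. -/
abbrev jA (z : AObj 𝒵) : AObj 𝒳 :=
  ⟨j.obj z.1, IsAffine.of_isIso (eqToHom (sch_obj_eq j z.1))⟩

/-- Functions on the image of an object as functions on the object. -/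
abbrev cz (z : 𝒵.obj) : Fn (j.obj z) →+* Fn z := (baseOver j z (𝟙 (j.obj z))).left.appTop.hom

theorem cz_natural {z' z : 𝒵.obj} (k : z' ⟶ z) (r : Fn (j.obj z)) :
    fnMap k (cz j z r) = cz j z' (fnMap (j.map k) r) := by
  show ((baseOver j z (𝟙 _)).left.appTop ≫ (bmap 𝒵 k).appTop).hom r =
    ((bmap 𝒳 (j.map k)).appTop ≫ (baseOver j z' (𝟙 _)).left.appTop).hom r
  rw [← Scheme.Hom.comp_appTop, ← Scheme.Hom.comp_appTop, bmap_comp_baseOver_left, Category.comp_id]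
  refine congrArg (fun g : sch 𝒵 z' ⟶ sch 𝒳 (j.obj z) => g.appTop r) ?_
  have h := baseOver_comp j z' (𝟙 (j.obj z')) (j.map k)
  rw [Category.id_comp] at h
  exact congrArg (fun g => g.left) h

theorem cz_injective (z : 𝒵.obj) : Function.Injective (cz j z) := by
  haveI : IsIso (baseOver j z (𝟙 (j.obj z))).left := by
    show IsIso (eqToHom (j.w_obj z).symm ≫ 𝒳.p.map (𝟙 (j.obj z))).left
    rw [CategoryTheory.Functor.map_id, Category.comp_id, Over.eqToHom_left]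
    infer_instance
  exact (ConcreteCategory.bijective_of_isIso (baseOver j z (𝟙 (j.obj z))).left.appTop).1

/-- Sections of a pushforward are equal when equal at affine objects. -/
theorem relSect_ext {π : 𝒵 ⥤ᵇ 𝒳} {x : 𝒳.obj} {F : Mod 𝒵} (hZ : FibCat.IsFibGrpd 𝒵.p) (hF : F.IsCartesian)
    {s t : Mod.RelSect π F x}
    (h : ∀ (z : AObj 𝒵) (β : π.obj z.1 ⟶ x), s.1 z.1 β = t.1 z.1 β) : s = t :=
  Mod.RelSect.ext _ _ _ fun ξ β => sec_ext hZ hF fun y hy r => by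
    rw [s.2 r β, t.2 r β]
    exact h ⟨y, hy⟩ _

variable {𝒴 : BasedCategory.{v'', w''} (Over S)}

/-- A category over the fibre of `π` over `η`, with the agreement idempotents of morphisms to `η`. -/
structure Setup (π : 𝒳 ⥤ᵇ 𝒴) (η : 𝒴.obj) extends Push j where
  /-- the morphism to `η` -/
  P : ∀ z : 𝒵.obj, π.obj (j.obj z) ⟶ η
  hP : ∀ {z' z : 𝒵.obj} (k : z' ⟶ z), π.map (j.map k) ≫ P z = P z'
  /-- the agreement idempotent -/
  e : ∀ (v : AObj 𝒳), (π.obj v.1 ⟶ η) → (π.obj v.1 ⟶ η) → Fn v.1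
  e_idem : ∀ (v : AObj 𝒳) (α α' : π.obj v.1 ⟶ η), IsIdempotentElem (e v α α')
  e_spec : ∀ (v : AObj 𝒳) (α α' : π.obj v.1 ⟶ η) (v' : AObj 𝒳) (φ : v'.1 ⟶ v.1),
    π.map φ ≫ α = π.map φ ≫ α' ↔ fnMap φ (e v α α') = 1
  fib : ∀ (v : AObj 𝒳) (α : π.obj v.1 ⟶ η), ∃ (zv : AObj 𝒵) (q : j.obj zv.1 ⟶ v.1),
    π.map q ≫ α = P zv.1 ∧ ∀ (z : AObj 𝒵) (φ : j.obj z.1 ⟶ v.1), π.map φ ≫ α = P z.1 →
      ∃! k : z.1 ⟶ zv.1, j.map k ≫ q = φ

namespace Setup

variable {j} {π : 𝒳 ⥤ᵇ 𝒴} {η : 𝒴.obj} (T : Setup j π η)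

theorem e_natural {v' v : AObj 𝒳} (φ : v'.1 ⟶ v.1) (α α' : π.obj v.1 ⟶ η) :
    fnMap φ (T.e v α α') = T.e v' (π.map φ ≫ α) (π.map φ ≫ α') := by
  refine idem_ext T.hX v'.2 ((T.e_idem v α α').map _) (T.e_idem v' _ _) fun z hz ψ => ?_
  rw [← fnMap_comp_apply', ← T.e_spec v α α' ⟨z, hz⟩ (ψ ≫ φ), ← T.e_spec v' _ _ ⟨z, hz⟩ ψ, π.toFunctor.map_comp,
    Category.assoc, Category.assoc]

theorem e_self (v : AObj 𝒳) (α : π.obj v.1 ⟶ η) : T.e v α α = 1 := by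
  have := (T.e_spec v α α v (𝟙 v.1)).1 rfl
  rwa [fnMap, bmap_id, Scheme.Hom.id_appTop] at this

variable {v : AObj 𝒳} (α : π.obj v.1 ⟶ η)

/-- The agreement idempotent on an object over an affine object. -/
def ez (z : AObj 𝒵) (β : j.obj z.1 ⟶ v.1) : Fn z.1 :=
  cz j z.1 (T.e (jA j z) (T.P z.1) (π.map β ≫ α))

theorem ez_idem (z : AObj 𝒵) (β : j.obj z.1 ⟶ v.1) : IsIdempotentElem (T.ez α z β) :=
  (T.e_idem (jA j z) (T.P z.1) (π.map β ≫ α)).map (cz j z.1)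

theorem ez_eq_one {z z' : AObj 𝒵} (β : j.obj z.1 ⟶ v.1) (k : z'.1 ⟶ z.1) :
    fnMap k (T.ez α z β) = 1 ↔ π.map (j.map k ≫ β) ≫ α = T.P z'.1 := by
  rw [ez, cz_natural, ← map_one (cz j z'.1), (cz_injective j z'.1).eq_iff,
    ← T.e_spec (jA j z) _ _ (jA j z') (j.map k), T.hP, π.toFunctor.map_comp, Category.assoc]
  exact eq_comm

theorem ez_natural {z z' : AObj 𝒵} (β : j.obj z.1 ⟶ v.1) (k : z'.1 ⟶ z.1) :
    fnMap k (T.ez α z β) = T.ez α z' (j.map k ≫ β) := by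
  rw [ez, ez, cz_natural, T.e_natural (v' := jA j z') (v := jA j z), T.hP, π.toFunctor.map_comp, Category.assoc]

variable {F G : QCoh 𝒵} (u' : F ⟶ G) (hu : Mod.IsSurj u'.hom) (t : G.obj.GlobSect)

include hu in
/-- The section of the pushforward equal to the given one where the arrows agree. -/
theorem exists_local : ∃ f : Mod.RelSect j F.obj v.1, ∀ (z : AObj 𝒵) (β : j.obj z.1 ⟶ v.1),
    (u'.hom.app z.1).app ⊤ (f.1 z.1 β) = T.ez α z β • t.1 z.1 := by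
  classical
  obtain ⟨zv, q, hq, huniv⟩ := T.fib v α
  obtain ⟨m, hm⟩ := hu zv.1 zv.2 (t.1 zv.1)
  let Good (z : AObj 𝒵) (β : j.obj z.1 ⟶ v.1) (n : Sec F.obj z.1) : Prop :=
    T.ez α z β • n = n ∧ ∀ (z' : AObj 𝒵) (ψ : z'.1 ⟶ z.1) (k : z'.1 ⟶ zv.1),
      j.map k ≫ q = j.map ψ ≫ β → fnMap ψ (T.ez α z β) = 1 → F.obj.mapTop ψ n = F.obj.mapTop k m
  have hex : ∀ z β, ∃ n, Good z β n ∧ (u'.hom.app z.1).app ⊤ n = T.ez α z β • t.1 z.1 ∧
      ∀ n', Good z β n' → n' = n := by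
    intro z β
    obtain ⟨y, r, hy, hi, hr, h1, hfac⟩ := exists_idemObj T.hZ z.1 z.2 _ (T.ez_idem α z β)
    obtain ⟨k, hk, hku⟩ := huniv ⟨y, hy⟩ (j.map r ≫ β) ((T.ez_eq_one α β (z' := ⟨y, hy⟩) r).1 h1)
    obtain ⟨n, ⟨hn, hn'⟩, hnu⟩ := exists_extendZero T.hZ F.property.1 F.property.2 z.2 hy _ (T.ez_idem α z β) r hi
      hr h1 (F.obj.mapTop k m)
    refine ⟨n, ⟨hn, fun z' ψ k' hk' hψ => ?_⟩, ?_, fun n' hn'' => hnu n' ⟨hn''.1, hn''.2 ⟨y, hy⟩ r k hk h1⟩⟩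
    · obtain ⟨s, rfl⟩ := hfac z'.1 ψ hψ
      obtain ⟨_, -, huk⟩ := huniv z' (j.map (s ≫ r) ≫ β) ((T.ez_eq_one α β (s ≫ r)).1 hψ)
      have e : k' = s ≫ k := (huk _ hk').trans (huk (s ≫ k) (by
        show j.map (s ≫ k) ≫ q = j.map (s ≫ r) ≫ β
        rw [j.toFunctor.map_comp, j.toFunctor.map_comp, Category.assoc, Category.assoc, hk])).symm
      rw [e, Mod.mapTop_comp, Mod.mapTop_comp, hn']
    · obtain ⟨n₀, -, hn₀⟩ := exists_extendZero T.hZ G.property.1 G.property.2 z.2 hy _ (T.ez_idem α z β) r hi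
        hr h1 (t.1 y)
      refine (hn₀ _ ⟨?_, ?_⟩).trans (hn₀ _ ⟨?_, ?_⟩).symm
      · rw [← Scheme.Modules.Hom.app_smul, hn]
      · rw [Mod.mapTop_app, hn', ← Mod.mapTop_app, hm]
        exact t.2 k
      · rw [smul_smul, T.ez_idem α z β]
      · rw [Mod.mapTop_smul, t.2 r]
        show fnMap r (T.ez α z β) • _ = _
        rw [h1, one_smul]
  choose n hn hun hnu using hex
  have hnat : ∀ {z' z : AObj 𝒵} (l : z'.1 ⟶ z.1) (β : j.obj z.1 ⟶ v.1),
      F.obj.mapTop l (n z β) = n z' (j.map l ≫ β) := by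
    intro z' z l β
    refine hnu _ _ _ ⟨?_, fun z'' ψ k hk hψ => ?_⟩
    · rw [← T.ez_natural α β l]
      exact (F.obj.mapTop_smul l _ _).symm.trans (congrArg _ (hn z β).1)
    · rw [← Mod.mapTop_comp]
      refine (hn z β).2 z'' (ψ ≫ l) k ?_ ?_
      · rw [hk, j.toFunctor.map_comp, Category.assoc]
      · rw [fnMap_comp_apply', T.ez_natural α β l, hψ]
  have hval : ∀ (ξ : 𝒵.obj) (β : j.obj ξ ⟶ v.1), ∃ s : Sec F.obj ξ,
      ∀ (y : 𝒵.obj) (hy : IsAffine (sch 𝒵 y)) (r : y ⟶ ξ), F.obj.mapTop r s = n ⟨y, hy⟩ (j.map r ≫ β) :=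
    fun ξ β => exists_sec_of_affine T.hZ F.property.1 (fun y hy r => n ⟨y, hy⟩ (j.map r ≫ β))
      fun y' y hy' hy k r => (hnat (z' := ⟨y', hy'⟩) (z := ⟨y, hy⟩) k _).trans
        (congrArg (n ⟨y', hy'⟩) (by rw [j.toFunctor.map_comp, Category.assoc]))
  choose s hs using hval
  refine ⟨⟨s, fun ξ' ξ φ β => sec_ext T.hZ F.property.1 fun y hy r => ?_⟩, fun z β => ?_⟩
  · rw [← Mod.mapTop_comp, hs _ _ y hy, hs _ _ y hy, j.toFunctor.map_comp, Category.assoc]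
  · rw [← hun z β]
    refine congrArg _ ?_
    show s z.1 β = n z β
    have := hs z.1 β z.1 z.2 (𝟙 z.1)
    rwa [Mod.mapTop_id, CategoryTheory.Functor.map_id, Category.id_comp] at this

include hu in
/-- The section of the image with values cut off by the agreement idempotents. -/
theorem exists_img : ∃ s : Push.Img j u' v, ∀ (z : AObj 𝒵) (β : j.obj z.1 ⟶ v.1),
    s.1.1 z.1 β = T.ez α z β • t.1 z.1 := by
  obtain ⟨f, hf⟩ := T.exists_local α u' hu t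
  exact ⟨⟨_, f, rfl⟩, hf⟩

/-- The chosen section. -/
def s0 : Push.Img j u' v := (T.exists_img α u' hu t).choose

theorem s0_val (z : AObj 𝒵) (β : j.obj z.1 ⟶ v.1) : (T.s0 α u' hu t).1.1 z.1 β = T.ez α z β • t.1 z.1 :=
  (T.exists_img α u' hu t).choose_spec z β

theorem s0_natural {v' : AObj 𝒳} (φ : v'.1 ⟶ v.1) {α' : π.obj v'.1 ⟶ η} (hα : π.map φ ≫ α = α') :
    Push.imgRes j u' φ (T.s0 α u' hu t) = T.s0 α' u' hu t := by
  refine Subtype.ext (relSect_ext T.hZ G.property.1 fun z β => ?_)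
  show (T.s0 α u' hu t).1.1 z.1 (β ≫ φ) = _
  rw [s0_val, s0_val, ez, ez, ← hα, π.toFunctor.map_comp, Category.assoc]

end Setup

end Groth.L09.CohAffBC
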