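import Groth.Agent.L09.CohAffBC.Fam
import Groth.Agent.L09.CohAffBC.Setup
import Groth.Agent.L23.CohAff.Descent
import Groth.Agent.L23.CohAff.Transfer

/-!
# Constant modules and base change of the bijectivity of the unit
-/

universe t w' v' w v u

open CategoryTheory CategoryTheory.Limits AlgebraicGeometry Opposite TopologicalSpace
open scoped TensorProduct

set_option backward.isDefEq.respectTransparency false
set_option backward.isDefEq.respectTransparency.types false
set_option linter.style.haveILetI false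
set_option linter.unusedSectionVars false
set_option linter.unusedVariables false
set_option maxHeartbeats 1000000

noncomputable section

namespace Groth.L09.CohAffBC

open StMod Groth.L23.RelGen Groth.L23.CohAff

section Algebra

variable {A B : Type u} [CommRing A] [CommRing B]

/-- The map of extensions of scalars induced by a linear map. -/
def emapLin (σ : A →+* B) {M N : ModuleCat.{u} A} (f : M →ₗ[A] N) : Ext σ M →+ Ext σ N :=
  lift σ (RingHom.id B) ((ι σ).comp f.toAddMonoidHom) fun a m => by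
    show ι σ (f (a • m)) = σ a • ι σ (f m)
    rw [map_smul, ι_smul]

theorem emapLin_ι (σ : A →+* B) {M N : ModuleCat.{u} A} (f : M →ₗ[A] N) (m : M) :
    emapLin σ f (ι σ m) = ι σ (f m) := lift_ι _ _ _ _ _

theorem emapLin_smul (σ : A →+* B) {M N : ModuleCat.{u} A} (f : M →ₗ[A] N) (b : B) (y : Ext σ M) :
    emapLin σ f (b • y) = b • emapLin σ f y := lift_smul σ (RingHom.id B) _ _ b y

theorem emapLin_surjective (σ : A →+* B) {M N : ModuleCat.{u} A} (f : M →ₗ[A] N) (hf : Function.Surjective f) :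
    Function.Surjective (emapLin σ f) := fun y =>
  Ext.induction y ⟨0, map_zero _⟩ (fun b n => by
    obtain ⟨m, rfl⟩ := hf n
    exact ⟨b • ι σ m, by rw [emapLin_smul, emapLin_ι]⟩) fun y z ⟨a, ha⟩ ⟨b, hb⟩ => ⟨a + b, by rw [map_add, ha, hb]⟩

/-- Extension of scalars is right exact. -/
theorem exists_of_emapLin_eq_zero (σ : A →+* B) {K M N : ModuleCat.{u} A} (i : K →ₗ[A] M) (q : M →ₗ[A] N)
    (hq : Function.Surjective q) (hiq : ∀ m, q m = 0 → ∃ k, i k = m) (y : Ext σ M) (hy : emapLin σ q y = 0) :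
    ∃ x, emapLin σ i x = y := by
  classical
  let R : Submodule B (Ext σ M) :=
    { carrier := Set.range (emapLin σ i)
      zero_mem' := ⟨0, map_zero _⟩
      add_mem' := by rintro _ _ ⟨a, rfl⟩ ⟨b, rfl⟩; exact ⟨a + b, map_add _ _ _⟩
      smul_mem' := by rintro b _ ⟨a, rfl⟩; exact ⟨b • a, emapLin_smul σ i b a⟩ }
  choose sN hs using hq
  have hrel : ∀ m m' : M, q m = q m' → R.mkQ (ι σ m) = R.mkQ (ι σ m') := fun m m' h => by
    refine (Submodule.Quotient.eq R).2 ?_
    obtain ⟨k, hk⟩ := hiq (m - m') (by rw [map_sub, h, sub_self])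
    exact ⟨ι σ k, by rw [emapLin_ι, hk, map_sub]⟩
  let g₀ : N →+ (Ext σ M ⧸ R) :=
    { toFun := fun n => R.mkQ (ι σ (sN n))
      map_zero' := by
        rw [hrel (sN 0) 0 (by rw [hs, map_zero]), map_zero, map_zero]
      map_add' := fun a b => by
        rw [← map_add, ← map_add]
        exact hrel _ _ (by rw [hs, map_add, hs, hs]) }
  let g : Ext σ N →+ (Ext σ M ⧸ R) := lift σ (RingHom.id B) g₀ fun a n => by
    show R.mkQ (ι σ (sN (a • n))) = σ a • R.mkQ (ι σ (sN n))
    rw [← map_smul, ← ι_smul]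
    exact hrel _ _ (by rw [hs, map_smul, hs])
  have hg : g (emapLin σ q y) = R.mkQ y := by
    refine Ext.induction y (by simp only [map_zero]) (fun b m => ?_) fun a b ha hb => by simp only [map_add, ha, hb]
    rw [emapLin_smul, emapLin_ι, show g (b • ι σ (q m)) = b • g₀ (q m) from lift_smul_ι _ _ _ _ _ _, map_smul]
    exact congrArg (b • ·) (hrel _ _ (hs _))
  rw [hy, map_zero] at hg
  obtain ⟨x, hx⟩ := (Submodule.Quotient.mk_eq_zero R).1 hg.symm
  exact ⟨x, hx⟩

/-- The map out of the extension of scalars of an algebra to a pushout is bijective. -/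
theorem bijective_lift_pushout {C D : Type u} [CommRing C] [CommRing D] (σ : A →+* B) (β : A →+* C) (τ : B →+* D)
    (ρ : C →+* D) (hw : ρ.comp β = τ.comp σ)
    (H : IsPushout (CommRingCat.ofHom σ) (CommRingCat.ofHom β) (CommRingCat.ofHom τ) (CommRingCat.ofHom ρ))
    (M : ModuleCat.{u} A) (φ : M ≃+ C) (hφ : ∀ a m, φ (a • m) = β a * φ m)
    (hf : ∀ a m, ρ.toAddMonoidHom.comp φ.toAddMonoidHom (a • m) = τ (σ a) • ρ.toAddMonoidHom.comp φ.toAddMonoidHom m) :
    Function.Bijective (lift σ τ (ρ.toAddMonoidHom.comp φ.toAddMonoidHom) hf) := by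
  letI := σ.toAlgebra
  letI := β.toAlgebra
  letI := τ.toAlgebra
  letI := ρ.toAlgebra
  letI : Algebra A D := (τ.comp σ).toAlgebra
  haveI : IsScalarTower A B D := IsScalarTower.of_algebraMap_eq fun _ => rfl
  haveI : IsScalarTower A C D := IsScalarTower.of_algebraMap_eq fun r => (congrArg (fun f => f r) hw).symm
  haveI : Algebra.IsPushout A B C D := CommRingCat.isPushout_iff_isPushout.mp H
  let φL : M ≃ₗ[A] C := { φ with map_smul' := fun a m => hφ a m }
  let E : B ⊗[A] M ≃+ D := (TensorProduct.congr (LinearEquiv.refl A B) φL).toAddEquiv.trans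
    (Algebra.IsPushout.equiv A B C D).toAddEquiv
  have key : ∀ y, lift σ τ (ρ.toAddMonoidHom.comp φ.toAddMonoidHom) hf y = E y := fun y => by
    refine Ext.induction y (by rw [map_zero]; exact E.map_zero.symm) (fun b m => ?_) fun a b ha hb => by
      rw [map_add, ha, hb]; exact (E.map_add a b).symm
    rw [lift_smul_ι]
    show τ b * ρ (φ m) = E (b • ((1 : B) ⊗ₜ[A] m))
    rw [TensorProduct.smul_tmul', smul_eq_mul, mul_one]
    show _ = Algebra.IsPushout.equiv A B C D (TensorProduct.congr (LinearEquiv.refl A B) φL (b ⊗ₜ[A] m))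
    rw [TensorProduct.congr_tmul, Algebra.IsPushout.equiv_tmul]
    rfl
  rw [show (lift σ τ (ρ.toAddMonoidHom.comp φ.toAddMonoidHom) hf : _ → D) = fun y => E y from funext key]
  exact E.bijective

section Push

variable {C D : Type u} [CommRing C] [CommRing D] (σ : A →+* B) (β : A →+* C) (τ : B →+* D) (ρ : C →+* D)
  (hw : ρ.comp β = τ.comp σ)

/-- An algebra as a module. -/
def algMod (β : A →+* C) : ModuleCat.{u} A :=
  letI := β.toAlgebra
  ModuleCat.of A C

/-- The underlying algebra. -/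
def algModEquiv : algMod β ≃+ C :=
  letI := β.toAlgebra
  AddEquiv.refl C

theorem algModEquiv_smul (a : A) (m : algMod β) : algModEquiv β (a • m) = β a * algModEquiv β m := rfl

/-- The map to a pushout. -/
def pushLift : Ext σ (algMod β) →+ D :=
  lift σ τ (ρ.toAddMonoidHom.comp (algModEquiv β).toAddMonoidHom) fun a m => by
    show ρ (algModEquiv β (a • m)) = τ (σ a) * ρ (algModEquiv β m)
    rw [algModEquiv_smul, map_mul]
    exact congrArg (· * _) (congrArg (fun f => f a) hw)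

theorem pushLift_smul_ι (b : B) (c : C) :
    pushLift σ β τ ρ hw (b • ι σ ((algModEquiv β).symm c)) = τ b * ρ c := by
  rw [pushLift, lift_smul_ι]
  show τ b * ρ (algModEquiv β ((algModEquiv β).symm c)) = _
  rw [AddEquiv.apply_symm_apply]

theorem pushLift_ι (c : C) : pushLift σ β τ ρ hw (ι σ ((algModEquiv β).symm c)) = ρ c := by
  have h := pushLift_smul_ι σ β τ ρ hw 1 c
  rwa [one_smul, map_one, one_mul] at h

theorem pushLift_bijective
    (H : IsPushout (CommRingCat.ofHom σ) (CommRingCat.ofHom β) (CommRingCat.ofHom τ) (CommRingCat.ofHom ρ)) :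
    Function.Bijective (pushLift σ β τ ρ hw) :=
  bijective_lift_pushout σ β τ ρ hw H (algMod β) (algModEquiv β) (algModEquiv_smul β) _

theorem pushLift_tr {B' D' : Type u} [CommRing B'] [CommRing D'] {σ' : A →+* B'} (τ' : B' →+* D') (ρ' : C →+* D')
    (hw' : ρ'.comp β = τ'.comp σ') (κ : B →+* B') (hκ : κ.comp σ = σ') (μ : D →+* D')
    (h₁ : ∀ b, μ (τ b) = τ' (κ b)) (h₂ : ∀ c, μ (ρ c) = ρ' c) (y : Ext σ (algMod β)) :
    μ (pushLift σ β τ ρ hw y) = pushLift σ' β τ' ρ' hw' (tr κ hκ _ y) := by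
  refine Ext.induction y (by simp only [map_zero]) (fun b m => ?_) fun a b ha hb => by simp only [map_add, ha, hb]
  obtain ⟨c, rfl⟩ := (algModEquiv β).symm.surjective m
  rw [tr_smul, tr_ι, pushLift_smul_ι, pushLift_smul_ι, map_mul, h₁, h₂]

end Push

variable {κ : Type u}

/-- Coefficients in the extension of scalars of a free module. -/
def coeffs (σ : A →+* B) : Ext σ (ModuleCat.of A (κ →₀ A)) →+ (κ →₀ B) :=
  lift σ (RingHom.id B) (Finsupp.mapRange.addMonoidHom σ.toAddMonoidHom) fun a m => by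
    ext i
    show σ (a * m i) = σ a * σ (m i)
    exact map_mul σ _ _

theorem coeffs_ι (σ : A →+* B) (m : κ →₀ A) (i : κ) :
    coeffs σ (ι σ (M := ModuleCat.of A (κ →₀ A)) m) i = σ (m i) := by
  rw [show coeffs σ (ι σ (M := ModuleCat.of A (κ →₀ A)) m) = Finsupp.mapRange.addMonoidHom σ.toAddMonoidHom m from
    lift_ι _ _ _ _ _]
  rfl

theorem coeffs_smul (σ : A →+* B) (b : B) (y : Ext σ (ModuleCat.of A (κ →₀ A))) :
    coeffs σ (b • y) = b • coeffs σ y := lift_smul σ (RingHom.id B) _ _ b y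

theorem coeffs_injective (σ : A →+* B) : Function.Injective (coeffs (κ := κ) σ) := by
  classical
  let g : (κ →₀ B) →+ Ext σ (ModuleCat.of A (κ →₀ A)) :=
    Finsupp.liftAddHom fun i =>
      { toFun := fun b => b • ι σ (M := ModuleCat.of A (κ →₀ A)) (Finsupp.single i 1)
        map_zero' := zero_smul _ _
        map_add' := fun b c => add_smul _ _ _ }
  refine Function.LeftInverse.injective (g := g) fun y => ?_
  refine Ext.induction y (by simp only [map_zero]) (fun b m => ?_) fun a b ha hb => by simp only [map_add, ha, hb]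
  have hg : ∀ (c : B) (f : κ →₀ B), g (c • f) = c • g f := fun c f => by
    induction f using Finsupp.induction_linear with
    | zero => simp
    | add f f' h h' => rw [smul_add, map_add, map_add, h, h', smul_add]
    | single i d =>
      rw [Finsupp.smul_single]
      simp only [g, Finsupp.liftAddHom_apply_single]
      exact mul_smul c d _
  rw [coeffs_smul, hg]
  refine congrArg (b • ·) ?_
  induction m using Finsupp.induction_linear with
  | zero =>
    have hz : (ι σ (M := ModuleCat.of A (κ →₀ A))) (0 : κ →₀ A) = 0 := map_zero (ι σ (M := ModuleCat.of A (κ →₀ A)))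
    rw [hz, map_zero, map_zero]
  | add f f' h h' =>
    have hz : (ι σ (M := ModuleCat.of A (κ →₀ A))) (f + f') = ι σ (M := ModuleCat.of A (κ →₀ A)) f + ι σ (M := ModuleCat.of A (κ →₀ A)) f' :=
      map_add (ι σ (M := ModuleCat.of A (κ →₀ A))) f f'
    rw [hz, map_add, map_add, h, h']
  | single i a =>
    rw [show coeffs σ (ι σ (M := ModuleCat.of A (κ →₀ A)) (Finsupp.single i a)) = Finsupp.single i (σ a) from
      Finsupp.ext fun k => by
        rw [coeffs_ι]
        rcases eq_or_ne k i with rfl | hk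
        · simp
        · simp [hk.symm]]
    simp only [g, Finsupp.liftAddHom_apply_single]
    show σ a • ι σ (M := ModuleCat.of A (κ →₀ A)) (Finsupp.single i 1) = _
    rw [← ι_smul]
    refine congrArg (ι σ) ?_
    show a • Finsupp.single i (1 : A) = Finsupp.single i a
    rw [Finsupp.smul_single, smul_eq_mul, mul_one]

theorem coeffs_tr {C : Type u} [CommRing C] {σ : A →+* B} {σ' : A →+* C} (τ : B →+* C) (h : τ.comp σ = σ')
    (y : Ext σ (ModuleCat.of A (κ →₀ A))) (i : κ) : coeffs σ' (tr τ h _ y) i = τ (coeffs σ y i) := by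
  refine Ext.induction y (by simp only [map_zero, Finsupp.coe_zero, Pi.zero_apply]) (fun b m => ?_) fun a b ha hb => by
    simp only [map_add, Finsupp.add_apply, ha, hb]
  rw [tr_smul, coeffs_smul, coeffs_smul, tr_ι, Finsupp.smul_apply, Finsupp.smul_apply, coeffs_ι, coeffs_ι,
    smul_eq_mul, smul_eq_mul, map_mul, ← h]
  rfl

end Algebra

theorem isPushout_hom_appTop {P X Y Z : Scheme.{u}} (p : P ⟶ X) (q : P ⟶ Y) (f : X ⟶ Z) (g : Y ⟶ Z) (hX : IsAffine X)
    (hY : IsAffine Y) (hZ : IsAffine Z) (h : IsPullback p q f g) :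
    IsPushout (CommRingCat.ofHom f.appTop.hom) (CommRingCat.ofHom g.appTop.hom) (CommRingCat.ofHom p.appTop.hom)
      (CommRingCat.ofHom q.appTop.hom) :=
  isPushout_appTop_of_isPullback h

variable {S : Scheme.{u}} {𝒵 : BasedCategory.{v, w} (Over S)} {𝒴 : BasedCategory.{v', w'} (Over S)}

/-- The value of a section of the pushforward of the structure sheaf, as a function. -/
def valO {ψ : 𝒵 ⥤ᵇ 𝒴} {η : 𝒴.obj} (s : Mod.RelSect ψ (O 𝒵) η) (x : (fibCat ψ η).obj) : Fn x.left := val s x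

theorem valO_map {ψ : 𝒵 ⥤ᵇ 𝒴} {η : 𝒴.obj} (s : Mod.RelSect ψ (O 𝒵) η) {z x : (fibCat ψ η).obj} (k : z ⟶ x) :
    fnMap k.left (valO s x) = valO s z := by
  refine Eq.trans ?_ (val_map s k)
  rw [O_mapTop]
  rfl

theorem valO_unit {ψ : 𝒵 ⥤ᵇ 𝒴} {η : 𝒴.obj} (r : Fn η) (x : (fibCat ψ η).obj) :
    valO (unitSect ψ η r) x = (toBase x).appTop.hom r := rfl

theorem valO_zero {ψ : 𝒵 ⥤ᵇ 𝒴} {η : 𝒴.obj} (x : (fibCat ψ η).obj) : valO (0 : Mod.RelSect ψ (O 𝒵) η) x = 0 := rfl

theorem val_ext {ψ : 𝒵 ⥤ᵇ 𝒴} {η : 𝒴.obj} (hZ : FibCat.IsFibGrpd 𝒵.p) {s t : Mod.RelSect ψ (O 𝒵) η}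
    (h : ∀ (y : AObj 𝒵) (α : ψ.obj y.1 ⟶ η), valO s (CostructuredArrow.mk α) = valO t (CostructuredArrow.mk α)) :
    s = t :=
  relSect_ext (π := ψ) hZ isCartesian_O h

/-- A category over an object to which everything maps uniquely. -/
structure Over1 (ψ : 𝒵 ⥤ᵇ 𝒴) (η : 𝒴.obj) where
  /-- the arrow -/
  P : ∀ z : 𝒵.obj, ψ.obj z ⟶ η
  uniq : ∀ (z : 𝒵.obj) (α : ψ.obj z ⟶ η), α = P z

namespace Over1

variable {ψ : 𝒵 ⥤ᵇ 𝒴} {η : 𝒴.obj} (O₁ : Over1 ψ η)

/-- Functions of the base on an object. -/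
abbrev str (z : 𝒵.obj) : Fn η →+* Fn z := (baseOver ψ z (O₁.P z)).left.appTop.hom

theorem str_natural {z' z : 𝒵.obj} (φ : z' ⟶ z) : (fnMap φ).comp (O₁.str z) = O₁.str z' := by
  show ((baseOver ψ z (O₁.P z)).left.appTop ≫ (bmap 𝒵 φ).appTop).hom = _
  rw [← Scheme.Hom.comp_appTop, bmap_comp_baseOver_left, O₁.uniq z' (ψ.map φ ≫ O₁.P z)]

/-- The constant datum. -/
def constD (N : ModuleCat.{u} (Fn η)) : FlatDatum 𝒵 where
  H x := Ext (O₁.str x.1) N
  res φ := tr (fnMap φ) (O₁.str_natural φ) N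
  res_smul φ r m := tr_smul _ _ _ r m
  res_comp ψ' φ m := tr_tr _ _ _ _ (fnMap (ψ' ≫ φ)) (O₁.str_natural _) (fnMap_comp ψ' φ).symm N m
  bc φ hφ := exists_trEquiv (fnMap φ) (O₁.str_natural φ) N

/-- The map of constant data. -/
def constMap {M N : ModuleCat.{u} (Fn η)} (f : M →ₗ[Fn η] N) : DHom (O₁.constD M) (O₁.constD N) where
  f x := emapLin (O₁.str x.1) f
  f_smul x r m := emapLin_smul _ f r m
  f_res {x' x} φ m := by
    show emapLin (O₁.str x'.1) f (tr (fnMap φ) (O₁.str_natural φ) M m) =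
      tr (fnMap φ) (O₁.str_natural φ) N (emapLin (O₁.str x.1) f m)
    refine Ext.induction m (by simp only [map_zero]) (fun r a => ?_) fun a b ha hb => by simp only [map_add, ha, hb]
    rw [tr_smul, tr_ι, emapLin_smul, emapLin_smul, emapLin_ι, emapLin_ι, tr_smul, tr_ι]

theorem isFam_ι {N : ModuleCat.{u} (Fn η)} (n : N) : IsFam (O₁.constD N) fun x => ι (O₁.str x.1) n :=
  fun φ => tr_ι (fnMap φ) (O₁.str_natural φ) N n

/-- Constants are all compatible families, and are determined by them. -/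
def Good (N : ModuleCat.{u} (Fn η)) : Prop :=
  (∀ n : N, (∀ x : AObj 𝒵, ι (O₁.str x.1) n = 0) → n = 0) ∧
    ∀ m : ∀ x : AObj 𝒵, (O₁.constD N).H x, IsFam (O₁.constD N) m → ∃ n, ∀ x, m x = ι (O₁.str x.1) n

theorem good_free (hZ : FibCat.IsFibGrpd 𝒵.p) (A : Atlas (fibCat ψ η))
    (hu : Function.Bijective (unitSect ψ η)) (κ : Type u) :
    O₁.Good (ModuleCat.of (Fn η) (κ →₀ Fn η)) := by
  classical
  haveI := A.aff₀
  let x₀ : AObj 𝒵 := ⟨A.x₀.left, A.aff₀⟩
  have hinj : Function.Injective (O₁.str x₀.1) := by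
    intro r r' h
    refine hu.1 (atChart_injective (A := A) hZ isCartesian_O isLocQCoh_O ?_)
    show (baseOver ψ x₀.1 A.x₀.hom).left.appTop r = (baseOver ψ x₀.1 A.x₀.hom).left.appTop r'
    rw [O₁.uniq _ A.x₀.hom]
    exact h
  have hex : ∀ c : Fn x₀.1, (∀ k, fnMap (A.a k).left c = fnMap (A.b k).left c) → ∃ r, O₁.str x₀.1 r = c := by
    intro c hc
    obtain ⟨s, hs⟩ := exists_relSect (A := A) (F := O 𝒵) hZ isCartesian_O isLocQCoh_O (m := c) fun k => by
      rw [O_mapTop, O_mapTop]; exact hc k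
    obtain ⟨r, rfl⟩ := hu.2 s
    refine ⟨r, ?_⟩
    rw [← hs]
    show _ = (baseOver ψ x₀.1 A.x₀.hom).left.appTop r
    rw [O₁.uniq _ A.x₀.hom]
    rfl
  refine ⟨fun n hn => ?_, fun m hm => ?_⟩
  · refine Finsupp.ext fun i => hinj ?_
    have h := (coeffs_ι (O₁.str x₀.1) n i).symm.trans (congrArg (fun y => coeffs (O₁.str x₀.1) y i) (hn x₀))
    refine h.trans ?_
    show coeffs (O₁.str x₀.1) 0 i = O₁.str x₀.1 0
    rw [map_zero, map_zero]
    rfl
  · let e := coeffs (O₁.str x₀.1) (m x₀)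
    have he : ∀ i, ∃ r, O₁.str x₀.1 r = e i := fun i => hex _ fun k => by
      let xk : AObj 𝒵 := ⟨(A.w k).left, A.affw k⟩
      rw [← coeffs_tr (fnMap (A.a k).left) (O₁.str_natural (A.a k).left) (m x₀) i,
        ← coeffs_tr (fnMap (A.b k).left) (O₁.str_natural (A.b k).left) (m x₀) i]
      refine congrArg (fun y => coeffs _ y i) ?_
      exact (hm (x' := xk) (x := x₀) (A.a k).left).trans (hm (x' := xk) (x := x₀) (A.b k).left).symm
    choose r hr using he
    let n : κ →₀ Fn η := Finsupp.onFinset e.support r fun i hi => by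
      rw [Finsupp.mem_support_iff]
      intro h0
      exact hi (hinj ((hr i).trans (h0.trans (map_zero _).symm)))
    have h₀ : m x₀ = ι (O₁.str x₀.1) (M := ModuleCat.of (Fn η) (κ →₀ Fn η)) n :=
      coeffs_injective _ (Finsupp.ext fun i => by rw [coeffs_ι]; exact (hr i).symm)
    refine ⟨n, fun x => ?_⟩
    obtain ⟨𝒰, -, hl⟩ := A.loc (CostructuredArrow.mk (O₁.P x.1)) x.2
    refine (O₁.constD _).ext (x := x) (leftCover 𝒰) _ _ fun l => ?_
    let xl : AObj 𝒵 := memb (leftCover 𝒰) l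
    refine (hm (x' := xl) _).trans (Eq.trans ?_ (O₁.isFam_ι (N := ModuleCat.of (Fn η) (κ →₀ Fn η)) n (x' := xl) (x := x) _).symm)
    refine (hm (x' := xl) (x := x₀) (hl l).some.left).symm.trans (Eq.trans ?_
      (O₁.isFam_ι (N := ModuleCat.of (Fn η) (κ →₀ Fn η)) n (x' := xl) (x := x₀) (hl l).some.left))
    exact congrArg _ h₀

variable (C : FlatChart.{t} 𝒵)
  (h : ∀ ⦃A B : StMod.QCoh 𝒵⦄ (u : A ⟶ B), Mod.IsSurj u.hom → Function.Surjective (Mod.globSectMap u.hom))

include O₁ C h in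
theorem good_all (hZ : FibCat.IsFibGrpd 𝒵.p) (A : Atlas (fibCat ψ η)) (hu : Function.Bijective (unitSect ψ η))
    (N : ModuleCat.{u} (Fn η)) : O₁.Good N := by
  classical
  have hfree := fun κ : Type u => O₁.good_free hZ A hu κ
  have hsurj : ∀ (N : ModuleCat.{u} (Fn η)) (m : ∀ x : AObj 𝒵, (O₁.constD N).H x), IsFam (O₁.constD N) m →
      ∃ n, ∀ x, m x = ι (O₁.str x.1) n := by
    intro N m hm
    let q : ModuleCat.of (Fn η) (N →₀ Fn η) →ₗ[Fn η] N := Finsupp.linearCombination (Fn η) (id : N → N)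
    have hq : Function.Surjective q := fun n => ⟨Finsupp.single n 1, by
      show Finsupp.linearCombination (Fn η) (id : N → N) (Finsupp.single n 1) = n
      rw [Finsupp.linearCombination_single, one_smul]; rfl⟩
    obtain ⟨m', hm', hmm⟩ := C.exists_fam_lift h (O₁.constMap q) (fun x => emapLin_surjective _ q hq) hm
    obtain ⟨p, hp⟩ := (hfree N).2 m' hm'
    exact ⟨q p, fun x => by rw [← hmm x, hp x]; exact emapLin_ι _ q p⟩
  refine ⟨fun n hn => ?_, hsurj N⟩
  let Pm := ModuleCat.of (Fn η) (N →₀ Fn η)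
  let q : Pm →ₗ[Fn η] N := Finsupp.linearCombination (Fn η) (id : N → N)
  let K := ModuleCat.of (Fn η) (LinearMap.ker q)
  let i : K →ₗ[Fn η] Pm := (LinearMap.ker q).subtype
  let p : Pm := Finsupp.single n 1
  have hp : q p = n := by
    show Finsupp.linearCombination (Fn η) (id : N → N) (Finsupp.single n 1) = n
    rw [Finsupp.linearCombination_single, one_smul]; rfl
  have hq : Function.Surjective q := fun n => ⟨Finsupp.single n 1, by
    show Finsupp.linearCombination (Fn η) (id : N → N) (Finsupp.single n 1) = n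
    rw [Finsupp.linearCombination_single, one_smul]; rfl⟩
  let f := O₁.constMap i
  have hmem : ∀ x : AObj 𝒵, ι (O₁.str x.1) p ∈ f.imgMod x := fun x => by
    obtain ⟨w, hw⟩ := exists_of_emapLin_eq_zero (O₁.str x.1) i q hq (fun m hm => ⟨⟨m, hm⟩, rfl⟩)
      (ι (O₁.str x.1) p) (by rw [emapLin_ι, hp]; exact hn x)
    exact ⟨w, hw⟩
  have hfam : IsFam f.imgDatum fun x => (⟨ι (O₁.str x.1) p, hmem x⟩ : f.imgMod x) :=
    fun φ => Subtype.ext (O₁.isFam_ι p φ)
  obtain ⟨k', hk', hkk⟩ := C.exists_fam_lift h f.toImgDatum f.toImgDatum_surjective hfam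
  obtain ⟨k, hk⟩ := hsurj K k' hk'
  have e : p = i k := by
    refine sub_eq_zero.1 ((hfree N).1 (p - i k) fun x => ?_)
    rw [map_sub, sub_eq_zero]
    have e' := congrArg Subtype.val (hkk x)
    rw [f.toImgDatum_val, hk x] at e'
    exact e'.symm.trans (emapLin_ι _ i k)
  rw [← hp, e]
  exact k.2

include O₁ C h in
/-- Bijectivity of the unit passes to affine objects over the given one. -/
theorem unit_bijective (hZ : FibCat.IsFibGrpd 𝒵.p) (hY : FibCat.IsFibGrpd 𝒴.p) (A : Atlas (fibCat ψ η))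
    (hu : Function.Bijective (unitSect ψ η)) {η' : 𝒴.obj} (β : η' ⟶ η) [IsAffine (sch 𝒴 η)]
    [IsAffine (sch 𝒴 η')] : Function.Bijective (unitSect ψ η') := by
  obtain ⟨D⟩ := nonempty_bcData hZ hY ψ β
  let B := algMod (fnMap β)
  let φB := algModEquiv (fnMap β)
  obtain ⟨hinj, hsur⟩ := O₁.good_all C h hZ A hu B
  let ξ : 𝒵.obj → (fibCat ψ η).obj := fun z => CostructuredArrow.mk (O₁.P z)
  let pt : 𝒵.obj → (fibCat ψ η').obj := fun z => D.pt (ξ z)
  let τ : ∀ z : 𝒵.obj, Fn z →+* Fn (pt z).left := fun z => fnMap (D.q (ξ z)).left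
  let σ : ∀ z : 𝒵.obj, Fn η' →+* Fn (pt z).left := fun z => (toBase (pt z)).appTop.hom
  have haff : ∀ x : AObj 𝒵, IsAffine (sch 𝒵 (pt x.1).left) := fun x => isAffine_bc D (ξ x.1) x.2
  have hw : ∀ z : 𝒵.obj, (σ z).comp (fnMap β) = (τ z).comp (O₁.str z) := fun z =>
    RingHom.ext fun r => (appTop_congr (D.isPullback (ξ z)).w r).symm
  let e : ∀ z : 𝒵.obj, Ext (O₁.str z) B →+ Fn (pt z).left := fun z =>
    pushLift (O₁.str z) (fnMap β) (τ z) (σ z) (hw z)
  have he : ∀ (x : AObj 𝒵), Function.Bijective (e x.1) := by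
    intro x
    have H : IsPullback (bmap 𝒵 (D.q (ξ x.1)).left) (toBase (pt x.1)) ((baseOver ψ x.1 (O₁.P x.1)).left)
        (bmap 𝒴 β) := D.isPullback (ξ x.1)
    exact pushLift_bijective (O₁.str x.1) (fnMap β) (τ x.1) (σ x.1) (hw x.1)
      (isPushout_hom_appTop (bmap 𝒵 (D.q (ξ x.1)).left) (toBase (pt x.1)) ((baseOver ψ x.1 (O₁.P x.1)).left)
        (bmap 𝒴 β) x.2 (inferInstanceAs (IsAffine (sch 𝒴 η'))) (inferInstanceAs (IsAffine (sch 𝒴 η))) H)
  have hext : ∀ {z' z : 𝒵.obj} (φ : z' ⟶ z), ∃ k : ξ z' ⟶ ξ z, k.left = φ := fun φ =>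
    ⟨CostructuredArrow.homMk φ (O₁.uniq _ _), rfl⟩
  have hen : ∀ {z' z : 𝒵.obj} (φ : z' ⟶ z) (y : Ext (O₁.str z) B) (k : ξ z' ⟶ ξ z), k.left = φ →
      fnMap (D.ext k).left (e z y) = e z' (tr (fnMap φ) (O₁.str_natural φ) B y) := by
    intro z' z φ y k hk
    subst hk
    refine pushLift_tr (O₁.str z) (fnMap β) (τ z) (σ z) (hw z) (τ z') (σ z') (hw z') (fnMap k.left)
      (O₁.str_natural k.left) (fnMap (D.ext k).left) (fun b => ?_) (fun c => ?_) y
    · show fnMap (D.ext k).left (fnMap (D.q (ξ z)).left b) = fnMap (D.q (ξ z')).left (fnMap k.left b)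
      have hq : (D.ext k).left ≫ (D.q (ξ z)).left = (D.q (ξ z')).left ≫ k.left :=
        congrArg CommaMorphism.left (D.ext_q k)
      exact (fnMap_comp_apply' (𝒳 := 𝒵) (D.ext k).left (D.q (ξ z)).left b).symm.trans
        ((congrArg (fun f => fnMap (𝒳 := 𝒵) f b) hq).trans
          (fnMap_comp_apply' (𝒳 := 𝒵) (D.q (ξ z')).left k.left b))
    · show ((toBase (pt z)).appTop ≫ (bmap (fibCat ψ η') (D.ext k)).appTop).hom c = _
      rw [← Scheme.Hom.comp_appTop, bmap_toBase]
      rfl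
  have hσ : ∀ (z : 𝒵.obj) (b : Fn η'), e z (ι (O₁.str z) (φB.symm b)) = σ z b := fun z b =>
    pushLift_ι (O₁.str z) (fnMap β) (τ z) (σ z) (hw z) b
  refine ⟨(injective_iff_map_eq_zero _).2 fun b hb => ?_, fun s => ?_⟩
  · refine φB.symm.injective ((hinj (φB.symm b) fun x => (he x).1 ?_).trans (map_zero _).symm)
    have h₀ : σ x.1 b = 0 := by
      show (toBase (pt x.1)).appTop.hom b = 0
      rw [← valO_unit, hb]
      exact valO_zero (pt x.1)
    exact (hσ x.1 b).trans (h₀.trans (map_zero (e x.1)).symm)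
  · let m : ∀ x : AObj 𝒵, (O₁.constD B).H x := fun x => (Equiv.ofBijective _ (he x)).symm (valO s (pt x.1))
    have hme : ∀ x : AObj 𝒵, e x.1 (m x) = valO s (pt x.1) := fun x =>
      (Equiv.ofBijective _ (he x)).apply_symm_apply _
    have hm : IsFam (O₁.constD B) m := fun {x' x} φ => (he x').1 (by
      obtain ⟨k, hk⟩ := hext φ
      refine (hen φ (m x) k hk).symm.trans ?_
      rw [hme, hme]
      exact valO_map s (D.ext k))
    obtain ⟨b, hb⟩ := hsur m hm
    refine ⟨φB b, val_ext hZ fun y α => ?_⟩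
    let ζ : (fibCat ψ η').obj := CostructuredArrow.mk α
    let k₀ : (fibComp ψ β).obj ζ ⟶ ξ y.1 := CostructuredArrow.homMk (𝟙 y.1) (by
      show ψ.map (𝟙 y.1) ≫ O₁.P y.1 = α ≫ β
      rw [ψ.toFunctor.map_id, Category.id_comp]
      exact (O₁.uniq _ _).symm)
    let l := D.lift k₀
    rw [← valO_map (unitSect ψ η' (φB b)) l, ← valO_map s l]
    refine congrArg (fnMap l.left) ?_
    refine Eq.trans ?_ ((congrArg (e y.1) (hb y)).symm.trans (hme y))
    refine Eq.trans ?_ (congrArg (fun q => e y.1 (ι (O₁.str y.1) q)) (φB.symm_apply_apply b))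
    exact (valO_unit (φB b) (pt y.1)).trans (hσ y.1 (φB b)).symm

end Over1

end Groth.L09.CohAffBC
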