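import Groth.Agent.L09.CohAffBC.General
import Groth.Agent.L09.CohAffBC.UnitBC
import Groth.Agent.L23.CohAff.UnitGlobal
import Groth.Agent.L24.St.PointsUniv
import Groth.Agent.L24.St.DiagRep

/-!
# Good moduli spaces are stable under base change
-/

universe u

open CategoryTheory CategoryTheory.Limits AlgebraicGeometry Opposite TopologicalSpace AlgSp

set_option backward.isDefEq.respectTransparency false
set_option backward.isDefEq.respectTransparency.types false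
set_option linter.style.haveILetI false
set_option linter.unusedSectionVars false
set_option linter.unusedVariables false
set_option maxHeartbeats 1000000

noncomputable section

namespace Groth.L09.CohAffBC

open StMod Groth.L23.RelGen Groth.L23.CohAff

variable {S : Scheme.{u}} {𝒳 : AlgSt.Cat S}

/-- The identity chart of a scheme. -/
abbrev idEt (U : Over S) : EtOver ((yon S).obj U) := EtOver.mk (𝟙 _) (repWith_id @Etale U)

theorem nonempty_over1_ofSch {𝒵 : AlgSt.Cat S} {U : Over S} (ψ : 𝒵 ⥤ᵇ AlgSt.ofSp ((yon S).obj U)) :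
    Nonempty (Over1 ψ (etaOf (idEt U))) := by
  have hP : ∀ z : 𝒵.obj, ∃ α : ψ.obj z ⟶ etaOf (idEt U), True := fun z => by
    obtain ⟨α, -⟩ := exists_hom_of_cls (a := ψ.obj z) (b := etaOf (idEt U)) ((yon S).preimage (cls (ψ.obj z))) (by
      rw [cls_etaOf, Functor.map_preimage]
      exact Category.comp_id _)
    exact ⟨α, trivial⟩
  choose P hP using hP
  refine ⟨⟨P, fun z α => Stk.EltObj.hom_ext ((yon S).map_injective ?_)⟩⟩
  have e : ∀ γ : ψ.obj z ⟶ etaOf (idEt U), (yon S).map γ.hom = cls (ψ.obj z) := fun γ => by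
    have h := cls_hom γ
    rw [cls_etaOf] at h
    exact (Category.comp_id _).symm.trans h
  rw [e, e]

theorem surjective_glob_of_isCohAffine {𝒵 : AlgSt.Cat S} {U : Over S} (hU : IsAffine U.left)
    (ψ : 𝒵 ⥤ᵇ AlgSt.ofSp ((yon S).obj U)) (h : StMod.IsCohAffine ψ) ⦃A B : StMod.QCoh 𝒵⦄ (u : A ⟶ B)
    (hu : Mod.IsSurj u.hom) : Function.Surjective (Mod.globSectMap u.hom) := by
  obtain ⟨O₁⟩ := nonempty_over1_ofSch ψ
  intro t
  let t' : Mod.RelSect ψ B.obj (etaOf (idEt U)) := ⟨fun z _ => t.1 z, fun z' z φ α => t.2 φ⟩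
  obtain ⟨s, hs⟩ := h u hu (idEt U) hU t'
  refine ⟨⟨fun z => s.1 z (O₁.P z), fun z' z φ => (s.2 φ (O₁.P z)).trans (congrArg (s.1 z') (O₁.uniq z' _))⟩,
    Mod.GlobSect.ext fun z => ?_⟩
  exact congrFun (congrFun (congrArg Subtype.val hs) z) (O₁.P z)

theorem ofSpMap_idEt {M : AlgSp.Sp S} (E : EtOver M) :
    (AlgSt.ofSpMap E.obj.hom).obj (etaOf (idEt E.obj.left)) = etaOf E := by
  show (⟨E.obj.left, E.obj.hom.hom.app _ ((AlgSp.J S).uliftYonedaEquiv (𝟙 _))⟩ : (AlgSt.ofSp M).obj) =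
    ⟨E.obj.left, (AlgSp.J S).uliftYonedaEquiv E.obj.hom⟩
  rw [← GrothendieckTopology.uliftYonedaEquiv_comp, Category.id_comp]

theorem exists_lift_ofSp {M : AlgSp.Sp S} (E : EtOver M) {y : (AlgSt.ofSp M).obj} (β : y ⟶ etaOf E) :
    ∃ y' : (AlgSt.ofSp ((yon S).obj E.obj.left)).obj, (AlgSt.ofSpMap E.obj.hom).obj y' = y := by
  obtain ⟨T, x⟩ := y
  refine ⟨⟨T, (AlgSp.J S).uliftYonedaEquiv ((yon S).map β.hom)⟩, ?_⟩
  show (⟨T, E.obj.hom.hom.app _ ((AlgSp.J S).uliftYonedaEquiv ((yon S).map β.hom))⟩ : (AlgSt.ofSp M).obj) = ⟨T, x⟩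
  refine congrArg (fun q => (⟨T, q⟩ : (AlgSt.ofSp M).obj)) ?_
  rw [← GrothendieckTopology.uliftYonedaEquiv_comp]
  have h := cls_hom β
  rw [cls_etaOf] at h
  exact (congrArg (AlgSp.J S).uliftYonedaEquiv h).trans (Equiv.apply_symm_apply _ _)

/-- The unit is bijective at affine objects over an affine scheme etale over a good moduli space. -/
theorem unit_bijective_over (M : AlgSp.Space S) (hc : CompactFibres M.obj)
    (h𝒳 : AlgSt.IsAlgStack Scheme.fppfPrecoverage 𝒳) (π : 𝒳 ⥤ᵇ AlgSt.ofSp M.obj)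
    (hqc : AlgSt.IsQuasiCompactMor Scheme.fppfPrecoverage π) (hqs : AlgSt.IsQuasiSeparatedMor π)
    (h : StMod.IsGoodModuli π) (E : EtOver M.obj) (hE : IsAffine E.obj.left.left) {y : (AlgSt.ofSp M.obj).obj}
    (hy : IsAffine y.base.left) (β : y ⟶ etaOf E) : Function.Bijective (unitSect π y) := by
  obtain ⟨y', rfl⟩ := exists_lift_ofSp E β
  let U : AlgSp.Space S := (AlgSp.ofScheme S).obj E.obj.left
  let g : U.obj ⟶ M.obj := E.obj.hom
  let ψ := FibCat.fpFst (AlgSt.ofSpMap g) π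
  have h𝒵 := Groth.L24.St.isAlgStack_fp (Groth.L09.Gerbe.isAlgStack_ofSp U) h𝒳
    (Groth.L09.Gerbe.isAlgStack_ofSp M) (AlgSt.ofSpMap g) π
  have hqc' := Groth.L24.St.isQuasiCompactMor_fpFst Scheme.fppfPrecoverage hqc (AlgSt.ofSpMap g)
  have hqs' : AlgSt.IsQuasiSeparatedMor ψ := Groth.L24.St.diag_fpFst_repWith (AlgSt.ofSpMap g) hqs
  have hψ : StMod.IsCohAffine ψ := isCohAffine_fpFst M U hc h𝒳 g π h𝒵 hqc' hqs' h.1
  have hY : FibCat.IsFibGrpd (AlgSt.ofSp M.obj).p := Groth.L24.St.ofSp_isFibGrpd _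
  have hY' : FibCat.IsFibGrpd (AlgSt.ofSp U.obj).p := Groth.L24.St.ofSp_isFibGrpd _
  haveI : IsAffine (sch (AlgSt.ofSp U.obj) (etaOf (idEt E.obj.left))) := hE
  haveI : IsAffine (sch (AlgSt.ofSp ((yon S).obj E.obj.left)) (etaOf (idEt E.obj.left))) := hE
  haveI : IsAffine (sch (AlgSt.ofSp U.obj) y') := hy
  haveI : IsAffine (sch (AlgSt.ofSp ((yon S).obj E.obj.left)) y') := hy
  obtain ⟨A⟩ := exists_atlas h𝒵 (Groth.L09.Gerbe.isAlgStack_ofSp U) ψ hqc' hqs' (etaOf (idEt E.obj.left))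
  obtain ⟨C⟩ := exists_flatChart h𝒵
  have hu : Function.Bijective (unitSect ψ (etaOf (idEt E.obj.left))) :=
    (unit_bijective_iff (g := AlgSt.ofSpMap g) (π := π) hY hY').1
      ((ofSpMap_idEt E).symm ▸ h.2 E)
  obtain ⟨O₁⟩ := nonempty_over1_ofSch ψ
  obtain ⟨β', -⟩ := exists_hom_of_cls (a := y') (b := etaOf (idEt E.obj.left)) ((yon S).preimage (cls y')) (by
    rw [cls_etaOf, Functor.map_preimage]
    exact Category.comp_id _)
  exact (unit_bijective_iff (g := AlgSt.ofSpMap g) (π := π) hY hY').2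
    (O₁.unit_bijective C (surjective_glob_of_isCohAffine hE ψ hψ) h𝒵.isStack.1 hY' A hu β')

/-- Good moduli spaces are stable under base change. -/
theorem isGoodModuli_fpFst (M M' : AlgSp.Space S) (hc : CompactFibres M.obj)
    (h𝒳 : AlgSt.IsAlgStack Scheme.fppfPrecoverage 𝒳) (g : M'.obj ⟶ M.obj) (π : 𝒳 ⥤ᵇ AlgSt.ofSp M.obj)
    (hqc : AlgSt.IsQuasiCompactMor Scheme.fppfPrecoverage π) (hqs : AlgSt.IsQuasiSeparatedMor π)
    (h𝒳' : AlgSt.IsAlgStack Scheme.fppfPrecoverage (FibCat.fp (AlgSt.ofSpMap g) π))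
    (h : StMod.IsGoodModuli π) : StMod.IsGoodModuli (FibCat.fpFst (AlgSt.ofSpMap g) π) := by
  have hqc' := Groth.L24.St.isQuasiCompactMor_fpFst Scheme.fppfPrecoverage hqc (AlgSt.ofSpMap g)
  have hqs' : AlgSt.IsQuasiSeparatedMor (FibCat.fpFst (AlgSt.ofSpMap g) π) :=
    Groth.L24.St.diag_fpFst_repWith (AlgSt.ofSpMap g) hqs
  refine ⟨isCohAffine_fpFst M M' hc h𝒳 g π h𝒳' hqc' hqs' h.1,
    unitIsIso_of_affine h𝒳'.isStack.1 _ fun E' hE' => ?_⟩
  haveI : IsAffine (sch (AlgSt.ofSp M'.obj) (etaOf E')) := hE'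
  obtain ⟨κ, V, γ, hV, hcov, hE⟩ := exists_etale_cover M.property g E' hE'
  obtain ⟨A⟩ := exists_atlas h𝒳' (Groth.L09.Gerbe.isAlgStack_ofSp M') (FibCat.fpFst (AlgSt.ofSpMap g) π) hqc' hqs'
    (etaOf E')
  refine unit_bijective_of_cover h𝒳'.isStack.1 (Groth.L24.St.ofSp_isFibGrpd _) γ hV hcov A fun i => ?_
  obtain ⟨E, hEa, ⟨β⟩⟩ := hE i
  exact (unit_bijective_iff (Groth.L24.St.ofSp_isFibGrpd _) (Groth.L24.St.ofSp_isFibGrpd _)).1
    (unit_bijective_over M hc h𝒳 π hqc hqs h E hEa (hV i) β)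

end Groth.L09.CohAffBC
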