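import Groth.Agent.L09.CohAffBC.Setup
import Groth.Agent.L09.CohAffBC.Chart
import Groth.Agent.L23.RelGen.DD

/-!
# Surjectivity on global sections over the fibre of a cohomologically affine morphism
-/

universe t w'' v'' w' v' w v u

open CategoryTheory CategoryTheory.Limits AlgebraicGeometry Opposite TopologicalSpace

set_option backward.isDefEq.respectTransparency false
set_option backward.isDefEq.respectTransparency.types false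
set_option linter.style.haveILetI false
set_option linter.unusedSectionVars false
set_option linter.unusedVariables false

noncomputable section

namespace Groth.L09.CohAffBC

open StMod Groth.L23.RelGen Groth.L23.CohAff

variable {S : Scheme.{u}} {𝒵 : BasedCategory.{v', w'} (Over S)} {𝒳 : BasedCategory.{v, w} (Over S)}
  {𝒴 : BasedCategory.{v'', w''} (Over S)} {j : 𝒵 ⥤ᵇ 𝒳}

/-- Arrows to `η` lift, locally on finitely many affines, to objects flat over a given one. -/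
def HasLifts (π : 𝒳 ⥤ᵇ 𝒴) (η : 𝒴.obj) : Prop :=
  ∀ (v v' : AObj 𝒳) (φ : v'.1 ⟶ v.1) (α' : π.obj v'.1 ⟶ η), ∃ 𝒰 : Cover v'.1, Finite 𝒰.ι ∧ ∀ l,
    ∃ (y : AObj 𝒳) (q : y.1 ⟶ v.1) (α : π.obj y.1 ⟶ η) (a : 𝒰.obj l ⟶ y.1),
      Flat (bmap 𝒳 q) ∧ a ≫ q = 𝒰.map l ≫ φ ∧ π.map a ≫ α = π.map (𝒰.map l) ≫ α'

namespace Setup

variable {π : 𝒳 ⥤ᵇ 𝒴} {η : 𝒴.obj} (T : Setup j π η) (C : FlatChart.{t} 𝒳) {F G : QCoh 𝒵} (u' : F ⟶ G)
  (hu : Mod.IsSurj u'.hom) (t : G.obj.GlobSect)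

/-- The section of the datum of the image. -/
def S0 (v : AObj 𝒳) (α : π.obj v.1 ⟶ η) : (T.imgD u').H v := (T.imgEquiv u' v).symm (T.s0 α u' hu t)

theorem S0_natural {v' v : AObj 𝒳} (φ : v'.1 ⟶ v.1) {α : π.obj v.1 ⟶ η} {α' : π.obj v'.1 ⟶ η}
    (hα : π.map φ ≫ α = α') : (T.imgD u').res φ (T.S0 u' hu t v α) = T.S0 u' hu t v' α' :=
  (T.imgEquiv u' v').injective (by
    rw [Push.imgEquiv_res, S0, S0, LinearEquiv.apply_symm_apply, LinearEquiv.apply_symm_apply,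
      T.s0_natural α u' hu t φ hα])

/-- The section of the quasi-coherent image over an object flat over a chart. -/
def pre {y : AObj 𝒳} {i : C.I} (p : y.1 ⟶ (C.x i).1) (hp : Flat (bmap 𝒳 p)) (α : π.obj y.1 ⟶ η) :
    Sec (C.qcoh (T.imgD u')).obj y.1 :=
  (AddEquiv.ofBijective _ (C.eps_bijective (T.imgD u') p hp)).symm (T.S0 u' hu t y α)

theorem eps_pre {y : AObj 𝒳} {i : C.I} (p : y.1 ⟶ (C.x i).1) (hp : Flat (bmap 𝒳 p)) (α : π.obj y.1 ⟶ η) :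
    C.eps (T.imgD u') y (T.pre C u' hu t p hp α) = T.S0 u' hu t y α :=
  (AddEquiv.ofBijective _ (C.eps_bijective (T.imgD u') p hp)).apply_symm_apply _

theorem pre_agree {z y y' : AObj 𝒳} {i k : C.I} (p : y.1 ⟶ (C.x i).1) (hp : Flat (bmap 𝒳 p))
    (p' : y'.1 ⟶ (C.x k).1) (hp' : Flat (bmap 𝒳 p')) (α : π.obj y.1 ⟶ η) (α' : π.obj y'.1 ⟶ η)
    (a : z.1 ⟶ y.1) (a' : z.1 ⟶ y'.1) (h : π.map a ≫ α = π.map a' ≫ α') :
    (C.qcoh (T.imgD u')).obj.mapTop a (T.pre C u' hu t p hp α) =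
      (C.qcoh (T.imgD u')).obj.mapTop a' (T.pre C u' hu t p' hp' α') := by
  obtain ⟨𝒰, -, h𝒰⟩ := C.pairs z i k (a ≫ p) (a' ≫ p')
  refine 𝒰.ext (C.qcoh (T.imgD u')).property.1 (C.qcoh (T.imgD u')).property.2 _ _ fun l => ?_
  obtain ⟨c, s, hsa, hsb⟩ := h𝒰 l
  obtain ⟨o₁, q₁, r₁, w₁, H₁⟩ := exists_square C.fib (C.a c) p
  obtain ⟨o₂, q₂, r₂, w₂, H₂⟩ := exists_square C.fib (C.b c) p'
  haveI : IsAffine (sch 𝒳 o₁) := IsAffine.of_isIso H₁.isoPullback.hom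
  haveI : IsAffine (sch 𝒳 o₂) := IsAffine.of_isIso H₂.isoPullback.hom
  obtain ⟨o, g₁, g₂, w₃, H₃⟩ := exists_square C.fib q₁ q₂
  haveI : IsAffine (sch 𝒳 o) := IsAffine.of_isIso H₃.isoPullback.hom
  obtain ⟨t₁, ht₁, ht₁'⟩ := exists_square_lift C.fib w₁ H₁ s (𝒰.map l ≫ a) (by rw [hsa, Category.assoc])
  obtain ⟨t₂, ht₂, ht₂'⟩ := exists_square_lift C.fib w₂ H₂ s (𝒰.map l ≫ a') (by rw [hsb, Category.assoc])
  obtain ⟨t₃, ht₃, ht₃'⟩ := exists_square_lift C.fib w₃ H₃ t₁ t₂ (by rw [ht₁, ht₂])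
  haveI hr₁ : Flat (bmap 𝒳 r₁) := MorphismProperty.of_isPullback H₁ (C.flat_a c)
  haveI hr₂ : Flat (bmap 𝒳 r₂) := MorphismProperty.of_isPullback H₂ (C.flat_b c)
  haveI hq₁ : Flat (bmap 𝒳 q₁) := MorphismProperty.of_isPullback H₁.flip hp
  haveI hq₂ : Flat (bmap 𝒳 q₂) := MorphismProperty.of_isPullback H₂.flip hp'
  haveI hg₁ : Flat (bmap 𝒳 g₁) := MorphismProperty.of_isPullback H₃.flip hq₂
  haveI hg₂ : Flat (bmap 𝒳 g₂) := MorphismProperty.of_isPullback H₃ hq₁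
  let oA : AObj 𝒳 := ⟨o, ‹_›⟩
  let e := T.e oA (π.map (g₁ ≫ r₁) ≫ α) (π.map (g₂ ≫ r₂) ≫ α')
  obtain ⟨o', r, ho', hr, -, h1, hfac⟩ := exists_idemObj T.hX o oA.2 e (T.e_idem _ _ _)
  haveI := hr
  have hagree := (T.e_spec oA (π.map (g₁ ≫ r₁) ≫ α) (π.map (g₂ ≫ r₂) ≫ α') ⟨o', ho'⟩ r).2 h1
  have hl : fnMap t₃ e = 1 := (T.e_spec oA _ _ (memb 𝒰 l) t₃).1 (by
    rw [← Category.assoc, ← π.toFunctor.map_comp, ← Category.assoc t₃, ht₃, ht₁', ← Category.assoc,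
      ← π.toFunctor.map_comp, ← Category.assoc t₃, ht₃', ht₂', π.toFunctor.map_comp, π.toFunctor.map_comp,
      Category.assoc, Category.assoc, h])
  obtain ⟨t₄, ht₄⟩ := hfac _ t₃ hl
  have key : (C.qcoh (T.imgD u')).obj.mapTop (r ≫ g₁ ≫ r₁) (T.pre C u' hu t p hp α) =
      (C.qcoh (T.imgD u')).obj.mapTop (r ≫ g₂ ≫ r₂) (T.pre C u' hu t p' hp' α') := by
    haveI := hp
    haveI : Flat (bmap 𝒳 ((r ≫ g₁ ≫ r₁) ≫ p)) := by
      rw [bmap_comp, bmap_comp, bmap_comp]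
      infer_instance
    refine (C.eps_bijective (T.imgD u') (x := ⟨o', ho'⟩) ((r ≫ g₁ ≫ r₁) ≫ p) inferInstance).1 ?_
    rw [C.eps_mapTop (T.imgD u') (x := y) (x' := ⟨o', ho'⟩), C.eps_mapTop (T.imgD u') (x := y') (x' := ⟨o', ho'⟩),
      eps_pre, eps_pre, T.S0_natural u' hu t (v' := ⟨o', ho'⟩) (r ≫ g₁ ≫ r₁) rfl,
      T.S0_natural u' hu t (v' := ⟨o', ho'⟩) (r ≫ g₂ ≫ r₂) rfl]
    refine congrArg (T.S0 u' hu t ⟨o', ho'⟩) ?_
    rw [π.toFunctor.map_comp r (g₁ ≫ r₁), π.toFunctor.map_comp r (g₂ ≫ r₂), Category.assoc, Category.assoc]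
    exact hagree
  rw [← Mod.mapTop_comp, ← Mod.mapTop_comp, show 𝒰.map l ≫ a = t₄ ≫ r ≫ g₁ ≫ r₁ by
      rw [← Category.assoc, ht₄, ← Category.assoc, ht₃, ht₁'],
    show 𝒰.map l ≫ a' = t₄ ≫ r ≫ g₂ ≫ r₂ by rw [← Category.assoc, ht₄, ← Category.assoc, ht₃', ht₂'],
    Mod.mapTop_comp, key, ← Mod.mapTop_comp]

/-- The value of the glued section. -/
def IsTau (v : AObj 𝒳) (α : π.obj v.1 ⟶ η) (s : Sec (C.qcoh (T.imgD u')).obj v.1) : Prop :=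
  ∀ (z y : AObj 𝒳) (ψ : z.1 ⟶ v.1) (i : C.I) (p : y.1 ⟶ (C.x i).1) (hp : Flat (bmap 𝒳 p))
    (β : π.obj y.1 ⟶ η) (a : z.1 ⟶ y.1), π.map a ≫ β = π.map ψ ≫ α →
      (C.qcoh (T.imgD u')).obj.mapTop ψ s = (C.qcoh (T.imgD u')).obj.mapTop a (T.pre C u' hu t p hp β)

theorem isTau_map {v' v : AObj 𝒳} (φ : v'.1 ⟶ v.1) {α : π.obj v.1 ⟶ η} {α' : π.obj v'.1 ⟶ η}
    (hα : π.map φ ≫ α = α') {s : Sec (C.qcoh (T.imgD u')).obj v.1} (hs : T.IsTau C u' hu t v α s) :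
    T.IsTau C u' hu t v' α' ((C.qcoh (T.imgD u')).obj.mapTop φ s) := fun z y ψ i p hp β a h => by
  rw [← Mod.mapTop_comp]
  exact hs z y (ψ ≫ φ) i p hp β a (by rw [h, ← hα, π.toFunctor.map_comp, Category.assoc])

variable (hlift : HasLifts π η)

include hlift

theorem exists_pieces (v : AObj 𝒳) (α : π.obj v.1 ⟶ η) : ∃ 𝒱 : Cover v.1, Finite 𝒱.ι ∧ ∀ l,
    ∃ (y : AObj 𝒳) (i : C.I) (p : y.1 ⟶ (C.x i).1) (_ : Flat (bmap 𝒳 p)) (β : π.obj y.1 ⟶ η)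
      (a : 𝒱.obj l ⟶ y.1), π.map a ≫ β = π.map (𝒱.map l) ≫ α := by
  obtain ⟨𝒰, hfin, h𝒰⟩ := C.loc v
  haveI := hfin
  refine exists_refine 𝒰 (fun z g => ∃ (y : AObj 𝒳) (i : C.I) (p : y.1 ⟶ (C.x i).1) (_ : Flat (bmap 𝒳 p))
    (β : π.obj y.1 ⟶ η) (a : z ⟶ y.1), π.map a ≫ β = π.map g ≫ α) fun l => ?_
  obtain ⟨i, ⟨p⟩⟩ := h𝒰 l
  obtain ⟨𝒲, hfin', h𝒲⟩ := hlift (C.x i) (memb 𝒰 l) p (π.map (𝒰.map l) ≫ α)
  refine ⟨𝒲, hfin', fun n => ?_⟩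
  obtain ⟨y, q, β, a, hq, -, ha⟩ := h𝒲 n
  exact ⟨y, i, q, hq, β, a, by rw [ha, π.toFunctor.map_comp, Category.assoc]⟩

theorem isTau_unique {v : AObj 𝒳} {α : π.obj v.1 ⟶ η} {s s' : Sec (C.qcoh (T.imgD u')).obj v.1}
    (h : T.IsTau C u' hu t v α s) (h' : T.IsTau C u' hu t v α s') : s = s' := by
  obtain ⟨𝒱, -, h𝒱⟩ := exists_pieces C hlift v α
  refine 𝒱.ext (C.qcoh (T.imgD u')).property.1 (C.qcoh (T.imgD u')).property.2 _ _ fun l => ?_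
  obtain ⟨y, i, p, hp, β, a, ha⟩ := h𝒱 l
  exact (h (memb 𝒱 l) y _ i p hp β a ha).trans (h' (memb 𝒱 l) y _ i p hp β a ha).symm

theorem exists_isTau (v : AObj 𝒳) (α : π.obj v.1 ⟶ η) : ∃ s, T.IsTau C u' hu t v α s := by
  obtain ⟨𝒱, hfin, h𝒱⟩ := exists_pieces C hlift v α
  haveI := hfin
  choose y i p hp β a ha using h𝒱
  obtain ⟨s, hs⟩ := 𝒱.exists_glue T.hX (C.qcoh (T.imgD u')).property.1 (C.qcoh (T.imgD u')).property.2
    (fun l => (C.qcoh (T.imgD u')).obj.mapTop (a l) (T.pre C u' hu t (p l) (hp l) (β l))) fun z hz k l g g' e => by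
      rw [← Mod.mapTop_comp, ← Mod.mapTop_comp]
      exact T.pre_agree C u' hu t (z := ⟨z, hz⟩) (p k) (hp k) (p l) (hp l) (β k) (β l) (g ≫ a k) (g' ≫ a l) (by
        rw [π.toFunctor.map_comp, π.toFunctor.map_comp, Category.assoc, Category.assoc, ha, ha, ← Category.assoc,
          ← Category.assoc, ← π.toFunctor.map_comp, ← π.toFunctor.map_comp, e])
  refine ⟨s, fun z y' ψ i' p' hp' β' a' h' => ?_⟩
  obtain ⟨𝒲, -, h𝒲⟩ := 𝒱.exists_pullback T.hX ψ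
  refine 𝒲.ext (C.qcoh (T.imgD u')).property.1 (C.qcoh (T.imgD u')).property.2 _ _ fun n => ?_
  obtain ⟨k, b, hb⟩ := h𝒲 n
  rw [← Mod.mapTop_comp, ← hb, Mod.mapTop_comp, hs, ← Mod.mapTop_comp, ← Mod.mapTop_comp]
  exact T.pre_agree C u' hu t (z := memb 𝒲 n) (p k) (hp k) p' hp' (β k) β' (b ≫ a k) (𝒲.map n ≫ a') (by
    rw [π.toFunctor.map_comp, π.toFunctor.map_comp, Category.assoc, Category.assoc, ha, h', ← Category.assoc,
      ← Category.assoc, ← π.toFunctor.map_comp, ← π.toFunctor.map_comp, hb])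

theorem eps_isTau {v : AObj 𝒳} {α : π.obj v.1 ⟶ η} {s : Sec (C.qcoh (T.imgD u')).obj v.1}
    (hs : T.IsTau C u' hu t v α s) : C.eps (T.imgD u') v s = T.S0 u' hu t v α := by
  obtain ⟨𝒱, -, h𝒱⟩ := exists_pieces C hlift v α
  refine (T.imgD u').ext 𝒱 _ _ fun l => ?_
  obtain ⟨y, i, p, hp, β, a, ha⟩ := h𝒱 l
  rw [← C.eps_mapTop (T.imgD u') (x' := memb 𝒱 l), hs (memb 𝒱 l) y _ i p hp β a ha,
    C.eps_mapTop (T.imgD u') (x' := memb 𝒱 l), eps_pre, T.S0_natural u' hu t (v' := memb 𝒱 l) a ha,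
    T.S0_natural u' hu t (v' := memb 𝒱 l) (𝒱.map l) rfl]

include T hu in
theorem exists_tau : ∃ τ : Mod.RelSect π (C.qcoh (T.imgD u')).obj η, ∀ (v : AObj 𝒳) (α : π.obj v.1 ⟶ η),
    C.eps (T.imgD u') v (τ.1 v.1 α) = T.S0 u' hu t v α := by
  let L := (C.qcoh (T.imgD u'))
  choose f hf using T.exists_isTau C u' hu t hlift
  have hfn : ∀ {v' v : AObj 𝒳} (φ : v'.1 ⟶ v.1) (α : π.obj v.1 ⟶ η),
      L.obj.mapTop φ (f v α) = f v' (π.map φ ≫ α) := fun φ α =>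
    T.isTau_unique C u' hu t hlift (T.isTau_map C u' hu t φ rfl (hf _ α)) (hf _ _)
  have hval : ∀ (ξ : 𝒳.obj) (α : π.obj ξ ⟶ η), ∃ s : Sec L.obj ξ,
      ∀ (y : 𝒳.obj) (hy : IsAffine (sch 𝒳 y)) (r : y ⟶ ξ), L.obj.mapTop r s = f ⟨y, hy⟩ (π.map r ≫ α) :=
    fun ξ α => exists_sec_of_affine T.hX L.property.1 (fun y hy r => f ⟨y, hy⟩ (π.map r ≫ α))
      fun y' y hy' hy k r => (hfn (v' := ⟨y', hy'⟩) (v := ⟨y, hy⟩) k _).trans
        (congrArg (f ⟨y', hy'⟩) (by rw [π.toFunctor.map_comp, Category.assoc]))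
  choose s hs using hval
  refine ⟨⟨s, fun ξ' ξ φ α => sec_ext T.hX L.property.1 fun y hy r => ?_⟩, fun v α => ?_⟩
  · rw [← Mod.mapTop_comp, hs _ _ y hy, hs _ _ y hy, π.toFunctor.map_comp, Category.assoc]
  · have h := hs v.1 α v.1 v.2 (𝟙 v.1)
    rw [Mod.mapTop_id, CategoryTheory.Functor.map_id, Category.id_comp] at h
    show C.eps (T.imgD u') v (s v.1 α) = _
    rw [h]
    exact T.eps_isTau C u' hu t hlift (hf v α)

include T C hu in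
/-- Surjectivity on global sections over the fibre. -/
theorem surjective_globSect
    (h : ∀ ⦃A B : QCoh 𝒳⦄ (φ : A ⟶ B), Mod.IsSurj φ.hom → Function.Surjective (Mod.relSectMap π φ.hom η)) :
    Function.Surjective (Mod.globSectMap u'.hom) := by
  intro t
  obtain ⟨ψ, hψ, hψs⟩ := C.exists_map (T.toImg u')
  obtain ⟨τ, hτ⟩ := T.exists_tau C u' hu t hlift
  obtain ⟨σ, hσ⟩ := h ψ (hψs fun i => T.toImg_surjective u' _) τ
  let g : ∀ z : AObj 𝒵, Sec F.obj z.1 := fun z =>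
    (T.pushEquiv F (jA j z) (C.eps (T.pushD F) (jA j z) (σ.1 (j.obj z.1) (T.P z.1)))).1 z.1 (𝟙 (j.obj z.1))
  have hgn : ∀ {z' z : AObj 𝒵} (k : z'.1 ⟶ z.1), F.obj.mapTop k (g z) = g z' := by
    intro z' z k
    refine ((T.pushEquiv F (jA j z) _).2 k (𝟙 _)).trans ?_
    show _ = (T.pushEquiv F (jA j z') _).1 z'.1 (𝟙 _)
    rw [← T.hP k, ← σ.2 (j.map k) (T.P z.1), C.eps_mapTop (T.pushD F) (x' := jA j z') (x := jA j z),
      Push.pushEquiv_res]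
    exact congrArg (_root_.Subtype.val (T.pushEquiv F (jA j z) _) z'.1) (by
      rw [Category.comp_id, Category.id_comp])
  have hgu : ∀ z : AObj 𝒵, (u'.hom.app z.1).app ⊤ (g z) = t.1 z.1 := by
    intro z
    have h₁ : (T.imgEquiv u' (jA j z) (C.eps (T.imgD u') (jA j z)
        ((ψ.hom.app (j.obj z.1)).app ⊤ (σ.1 (j.obj z.1) (T.P z.1))))).1.1 z.1 (𝟙 (j.obj z.1)) = t.1 z.1 := by
      rw [show (ψ.hom.app (j.obj z.1)).app ⊤ (σ.1 (j.obj z.1) (T.P z.1)) = τ.1 (j.obj z.1) (T.P z.1) from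
        congrFun (congrFun (congrArg Subtype.val hσ) _) _, hτ (jA j z), S0, LinearEquiv.apply_symm_apply, s0_val,
        ez, π.toFunctor.map_id, Category.id_comp, e_self, map_one, one_smul]
    rwa [hψ (jA j z), Push.imgEquiv_toImg] at h₁
  have hval : ∀ ξ : 𝒵.obj, ∃ s : Sec F.obj ξ, ∀ (y : 𝒵.obj) (hy : IsAffine (sch 𝒵 y)) (r : y ⟶ ξ),
      F.obj.mapTop r s = g ⟨y, hy⟩ :=
    fun ξ => exists_sec_of_affine T.hZ F.property.1 (fun y hy r => g ⟨y, hy⟩)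
      fun y' y hy' hy k r => hgn (z' := ⟨y', hy'⟩) (z := ⟨y, hy⟩) k
  choose s hs using hval
  refine ⟨⟨s, fun ξ' ξ φ => sec_ext T.hZ F.property.1 fun y hy r => ?_⟩,
    Mod.GlobSect.ext fun ξ => sec_ext T.hZ G.property.1 fun y hy r => ?_⟩
  · rw [← Mod.mapTop_comp, hs _ y hy, hs _ y hy]
  · show G.obj.mapTop r ((u'.hom.app ξ).app ⊤ (s ξ)) = _
    rw [Mod.mapTop_app, hs _ y hy, hgu ⟨y, hy⟩, t.2 r]

end Setup

end Groth.L09.CohAffBC
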