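import Groth.Agent.L09.CohAffBC.QCoh
import Groth.Agent.L23.CohAff.FlatBC
import Mathlib.Algebra.Module.Shrink

/-!
# The data of a pushforward and of the image of a morphism of pushforwards
-/

universe w₂ w' v' w v u

open CategoryTheory CategoryTheory.Limits AlgebraicGeometry Opposite TopologicalSpace
open scoped TensorProduct

set_option backward.isDefEq.respectTransparency false
set_option backward.isDefEq.respectTransparency.types false
set_option linter.style.haveILetI false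
set_option linter.unusedSectionVars false
set_option linter.unusedVariables false

noncomputable section

namespace Groth.L09.CohAffBC

open StMod Groth.L23.RelGen Groth.L23.CohAff

variable {S : Scheme.{u}} {𝒳 : BasedCategory.{v, w} (Over S)}

section Mk

variable (M : AObj 𝒳 → Type w₂) [∀ x, AddCommGroup (M x)] [∀ x : AObj 𝒳, Module (Fn x.1) (M x)]
  [∀ x, Small.{u} (M x)] (r : ∀ {x' x : AObj 𝒳}, (x'.1 ⟶ x.1) → (M x →+ M x'))
  (r_smul : ∀ {x' x : AObj 𝒳} (φ : x'.1 ⟶ x.1) (a : Fn x.1) (m : M x), r φ (a • m) = fnMap φ a • r φ m)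
  (r_comp : ∀ {x'' x' x : AObj 𝒳} (ψ : x''.1 ⟶ x'.1) (φ : x'.1 ⟶ x.1) (m : M x), r ψ (r φ m) = r (ψ ≫ φ) m)
  (r_bc : ∀ {x' x : AObj 𝒳} (φ : x'.1 ⟶ x.1), Flat (bmap 𝒳 φ) →
    letI := (fnMap φ).toAlgebra
    ∃ E : Fn x'.1 ⊗[Fn x.1] M x ≃+ M x', ∀ a m, E (a ⊗ₜ m) = a • r φ m)

/-- A datum from a small family. -/
def mkDatum : FlatDatum 𝒳 where
  H x := ModuleCat.of (Fn x.1) (Shrink.{u} (M x))
  res {x' x} φ :=
    (Shrink.linearEquiv (Fn x'.1) (M x')).symm.toAddMonoidHom.comp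
      ((r φ).comp (Shrink.linearEquiv (Fn x.1) (M x)).toAddMonoidHom)
  res_smul {x' x} φ a m := by
    show (Shrink.linearEquiv (Fn x'.1) (M x')).symm (r φ (Shrink.linearEquiv (Fn x.1) (M x) (a • m))) = _
    rw [map_smul, r_smul, map_smul]
    rfl
  res_comp {x'' x' x} ψ φ m := by
    show (Shrink.linearEquiv (Fn x''.1) (M x'')).symm (r ψ (Shrink.linearEquiv (Fn x'.1) (M x')
      ((Shrink.linearEquiv (Fn x'.1) (M x')).symm (r φ (Shrink.linearEquiv (Fn x.1) (M x) m))))) = _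
    rw [LinearEquiv.apply_symm_apply, r_comp]
    rfl
  bc {x' x} φ hφ := by
    letI := (fnMap φ).toAlgebra
    obtain ⟨E, hE⟩ := r_bc φ hφ
    refine ⟨((TensorProduct.congr (LinearEquiv.refl (Fn x.1) (Fn x'.1))
      (Shrink.linearEquiv (Fn x.1) (M x))).toAddEquiv.trans E).trans
      (Shrink.linearEquiv (Fn x'.1) (M x')).symm.toAddEquiv, fun a m => ?_⟩
    show (Shrink.linearEquiv (Fn x'.1) (M x')).symm
      (E (TensorProduct.congr (LinearEquiv.refl (Fn x.1) (Fn x'.1)) (Shrink.linearEquiv (Fn x.1) (M x))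
        (a ⊗ₜ m))) = _
    rw [TensorProduct.congr_tmul, LinearEquiv.refl_apply, hE, map_smul]
    rfl

end Mk

variable {𝒵 : BasedCategory.{v', w'} (Over S)}

/-- A based functor with atlases of the fibres over affine objects. -/
structure Push (j : 𝒵 ⥤ᵇ 𝒳) where
  hX : FibCat.IsFibGrpd 𝒳.p
  hZ : FibCat.IsFibGrpd 𝒵.p
  /-- the atlases -/
  A : ∀ x : AObj 𝒳, Atlas (fibCat j x.1)

namespace Push

variable {j : 𝒵 ⥤ᵇ 𝒳} (P : Push j) (F G : QCoh 𝒵)

include P in
theorem small (x : AObj 𝒳) : Small.{u} (Mod.RelSect j F.obj x.1) :=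
  small_of_injective (atChart_injective (A := P.A x) P.hZ F.property.1 F.property.2)

/-- The datum of a pushforward. -/
def pushD : FlatDatum 𝒳 :=
  haveI := P.small F
  mkDatum (fun x => Mod.RelSect j F.obj x.1) (fun φ => relRes φ) (fun φ a m => relRes_smul φ a m)
    (fun ψ φ m => relRes_comp ψ φ m) fun {x' x} φ hφ =>
      haveI := hφ
      exists_flatBC P.hZ P.hX F.property.1 F.property.2 φ (P.A x)

/-- Sections of the pushforward. -/
def pushEquiv (x : AObj 𝒳) : (P.pushD F).H x ≃ₗ[Fn x.1] Mod.RelSect j F.obj x.1 :=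
  haveI := P.small F
  Shrink.linearEquiv (Fn x.1) (Mod.RelSect j F.obj x.1)

theorem pushEquiv_res {x' x : AObj 𝒳} (φ : x'.1 ⟶ x.1) (m : (P.pushD F).H x) :
    P.pushEquiv F x' ((P.pushD F).res φ m) = relRes φ (P.pushEquiv F x m) :=
  haveI := P.small F
  LinearEquiv.apply_symm_apply _ _

variable {F G} (u' : F ⟶ G)

/-- The image of a morphism of pushforwards. -/
abbrev Img (j : 𝒵 ⥤ᵇ 𝒳) {F G : QCoh 𝒵} (u' : F ⟶ G) (x : AObj 𝒳) : Submodule (Fn x.1) (Mod.RelSect j G.obj x.1) :=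
  LinearMap.range (Mod.relSectMap j u'.hom x.1)

/-- Restriction of the image. -/
def imgRes (j : 𝒵 ⥤ᵇ 𝒳) {F G : QCoh 𝒵} (u' : F ⟶ G) {x' x : AObj 𝒳} (φ : x'.1 ⟶ x.1) : Img j u' x →+ Img j u' x' where
  toFun m := ⟨relRes φ m.1, by
    obtain ⟨_, s, rfl⟩ := m
    exact ⟨relRes φ s, (relRes_map φ u'.hom s).symm⟩⟩
  map_zero' := Subtype.ext (map_zero _)
  map_add' a b := Subtype.ext (map_add _ _ _)

include P in
theorem small_img (x : AObj 𝒳) : Small.{u} (Img j u' x) :=
  haveI := P.small G x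
  small_of_injective Subtype.val_injective

include P in
theorem img_bc {x' x : AObj 𝒳} (φ : x'.1 ⟶ x.1) (hφ : Flat (bmap 𝒳 φ)) :
    letI := (fnMap φ).toAlgebra
    ∃ E : Fn x'.1 ⊗[Fn x.1] Img j u' x ≃+ Img j u' x', ∀ a m, E (a ⊗ₜ m) = a • imgRes j u' φ m := by
  haveI := hφ
  letI := (fnMap φ).toAlgebra
  haveI : Module.Flat (Fn x.1) (Fn x'.1) := fnMap_flat φ
  obtain ⟨EF, hEF⟩ := exists_flatBC P.hZ P.hX F.property.1 F.property.2 φ (P.A x)
  obtain ⟨EG, hEG⟩ := exists_flatBC P.hZ P.hX G.property.1 G.property.2 φ (P.A x)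
  let Ψ : Fn x'.1 ⊗[Fn x.1] Img j u' x →+ Mod.RelSect j G.obj x'.1 :=
    EG.toAddMonoidHom.comp ((Img j u' x).subtype.lTensor (Fn x'.1)).toAddMonoidHom
  have hΨ : ∀ a m, Ψ (a ⊗ₜ m) = a • relRes φ m.1 := fun a m => hEG a m.1
  have hmem : ∀ t, Ψ t ∈ Img j u' x' := fun t => by
    induction t using TensorProduct.induction_on with
    | zero => rw [map_zero]; exact zero_mem _
    | tmul a m => rw [hΨ]; exact Submodule.smul_mem _ _ (imgRes j u' φ m).2
    | add a b ha hb => rw [map_add]; exact add_mem ha hb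
  refine ⟨AddEquiv.ofBijective (Ψ.codRestrict (Img j u' x').toAddSubmonoid hmem) ⟨fun s t e => ?_, fun m => ?_⟩,
    fun a m => Subtype.ext (hΨ a m)⟩
  · exact Module.Flat.lTensor_preserves_injective_linearMap _ (Img j u' x).injective_subtype
      (EG.injective (congrArg Subtype.val e))
  · obtain ⟨_, s, rfl⟩ := m
    obtain ⟨t, rfl⟩ := EF.surjective s
    refine ⟨(Mod.relSectMap j u'.hom x.1).rangeRestrict.lTensor (Fn x'.1) t, Subtype.ext ?_⟩
    show Ψ _ = Mod.relSectMap j u'.hom x'.1 (EF t)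
    induction t using TensorProduct.induction_on with
    | zero => simp only [map_zero]
    | tmul a s => rw [LinearMap.lTensor_tmul, hΨ, hEF, map_smul]; exact congrArg _ (relRes_map φ u'.hom s)
    | add a b ha hb => simp only [map_add, ha, hb]

/-- The datum of the image. -/
def imgD : FlatDatum 𝒳 :=
  haveI := P.small_img u'
  mkDatum (fun x => Img j u' x) (fun φ => imgRes j u' φ) (fun φ a m => Subtype.ext (relRes_smul φ a m.1))
    (fun ψ φ m => Subtype.ext (relRes_comp ψ φ m.1)) fun φ hφ => P.img_bc u' φ hφ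

/-- Sections of the image. -/
def imgEquiv (x : AObj 𝒳) : (P.imgD u').H x ≃ₗ[Fn x.1] Img j u' x :=
  haveI := P.small_img u'
  Shrink.linearEquiv (Fn x.1) (Img j u' x)

theorem imgEquiv_res {x' x : AObj 𝒳} (φ : x'.1 ⟶ x.1) (m : (P.imgD u').H x) :
    P.imgEquiv u' x' ((P.imgD u').res φ m) = imgRes j u' φ (P.imgEquiv u' x m) :=
  haveI := P.small_img u'
  LinearEquiv.apply_symm_apply _ _

/-- The map onto the image. -/
def toImg : DHom (P.pushD F) (P.imgD u') where
  f x := ((P.imgEquiv u' x).symm.toLinearMap.comp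
    ((Mod.relSectMap j u'.hom x.1).rangeRestrict.comp (P.pushEquiv F x).toLinearMap)).toAddMonoidHom
  f_smul x r m := LinearMap.map_smul ((P.imgEquiv u' x).symm.toLinearMap.comp
    ((Mod.relSectMap j u'.hom x.1).rangeRestrict.comp (P.pushEquiv F x).toLinearMap)) r m
  f_res {x' x} φ m := by
    apply (P.imgEquiv u' x').injective
    rw [imgEquiv_res]
    show P.imgEquiv u' x' ((P.imgEquiv u' x').symm _) = imgRes j u' φ (P.imgEquiv u' x ((P.imgEquiv u' x).symm _))
    rw [LinearEquiv.apply_symm_apply, LinearEquiv.apply_symm_apply]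
    refine Subtype.ext ?_
    show Mod.relSectMap j u'.hom x'.1 (P.pushEquiv F x' ((P.pushD F).res φ m)) = _
    rw [pushEquiv_res]
    exact (relRes_map φ u'.hom _).symm

theorem imgEquiv_toImg (x : AObj 𝒳) (m : (P.pushD F).H x) :
    (P.imgEquiv u' x ((P.toImg u').f x m)).1 = Mod.relSectMap j u'.hom x.1 (P.pushEquiv F x m) :=
  congrArg Subtype.val ((P.imgEquiv u' x).apply_symm_apply
    ((Mod.relSectMap j u'.hom x.1).rangeRestrict (P.pushEquiv F x m)))

theorem toImg_surjective (x : AObj 𝒳) : Function.Surjective ((P.toImg u').f x) := fun y => by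
  obtain ⟨s, hs⟩ := (P.imgEquiv u' x y).2
  exact ⟨(P.pushEquiv F x).symm s, (P.imgEquiv u' x).injective (Subtype.ext (by
    rw [imgEquiv_toImg, LinearEquiv.apply_symm_apply, hs]))⟩

end Push

end Groth.L09.CohAffBC
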