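import Groth.Agent.L09.CohAffBC.Trans

/-!
# The quasi-coherent module of a datum on a stack with flat charts
-/

universe t w v u

open CategoryTheory CategoryTheory.Limits AlgebraicGeometry Opposite TopologicalSpace
open scoped TensorProduct

set_option backward.isDefEq.respectTransparency false
set_option backward.isDefEq.respectTransparency.types false
set_option linter.style.haveILetI false
set_option linter.unusedSectionVars false
set_option linter.unusedVariables false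

noncomputable section

namespace Groth.L09.CohAffBC

open StMod Groth.L23.RelGen Groth.L23.TwDesc

variable {S : Scheme.{u}} {𝒳 : BasedCategory.{v, w} (Over S)}

/-- Surjectivity of a morphism of quasi-coherent modules descends along flat covers of an affine object. -/
theorem surjective_of_cover_mod {F G : Mod 𝒳} (hF : F.IsCartesian) (hFq : F.IsLocQCoh) (hG : G.IsCartesian)
    (hGq : G.IsLocQCoh) (φ : F ⟶ G) (x : AObj 𝒳) (𝒰 : Cover x.1)
    (h : ∀ l, Function.Surjective ((φ.app (𝒰.obj l)).app ⊤)) : Function.Surjective ((φ.app x.1).app ⊤) := by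
  intro m
  let f : Sec F x.1 →ₗ[Fn x.1] Sec G x.1 :=
    { toFun := fun a => (φ.app x.1).app ⊤ a
      map_add' := fun a b => map_add _ a b
      map_smul' := fun r a => (φ.app x.1).app_smul r a }
  letI := fun l => (fnMap (𝒰.map l)).toAlgebra
  haveI := 𝒰.affine
  haveI := fun l => Groth.L19.QCohFpqc.IsCov.flat_appTop (fun l => bmap 𝒳 (𝒰.map l)) 𝒰.cov l
  suffices hm : (LinearMap.range f).mkQ m = 0 by
    obtain ⟨a, ha⟩ := (Submodule.Quotient.mk_eq_zero (LinearMap.range f)).1 hm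
    exact ⟨a, ha⟩
  refine Groth.L19.QCohFpqc.eq_zero_of_forall (fun l => Fn (𝒰.obj l))
    (Groth.L19.QCohFpqc.IsCov.prime_lift (fun l => bmap 𝒳 (𝒰.map l)) 𝒰.cov) _ fun l => ?_
  obtain ⟨EF, hEF⟩ := exists_bcEquiv hF hFq (𝒰.map l)
  obtain ⟨EG, hEG⟩ := exists_bcEquiv hG hGq (𝒰.map l)
  have key : ∀ w, EG (f.lTensor (Fn (𝒰.obj l)) w) = (φ.app (𝒰.obj l)).app ⊤ (EF w) := fun w => by
    induction w using TensorProduct.induction_on with
    | zero => simp only [map_zero]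
    | tmul r s =>
      rw [LinearMap.lTensor_tmul, hEG, hEF, Scheme.Modules.Hom.app_smul]
      exact congrArg _ (Mod.mapTop_app φ (𝒰.map l) s)
    | add a b ha hb => simp only [map_add, ha, hb]
  obtain ⟨a, ha⟩ := h l (G.mapTop (𝒰.map l) m)
  have e : f.lTensor (Fn (𝒰.obj l)) (EF.symm a) = (1 : Fn (𝒰.obj l)) ⊗ₜ m := by
    refine EG.injective ?_
    rw [key, AddEquiv.apply_symm_apply, ha, hEG, one_smul]
  rw [← LinearMap.lTensor_tmul, ← e, ← LinearMap.comp_apply, ← LinearMap.lTensor_comp,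
    LinearMap.range_mkQ_comp, LinearMap.lTensor_zero, LinearMap.zero_apply]

/-- A morphism of data. -/
structure DHom (D D' : FlatDatum 𝒳) where
  /-- the maps -/
  f : ∀ x : AObj 𝒳, D.H x →+ D'.H x
  f_smul : ∀ x (r : Fn x.1) (m : D.H x), f x (r • m) = r • f x m
  f_res : ∀ {x' x : AObj 𝒳} (φ : x'.1 ⟶ x.1) (m : D.H x), f x' (D.res φ m) = D'.res φ (f x m)

namespace FlatDatum

variable (D : FlatDatum 𝒳)

theorem res_self (x : AObj 𝒳) (m : D.H x) : D.res (𝟙 x.1) m = m := by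
  refine D.ext (x := x) ⟨PUnit, fun _ => x.1, fun _ => 𝟙 x.1, fun _ => x.2,
    ⟨fun _ => by rw [bmap_id]; infer_instance, fun q => ⟨⟨⟩, q, by rw [bmap_id]; rfl⟩⟩⟩ _ _ fun _ => ?_
  rw [D.res_comp, D.res_congr (x' := x) (x := x) (Category.comp_id (𝟙 x.1))]

theorem rmap_pullTr {y' y c : AObj 𝒳} (k : y'.1 ⟶ y.1) {p : y.1 ⟶ c.1} {p' : y'.1 ⟶ c.1} (hk : k ≫ p = p')
    (e : Ext (fnMap p) (D.H c)) : D.rmap p' (pullTr (D.H c) k hk e) = D.res k (D.rmap p e) := by
  refine Ext.induction e (by simp only [map_zero]) (fun r m => ?_) fun e e' h h' => by simp only [map_add, h, h']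
  rw [pullTr_smul, rmap_smul, pullTr_ι, rmap_ι, rmap_smul, rmap_ι, D.res_smul, D.res_comp, D.res_congr hk]

theorem rmap_amap {y o x : AObj 𝒳} {p : y.1 ⟶ x.1} (t : y.1 ⟶ o.1) (a : o.1 ⟶ x.1) (h : t ≫ a = p)
    (e : Ext (fnMap p) (D.H x)) : D.rmap t (D.amap t a h e) = D.rmap p e := by
  refine Ext.induction e (by simp only [map_zero]) (fun r m => ?_) fun e e' he he' => by simp only [map_add, he, he']
  rw [amap_smul, rmap_smul, amap_ι, rmap_ι, rmap_smul, rmap_ι, D.res_comp, D.res_congr h]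

end FlatDatum

namespace DHom

variable {D D' : FlatDatum 𝒳} (f : DHom D D')

/-- The map on extensions. -/
def emap {y : 𝒳.obj} {c : AObj 𝒳} (p : y ⟶ c.1) : Ext (fnMap p) (D.H c) →+ Ext (fnMap p) (D'.H c) :=
  lift (fnMap p) (RingHom.id (Fn y)) ((ι (fnMap p)).comp (f.f c)) fun r m => by
    show ι (fnMap p) (f.f c (r • m)) = fnMap p r • ι (fnMap p) (f.f c m)
    rw [f.f_smul, ι_smul]

theorem emap_ι {y : 𝒳.obj} {c : AObj 𝒳} (p : y ⟶ c.1) (m : D.H c) :
    f.emap p (ι (fnMap p) m) = ι (fnMap p) (f.f c m) := lift_ι _ _ _ _ _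

theorem emap_smul {y : 𝒳.obj} {c : AObj 𝒳} (p : y ⟶ c.1) (r : Fn y) (e : Ext (fnMap p) (D.H c)) :
    f.emap p (r • e) = r • f.emap p e := lift_smul (fnMap p) (RingHom.id (Fn y)) _ _ r e

theorem emap_pullTr {y' y : 𝒳.obj} {c : AObj 𝒳} (k : y' ⟶ y) {p : y ⟶ c.1} {p' : y' ⟶ c.1} (hk : k ≫ p = p')
    (e : Ext (fnMap p) (D.H c)) :
    f.emap p' (pullTr (D.H c) k hk e) = pullTr (D'.H c) k hk (f.emap p e) := by
  refine Ext.induction e (by simp only [map_zero]) (fun r m => ?_) fun e e' h h' => by simp only [map_add, h, h']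
  rw [pullTr_smul, emap_smul, pullTr_ι, emap_ι, emap_smul, emap_ι, pullTr_smul, pullTr_ι]

theorem emap_amap {y : 𝒳.obj} {o x : AObj 𝒳} {p : y ⟶ x.1} (t : y ⟶ o.1) (a : o.1 ⟶ x.1) (h : t ≫ a = p)
    (e : Ext (fnMap p) (D.H x)) : f.emap t (D.amap t a h e) = D'.amap t a h (f.emap p e) := by
  refine Ext.induction e (by simp only [map_zero]) (fun r m => ?_) fun e e' h h' => by simp only [map_add, h, h']
  rw [FlatDatum.amap_smul, emap_smul, FlatDatum.amap_ι, emap_ι, emap_smul, emap_ι, FlatDatum.amap_smul,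
    FlatDatum.amap_ι, f.f_res]

theorem rmap_emap {y c : AObj 𝒳} (p : y.1 ⟶ c.1) (e : Ext (fnMap p) (D.H c)) :
    D'.rmap p (f.emap p e) = f.f y (D.rmap p e) := by
  refine Ext.induction e (by simp only [map_zero]) (fun r m => ?_) fun e e' h h' => by simp only [map_add, h, h']
  rw [emap_smul, FlatDatum.rmap_smul, emap_ι, FlatDatum.rmap_ι, FlatDatum.rmap_smul, FlatDatum.rmap_ι,
    f.f_smul, f.f_res]

theorem emap_surjective {y : 𝒳.obj} {c : AObj 𝒳} (p : y ⟶ c.1) (h : Function.Surjective (f.f c)) :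
    Function.Surjective (f.emap p) := fun e => by
  refine Ext.induction e ⟨0, map_zero _⟩ (fun r m => ?_) fun e e' ⟨a, ha⟩ ⟨b, hb⟩ => ⟨a + b, by rw [map_add, ha, hb]⟩
  obtain ⟨n, rfl⟩ := h m
  exact ⟨r • ι (fnMap p) n, by rw [emap_smul, emap_ι]⟩

end DHom

namespace FlatChart

variable (C : FlatChart.{t} 𝒳) (D : FlatDatum 𝒳)

/-- Affine objects over a chart. -/
structure Piece : Type (max t w v) where
  /-- the object -/
  y : AObj 𝒳
  /-- the chart -/
  i : C.I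
  /-- the morphism to the chart -/
  p : y.1 ⟶ (C.x i).1

/-- The pieces over the charts. -/
def pieces : Pieces.{max t w v} 𝒳 where
  fib := C.fib
  J := C.Piece
  o j := j.y.1
  aff j := j.y.2
  lift z hz j s := ⟨⟨⟨z, hz⟩, j.i, s ≫ j.p⟩, ⟨Iso.refl z⟩⟩
  loc x hx := by
    obtain ⟨𝒰, hfin, h⟩ := C.loc ⟨x, hx⟩
    exact ⟨𝒰.ι, hfin, fun l => ⟨memb 𝒰 l, (h l).choose, (h l).choose_spec.some⟩, 𝒰.map, 𝒰.cov⟩

/-- The module at a piece. -/
abbrev pcM (j : C.Piece) : ModuleCat.{u} (Fn j.y.1) := Ext (fnMap j.p) (D.H (C.x j.i))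

/-- The restriction between pieces. -/
def pcT {j' j : C.Piece} (β : j'.y.1 ⟶ j.y.1) : C.pcM D j →ₛₗ[fnMap β] C.pcM D j' where
  toFun e := C.trans D (y := j'.y) (β ≫ j.p) j'.p (pullTr (D.H (C.x j.i)) β rfl e)
  map_add' a b := by simp only [map_add]
  map_smul' r a := by rw [pullTr_smul, C.trans_smul]

theorem pcT_apply {j' j : C.Piece} (β : j'.y.1 ⟶ j.y.1) (e : C.pcM D j) :
    C.pcT D β e = C.trans D (y := j'.y) (β ≫ j.p) j'.p (pullTr (D.H (C.x j.i)) β rfl e) := rfl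

theorem pcT_comp {j'' j' j : C.Piece} (β : j''.y.1 ⟶ j'.y.1) (γ : j'.y.1 ⟶ j.y.1) (e : C.pcM D j) :
    C.pcT D β (C.pcT D γ e) = C.pcT D (β ≫ γ) e := by
  rw [pcT_apply, pcT_apply, pcT_apply, ← C.trans_natural D β (p' := β ≫ γ ≫ j.p) rfl rfl, C.trans_comp,
    pullTr_comp _ β γ rfl rfl (Category.assoc _ _ _)]
  have key : ∀ {q q' : j''.y.1 ⟶ (C.x j.i).1} (hq : (β ≫ γ) ≫ j.p = q) (hq' : (β ≫ γ) ≫ j.p = q'),
      C.trans D q j''.p (pullTr (D.H (C.x j.i)) (β ≫ γ) hq e) =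
        C.trans D q' j''.p (pullTr (D.H (C.x j.i)) (β ≫ γ) hq' e) := by
    rintro q q' rfl rfl; rfl
  exact key _ _

theorem pcT_id (j : C.Piece) (e : C.pcM D j) : C.pcT D (𝟙 j.y.1) e = e := by
  have key : ∀ {q : j.y.1 ⟶ (C.x j.i).1} (hq : 𝟙 j.y.1 ≫ j.p = q), q = j.p →
      C.trans D q j.p (pullTr (D.H (C.x j.i)) (𝟙 j.y.1) hq e) = e := by
    rintro q hq rfl
    rw [C.trans_self, pullTr_id]
  exact key rfl (Category.id_comp _)

theorem exists_pcT_equiv {j' j : C.Piece} (β : j'.y.1 ⟶ j.y.1) :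
    letI := (fnMap β).toAlgebra
    ∃ E : Fn j'.y.1 ⊗[Fn j.y.1] C.pcM D j ≃+ C.pcM D j', ∀ r m, E (r ⊗ₜ m) = r • C.pcT D β m := by
  letI := (fnMap β).toAlgebra
  obtain ⟨E, hE⟩ := exists_trEquiv (fnMap β) (fnMap_comp' (χ := β ≫ j.p) rfl) (D.H (C.x j.i))
  refine ⟨E.trans (AddEquiv.ofBijective _ (C.trans_bijective D (y := j'.y) (β ≫ j.p) j'.p)), fun r m => ?_⟩
  show C.trans D (y := j'.y) (β ≫ j.p) j'.p (E (r ⊗ₜ m)) = _
  rw [hE, C.trans_smul]
  rfl

/-- The datum on the pieces. -/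
def pdatum : PDatum.{max t w v} 𝒳 where
  toPieces := C.pieces
  M j := C.pcM D j
  T β := C.pcT D β
  T_id j e := C.pcT_id D j e
  T_comp β γ e := C.pcT_comp D β γ e
  bc β := C.exists_pcT_equiv D β

/-- The quasi-coherent module. -/
def qcoh : QCoh 𝒳 := (C.pdatum D).toQCoh

/-- The value of a section at a piece. -/
def evP {x : 𝒳.obj} (j : C.Piece) (α : j.y.1 ⟶ x) (s : Sec (C.qcoh D).obj x) : C.pcM D j :=
  (C.pdatum D).evG (j := j) α s

theorem rmap_trans {y : AObj 𝒳} {i k : C.I} (p : y.1 ⟶ (C.x i).1) (q : y.1 ⟶ (C.x k).1)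
    (e : Ext (fnMap p) (D.H (C.x i))) : D.rmap q (C.trans D p q e) = D.rmap p e := by
  obtain ⟨𝒰, -, h𝒰⟩ := C.pairs y i k p q
  refine D.ext 𝒰 _ _ fun l => ?_
  obtain ⟨c, t, hta, htb⟩ := h𝒰 l
  rw [← D.rmap_pullTr (y' := memb 𝒰 l) (𝒰.map l) rfl, ← D.rmap_pullTr (y' := memb 𝒰 l) (𝒰.map l) rfl,
    ← C.trans_natural D (y' := memb 𝒰 l) (𝒰.map l) rfl rfl,
    C.trans_θ D (y := memb 𝒰 l) (C.stdLift c t hta htb), ← D.rmap_amap (y := memb 𝒰 l) t (C.b c) htb,
    ← D.rmap_amap (y := memb 𝒰 l) t (C.a c) hta]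
  exact congrArg _ ((C.stdLift c t hta htb).amap_θ D _)

theorem rmap_pcT {j' j : C.Piece} (β : j'.y.1 ⟶ j.y.1) (e : C.pcM D j) :
    D.rmap j'.p (C.pcT D β e) = D.res β (D.rmap j.p e) := by
  rw [pcT_apply, rmap_trans, D.rmap_pullTr]

/-- The evaluation of a section of the module. -/
def IsEval {x : AObj 𝒳} (s : Sec (C.qcoh D).obj x.1) (m : D.H x) : Prop :=
  ∀ (j : C.Piece) (α : j.y.1 ⟶ x.1), D.rmap j.p (C.evP D j α s) = D.res α m

theorem isEval_unique {x : AObj 𝒳} {s : Sec (C.qcoh D).obj x.1} {m m' : D.H x} (h : C.IsEval D s m)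
    (h' : C.IsEval D s m') : m = m' := by
  obtain ⟨𝒰, -⟩ := exists_pcov (P := C.pieces) x.2
  refine D.ext 𝒰.toCover _ _ fun l => ?_
  exact (h (𝒰.j l) (𝒰.map l)).symm.trans (h' (𝒰.j l) (𝒰.map l))

theorem exists_isEval {x : AObj 𝒳} (s : Sec (C.qcoh D).obj x.1) : ∃ m, C.IsEval D s m := by
  obtain ⟨𝒰, hfin⟩ := exists_pcov (P := C.pieces) x.2
  haveI : Finite 𝒰.toCover.ι := hfin
  have hev : ∀ {j' j : C.Piece} (β : j'.y.1 ⟶ j.y.1) (α : j.y.1 ⟶ x.1) (α' : j'.y.1 ⟶ x.1) (_ : β ≫ α = α'),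
      D.rmap j'.p (C.evP D j' α' s) = D.res β (D.rmap j.p (C.evP D j α s)) := fun {j' j} β α α' hα => by
    rw [← rmap_pcT]
    exact congrArg _ (PDatum.evG_map (D := C.pdatum D) (j' := j') (j := j) β hα s).symm
  obtain ⟨m, hm⟩ := D.exists_glue C.fib (x := x) 𝒰.toCover
    (fun l => D.rmap (𝒰.j l).p (C.evP D (𝒰.j l) (𝒰.map l) s)) fun z k l p q e => by
      let jz : C.Piece := ⟨z, (𝒰.j k).i, p ≫ (𝒰.j k).p⟩
      exact (hev (j' := jz) (j := 𝒰.j k) p (𝒰.map k) _ rfl).symm.trans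
        (hev (j' := jz) (j := 𝒰.j l) q (𝒰.map l) _ e.symm)
  refine ⟨m, fun j α => ?_⟩
  obtain ⟨𝒵, -, h𝒵⟩ := 𝒰.exists_pullback j.y.2 x.2 α
  refine D.ext 𝒵.toCover _ _ fun n => ?_
  obtain ⟨l, b, hb⟩ := h𝒵 n
  refine (hev (j' := 𝒵.j n) (j := j) (𝒵.map n) α (b ≫ 𝒰.map l) hb.symm).symm.trans ?_
  rw [hev (j' := 𝒵.j n) (j := 𝒰.j l) b (𝒰.map l) _ rfl, D.res_comp]
  refine (congrArg (D.res (x := (𝒰.j l).y) b) (hm l).symm).trans ?_
  exact (D.res_comp (x'' := (𝒵.j n).y) (x' := (𝒰.j l).y) (x := x) b (𝒰.map l) m).trans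
    (D.res_congr (x' := (𝒵.j n).y) (x := x) hb m)

/-- Evaluation in the datum. -/
def eps (x : AObj 𝒳) : Sec (C.qcoh D).obj x.1 →+ D.H x where
  toFun s := (C.exists_isEval D s).choose
  map_zero' := C.isEval_unique D (C.exists_isEval D 0).choose_spec fun j α => by
    have h : C.evP D j α (0 : Sec (C.qcoh D).obj x.1) = 0 := by
      have := PDatum.evG_add (D := C.pdatum D) (j := j) α (0 : Sec (C.qcoh D).obj x.1) 0
      rw [add_zero] at this
      exact left_eq_add.1 this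
    rw [h, map_zero, map_zero]
  map_add' a b := C.isEval_unique D (C.exists_isEval D (a + b)).choose_spec fun j α => by
    rw [show C.evP D j α (a + b) = C.evP D j α a + C.evP D j α b from PDatum.evG_add (D := C.pdatum D) α a b,
      map_add, map_add, (C.exists_isEval D a).choose_spec j α, (C.exists_isEval D b).choose_spec j α]

theorem isEval_eps {x : AObj 𝒳} (s : Sec (C.qcoh D).obj x.1) : C.IsEval D s (C.eps D x s) :=
  (C.exists_isEval D s).choose_spec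

theorem eps_smul {x : AObj 𝒳} (r : Fn x.1) (s : Sec (C.qcoh D).obj x.1) :
    C.eps D x (r • s) = r • C.eps D x s :=
  C.isEval_unique D (C.isEval_eps D _) fun j α => by
    rw [show C.evP D j α (r • s) = fnMap α r • C.evP D j α s from PDatum.evG_smul (D := C.pdatum D) α r s,
      D.rmap_smul, C.isEval_eps D s j α, D.res_smul]

theorem eps_mapTop {x' x : AObj 𝒳} (φ : x'.1 ⟶ x.1) (s : Sec (C.qcoh D).obj x.1) :
    C.eps D x' ((C.qcoh D).obj.mapTop φ s) = D.res φ (C.eps D x s) :=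
  C.isEval_unique D (C.isEval_eps D _) fun j α => by
    rw [show C.evP D j α ((C.qcoh D).obj.mapTop φ s) = C.evP D j (α ≫ φ) s from
      PDatum.evG_mapTop (D := C.pdatum D) φ α s, C.isEval_eps D s j (α ≫ φ), D.res_comp]

theorem eps_bijective {x : AObj 𝒳} {i : C.I} (p : x.1 ⟶ (C.x i).1) (hp : Flat (bmap 𝒳 p)) :
    Function.Bijective (C.eps D x) := by
  let j : C.Piece := ⟨x, i, p⟩
  have e : ⇑(C.eps D x) = D.rmap p ∘ C.evP D j (𝟙 x.1) := funext fun s => by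
    exact (D.res_self x _).symm.trans (C.isEval_eps D s j (𝟙 x.1)).symm
  rw [e]
  exact (D.rmap_bijective p hp).comp (PDatum.evG_id_bijective (D := C.pdatum D) j)

variable {D} {D' : FlatDatum 𝒳} (f : DHom D D')

theorem emap_trans {y : AObj 𝒳} {i k : C.I} (p : y.1 ⟶ (C.x i).1) (q : y.1 ⟶ (C.x k).1)
    (e : Ext (fnMap p) (D.H (C.x i))) : f.emap q (C.trans D p q e) = C.trans D' p q (f.emap p e) := by
  obtain ⟨𝒰, -, h𝒰⟩ := C.pairs y i k p q
  refine pull_ext C.fib y.2 𝒰 q _ _ fun l => ?_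
  obtain ⟨c, t, hta, htb⟩ := h𝒰 l
  rw [← f.emap_pullTr, ← C.trans_natural D (y' := memb 𝒰 l) (𝒰.map l) rfl rfl,
    ← C.trans_natural D' (y' := memb 𝒰 l) (𝒰.map l) rfl rfl, ← f.emap_pullTr,
    C.trans_θ D (y := memb 𝒰 l) (C.stdLift c t hta htb), C.trans_θ D' (y := memb 𝒰 l) (C.stdLift c t hta htb)]
  refine ((C.stdLift c t hta htb).θ_eq D' ?_).symm
  rw [← f.emap_amap, ← f.emap_amap]
  exact congrArg _ ((C.stdLift c t hta htb).amap_θ D _)

/-- A morphism of data induces a morphism of modules compatible with evaluation. -/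
theorem exists_map : ∃ u : C.qcoh D ⟶ C.qcoh D',
    (∀ (x : AObj 𝒳) (s : Sec (C.qcoh D).obj x.1), C.eps D' x ((u.hom.app x.1).app ⊤ s) = f.f x (C.eps D x s)) ∧
      ((∀ i, Function.Surjective (f.f (C.x i))) → Mod.IsSurj u.hom) := by
  let e : ∀ j : C.Piece, Sec (C.qcoh D).obj j.y.1 ≃ C.pcM D j := fun j =>
    Equiv.ofBijective (C.evP D j (𝟙 j.y.1)) (PDatum.evG_id_bijective (D := C.pdatum D) j)
  let e' : ∀ j : C.Piece, Sec (C.qcoh D').obj j.y.1 ≃ C.pcM D' j := fun j =>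
    Equiv.ofBijective (C.evP D' j (𝟙 j.y.1)) (PDatum.evG_id_bijective (D := C.pdatum D') j)
  have fid : ∀ (j : C.Piece) (r : Fn j.y.1), fnMap (𝟙 j.y.1) r = r := fun j r => by
    rw [fnMap, bmap_id, Scheme.Hom.id_appTop]; rfl
  let θ : ∀ j : C.Piece, Sec (C.qcoh D).obj j.y.1 →ₗ[Fn j.y.1] Sec (C.qcoh D').obj j.y.1 := fun j =>
    { toFun := fun s => (e' j).symm (f.emap j.p (e j s))
      map_add' := fun a b => (e' j).injective (by
        rw [Equiv.apply_symm_apply]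
        show f.emap j.p (C.evP D j _ (a + b)) = C.evP D' j _ (_ + _)
        rw [show C.evP D j (𝟙 j.y.1) (a + b) = _ from PDatum.evG_add (D := C.pdatum D) _ a b, map_add]
        refine Eq.trans ?_ (PDatum.evG_add (D := C.pdatum D') _ _ _).symm
        exact congrArg₂ (· + ·) ((e' j).apply_symm_apply _).symm ((e' j).apply_symm_apply _).symm)
      map_smul' := fun r a => (e' j).injective (by
        rw [Equiv.apply_symm_apply]
        show f.emap j.p (C.evP D j _ (r • a)) = C.evP D' j _ (r • _)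
        rw [show C.evP D j (𝟙 j.y.1) (r • a) = fnMap (𝟙 j.y.1) r • C.evP D j (𝟙 j.y.1) a from
            PDatum.evG_smul (D := C.pdatum D) _ r a, f.emap_smul]
        refine Eq.trans ?_ (PDatum.evG_smul (D := C.pdatum D') _ r _).symm
        exact congrArg (fnMap (𝟙 j.y.1) r • ·) ((e' j).apply_symm_apply _).symm) }
  obtain ⟨φ, hφ⟩ := C.pieces.exists_hom (C.qcoh D').property.1 (C.qcoh D').property.2 θ fun j' j β m => by
    refine (e' j').injective ?_
    show (e' j') ((e' j').symm (f.emap j'.p (C.evP D j' (𝟙 j'.y.1) ((C.qcoh D).obj.mapTop β m)))) =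
      C.evP D' j' (𝟙 j'.y.1) ((C.qcoh D').obj.mapTop β ((e' j).symm (f.emap j.p (e j m))))
    rw [Equiv.apply_symm_apply]
    have h₁ : C.evP D j' (𝟙 j'.y.1) ((C.qcoh D).obj.mapTop β m) = C.pcT D β (e j m) :=
      (PDatum.evG_mapTop (D := C.pdatum D) (j := j') β (𝟙 j'.y.1) m).trans
        (PDatum.evG_map (D := C.pdatum D) (j' := j') (j := j) β
          ((Category.comp_id β).trans (Category.id_comp β).symm) m).symm
    have h₂ : C.evP D' j' (𝟙 j'.y.1) ((C.qcoh D').obj.mapTop β ((e' j).symm (f.emap j.p (e j m)))) =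
        C.pcT D' β (f.emap j.p (e j m)) :=
      ((PDatum.evG_mapTop (D := C.pdatum D') (j := j') β (𝟙 j'.y.1) _).trans
        (PDatum.evG_map (D := C.pdatum D') (j' := j') (j := j) β
          ((Category.comp_id β).trans (Category.id_comp β).symm) _).symm).trans
        (congrArg (C.pcT D' β) ((e' j).apply_symm_apply _))
    rw [h₁, h₂, pcT_apply, pcT_apply, C.emap_trans f, f.emap_pullTr]
  refine ⟨ObjectProperty.homMk φ, fun x s => C.isEval_unique D' (C.isEval_eps D' _) fun j α => ?_, fun hs x hx => ?_⟩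
  · have h₁ : C.evP D' j α ((φ.app x.1).app ⊤ s) = f.emap j.p (C.evP D j α s) := by
      have h₂ : ∀ (E : FlatDatum 𝒳) (r : Sec (C.qcoh E).obj x.1),
          C.evP E j α r = C.evP E j (𝟙 j.y.1) ((C.qcoh E).obj.mapTop α r) := fun E r =>
        ((PDatum.evG_mapTop (D := C.pdatum E) (j := j) α (𝟙 j.y.1) r).trans
          (congrArg (fun a => C.evP E j a r) (Category.id_comp α))).symm
      rw [h₂ D', h₂ D, Mod.mapTop_app]
      exact (congrArg (C.evP D' j (𝟙 j.y.1)) (hφ j _)).trans ((e' j).apply_symm_apply _)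
    show D'.rmap j.p (C.evP D' j α ((φ.app x.1).app ⊤ s)) = _
    rw [h₁, f.rmap_emap, C.isEval_eps D s j α, f.f_res]
  · obtain ⟨𝒰, -⟩ := exists_pcov (P := C.pieces) hx
    refine surjective_of_cover_mod (C.qcoh D).property.1 (C.qcoh D).property.2 (C.qcoh D').property.1
      (C.qcoh D').property.2 φ ⟨x, hx⟩ 𝒰.toCover fun l m => ?_
    obtain ⟨a, ha⟩ := f.emap_surjective (𝒰.j l).p (hs (𝒰.j l).i) (e' (𝒰.j l) m)
    refine ⟨(e (𝒰.j l)).symm a, (hφ (𝒰.j l) _).trans ?_⟩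
    show (e' (𝒰.j l)).symm (f.emap (𝒰.j l).p (e (𝒰.j l) ((e (𝒰.j l)).symm a))) = m
    rw [Equiv.apply_symm_apply, ha, Equiv.symm_apply_apply]

end FlatChart

end Groth.L09.CohAffBC
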