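import Groth.Agent.L09.CohAffBC.Datum

/-!
# Transitions of a datum between flat charts
-/

universe t w v u

open CategoryTheory CategoryTheory.Limits AlgebraicGeometry Opposite TopologicalSpace

set_option backward.isDefEq.respectTransparency false
set_option backward.isDefEq.respectTransparency.types false
set_option linter.style.haveILetI false
set_option linter.unusedSectionVars false
set_option linter.unusedVariables false

noncomputable section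

namespace Groth.L09.CohAffBC

open StMod Groth.L23.RelGen

variable {S : Scheme.{u}} {𝒳 : BasedCategory.{v, w} (Over S)}

/-- Affine charts with flat affine charts of the double and triple overlaps. -/
structure FlatChart (𝒳 : BasedCategory.{v, w} (Over S)) where
  fib : FibCat.IsFibGrpd 𝒳.p
  /-- the index of the charts -/
  I : Type t
  /-- the charts -/
  x : I → AObj 𝒳
  loc : ∀ y : AObj 𝒳, ∃ 𝒰 : Cover y.1, Finite 𝒰.ι ∧ ∀ l, ∃ i, Nonempty (𝒰.obj l ⟶ (x i).1)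
  /-- the index of the overlaps -/
  Std : I → I → Type t
  /-- the overlaps -/
  ov : ∀ {i k : I}, Std i k → AObj 𝒳
  /-- first projection -/
  a : ∀ {i k : I} (c : Std i k), (ov c).1 ⟶ (x i).1
  /-- second projection -/
  b : ∀ {i k : I} (c : Std i k), (ov c).1 ⟶ (x k).1
  flat_a : ∀ {i k : I} (c : Std i k), Flat (bmap 𝒳 (a c))
  flat_b : ∀ {i k : I} (c : Std i k), Flat (bmap 𝒳 (b c))
  pairs : ∀ (y : AObj 𝒳) (i k : I) (p : y.1 ⟶ (x i).1) (q : y.1 ⟶ (x k).1),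
    ∃ 𝒰 : Cover y.1, Finite 𝒰.ι ∧ ∀ l, ∃ (c : Std i k) (t : 𝒰.obj l ⟶ (ov c).1),
      t ≫ a c = 𝒰.map l ≫ p ∧ t ≫ b c = 𝒰.map l ≫ q
  triple : ∀ (y : AObj 𝒳) {i k : I} (c c' : Std i k) (t : y.1 ⟶ (ov c).1) (t' : y.1 ⟶ (ov c').1),
    t ≫ a c = t' ≫ a c' → t ≫ b c = t' ≫ b c' →
    ∃ 𝒰 : Cover y.1, Finite 𝒰.ι ∧ ∀ l, ∃ (w : AObj 𝒳) (s : w.1 ⟶ (ov c).1) (s' : w.1 ⟶ (ov c').1)
      (r : 𝒰.obj l ⟶ w.1), r ≫ s = 𝒰.map l ≫ t ∧ r ≫ s' = 𝒰.map l ≫ t' ∧ s ≫ a c = s' ≫ a c' ∧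
        s ≫ b c = s' ≫ b c' ∧ Flat (bmap 𝒳 (s ≫ a c)) ∧ Flat (bmap 𝒳 (s ≫ b c))

namespace FlatDatum

variable (D : FlatDatum 𝒳)

/-- The induced map from the extension along a flat morphism. -/
def rmap {o x : AObj 𝒳} (a : o.1 ⟶ x.1) : Ext (fnMap a) (D.H x) →+ D.H o :=
  lift (fnMap a) (RingHom.id (Fn o.1)) (D.res a) (D.res_smul a)

theorem rmap_ι {o x : AObj 𝒳} (a : o.1 ⟶ x.1) (m : D.H x) : D.rmap a (ι (fnMap a) m) = D.res a m :=
  lift_ι _ _ _ _ _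

theorem rmap_smul {o x : AObj 𝒳} (a : o.1 ⟶ x.1) (r : Fn o.1) (e : Ext (fnMap a) (D.H x)) :
    D.rmap a (r • e) = r • D.rmap a e := lift_smul (fnMap a) (RingHom.id (Fn o.1)) _ _ r e

theorem rmap_bijective {o x : AObj 𝒳} (a : o.1 ⟶ x.1) (h : Flat (bmap 𝒳 a)) : Function.Bijective (D.rmap a) :=
  bijective_lift_of_equiv (fnMap a) (D.res a) (D.res_smul a) (D.bc a h)

/-- Evaluation at an object through which the morphism factors. -/
def amap {y : 𝒳.obj} {o x : AObj 𝒳} {p : y ⟶ x.1} (t : y ⟶ o.1) (a : o.1 ⟶ x.1) (h : t ≫ a = p) :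
    Ext (fnMap p) (D.H x) →+ Ext (fnMap t) (D.H o) :=
  lift (fnMap p) (RingHom.id (Fn y)) ((ι (fnMap t)).comp (D.res a)) fun r m => by
    show ι (fnMap t) (D.res a (r • m)) = fnMap p r • ι (fnMap t) (D.res a m)
    rw [D.res_smul, ι_smul, ← fnMap_comp' h]
    rfl

theorem amap_ι {y : 𝒳.obj} {o x : AObj 𝒳} {p : y ⟶ x.1} (t : y ⟶ o.1) (a : o.1 ⟶ x.1) (h : t ≫ a = p) (m : D.H x) :
    D.amap t a h (ι (fnMap p) m) = ι (fnMap t) (D.res a m) := lift_ι _ _ _ _ _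

theorem amap_smul {y : 𝒳.obj} {o x : AObj 𝒳} {p : y ⟶ x.1} (t : y ⟶ o.1) (a : o.1 ⟶ x.1) (h : t ≫ a = p)
    (r : Fn y) (e : Ext (fnMap p) (D.H x)) : D.amap t a h (r • e) = r • D.amap t a h e :=
  lift_smul (fnMap p) (RingHom.id (Fn y)) _ _ r e

theorem amap_pullTr {y : 𝒳.obj} {o x : AObj 𝒳} {p : y ⟶ x.1} (t : y ⟶ o.1) (a : o.1 ⟶ x.1) (h : t ≫ a = p)
    (e : Ext (fnMap a) (D.H x)) : D.amap t a h (pullTr (D.H x) t h e) = ι (fnMap t) (D.rmap a e) := by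
  refine Ext.induction e (by simp only [map_zero]) (fun r m => ?_) fun e e' he he' => by
    simp only [map_add, he, he']
  rw [pullTr_smul, amap_smul, pullTr_ι, amap_ι, rmap_smul, ι_smul, rmap_ι]

theorem amap_bijective {y : 𝒳.obj} {o x : AObj 𝒳} {p : y ⟶ x.1} (t : y ⟶ o.1) (a : o.1 ⟶ x.1) (h : t ≫ a = p)
    (ha : Flat (bmap 𝒳 a)) : Function.Bijective (D.amap t a h) := by
  let R := AddEquiv.ofBijective (D.rmap a) (D.rmap_bijective a ha)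
  have hR : ∀ (c : Fn o.1) z, R.symm (c • z) = c • R.symm z := fun c z => R.injective (by
    rw [R.apply_symm_apply]
    show c • z = D.rmap a (c • R.symm z)
    rw [rmap_smul]
    exact congrArg (c • ·) (R.apply_symm_apply z).symm)
  let J : Ext (fnMap t) (D.H o) →+ Ext (fnMap p) (D.H x) :=
    lift (fnMap t) (RingHom.id (Fn y)) ((pullTr (D.H x) t h).comp R.symm.toAddMonoidHom) fun c z => by
      show pullTr (D.H x) t h (R.symm (c • z)) = fnMap t c • pullTr (D.H x) t h (R.symm z)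
      rw [hR, pullTr_smul]
  have hJ : ∀ (c : Fn y) z, J (c • z) = c • J z :=
    fun c z => lift_smul (fnMap t) (RingHom.id (Fn y)) _ _ c z
  refine Function.bijective_iff_has_inverse.2 ⟨J, fun e => ?_, fun z => ?_⟩
  · refine lift_ext (J.comp (D.amap t a h)) (AddMonoidHom.id _) (RingHom.id (Fn y)) (fun c z => ?_) (fun _ _ => rfl)
      (fun m => ?_) e
    · show J (D.amap t a h (c • z)) = c • J (D.amap t a h z)
      rw [amap_smul, hJ]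
    · show J (D.amap t a h (ι (fnMap p) m)) = ι (fnMap p) m
      rw [amap_ι, show J (ι (fnMap t) (D.res a m)) = pullTr (D.H x) t h (R.symm (D.res a m)) from lift_ι _ _ _ _ _,
        show R.symm (D.res a m) = ι (fnMap a) m from R.injective ((R.apply_symm_apply _).trans (D.rmap_ι a m).symm),
        pullTr_ι]
  · refine lift_ext ((D.amap t a h).comp J) (AddMonoidHom.id _) (RingHom.id (Fn y)) (fun c z => ?_) (fun _ _ => rfl)
      (fun m => ?_) z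
    · show D.amap t a h (J (c • z)) = c • D.amap t a h (J z)
      rw [hJ, amap_smul]
    · show D.amap t a h (J (ι (fnMap t) m)) = ι (fnMap t) m
      rw [show J (ι (fnMap t) m) = pullTr (D.H x) t h (R.symm m) from lift_ι _ _ _ _ _, amap_pullTr]
      exact congrArg _ (R.apply_symm_apply m)

end FlatDatum

/-- A lift of a pair of morphisms to charts to an object flat over both. -/
structure Lift {y : 𝒳.obj} {x z : AObj 𝒳} (p : y ⟶ x.1) (q : y ⟶ z.1) where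
  /-- the object -/
  o : AObj 𝒳
  /-- the lift -/
  t : y ⟶ o.1
  /-- first projection -/
  a : o.1 ⟶ x.1
  /-- second projection -/
  b : o.1 ⟶ z.1
  flat_a : Flat (bmap 𝒳 a)
  flat_b : Flat (bmap 𝒳 b)
  ta : t ≫ a = p
  tb : t ≫ b = q

namespace Lift

variable {y : 𝒳.obj} {x z : AObj 𝒳} {p : y ⟶ x.1} {q : y ⟶ z.1}

/-- Restriction of a lift. -/
@[simps] def restrict (L : Lift p q) {y' : 𝒳.obj} (k : y' ⟶ y) {p' : y' ⟶ x.1} {q' : y' ⟶ z.1} (hp : k ≫ p = p')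
    (hq : k ≫ q = q') : Lift p' q' :=
  ⟨L.o, k ≫ L.t, L.a, L.b, L.flat_a, L.flat_b, by rw [Category.assoc, L.ta, hp], by rw [Category.assoc, L.tb, hq]⟩

variable (D : FlatDatum 𝒳) (L : Lift p q)

/-- The transition of a lift. -/
def θ : Ext (fnMap p) (D.H x) →+ Ext (fnMap q) (D.H z) :=
  (AddEquiv.ofBijective _ (D.amap_bijective L.t L.b L.tb L.flat_b)).symm.toAddMonoidHom.comp (D.amap L.t L.a L.ta)

theorem amap_θ (e : Ext (fnMap p) (D.H x)) : D.amap L.t L.b L.tb (L.θ D e) = D.amap L.t L.a L.ta e :=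
  (AddEquiv.ofBijective _ (D.amap_bijective L.t L.b L.tb L.flat_b)).apply_symm_apply _

theorem θ_eq {e : Ext (fnMap p) (D.H x)} {e' : Ext (fnMap q) (D.H z)}
    (h : D.amap L.t L.b L.tb e' = D.amap L.t L.a L.ta e) : L.θ D e = e' :=
  (D.amap_bijective L.t L.b L.tb L.flat_b).1 ((L.amap_θ D e).trans h.symm)

theorem θ_smul (r : Fn y) (e : Ext (fnMap p) (D.H x)) : L.θ D (r • e) = r • L.θ D e :=
  L.θ_eq D (by rw [FlatDatum.amap_smul, FlatDatum.amap_smul, amap_θ])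

theorem θ_bijective : Function.Bijective (L.θ D) :=
  (AddEquiv.ofBijective _ (D.amap_bijective L.t L.b L.tb L.flat_b)).symm.bijective.comp
    (D.amap_bijective L.t L.a L.ta L.flat_a)

/-- Lifts connected by a morphism have equal transitions. -/
theorem θ_hom (L' : Lift p q) (s : L'.o.1 ⟶ L.o.1) (ht : L'.t ≫ s = L.t) (ha : s ≫ L.a = L'.a)
    (hb : s ≫ L.b = L'.b) : L'.θ D = L.θ D := by
  let C : Ext (fnMap L.t) (D.H L.o) →+ Ext (fnMap L'.t) (D.H L'.o) := D.amap L'.t s ht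
  have key : ∀ {c : AObj 𝒳} {r : y ⟶ c.1} (e₁ : L.o.1 ⟶ c.1) (e₂ : L'.o.1 ⟶ c.1) (h₁ : L.t ≫ e₁ = r)
      (h₂ : L'.t ≫ e₂ = r) (_ : s ≫ e₁ = e₂) (e : Ext (fnMap r) (D.H c)),
      C (D.amap L.t e₁ h₁ e) = D.amap L'.t e₂ h₂ e := by
    intro c r e₁ e₂ h₁ h₂ he e
    refine lift_ext (C.comp (D.amap L.t e₁ h₁)) (D.amap L'.t e₂ h₂) (RingHom.id (Fn y)) (fun r z => ?_)
      (fun r z => D.amap_smul _ _ _ r z) (fun m => ?_) e
    · simp only [AddMonoidHom.coe_comp, Function.comp_apply, C, FlatDatum.amap_smul]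
      rfl
    · simp only [AddMonoidHom.coe_comp, Function.comp_apply, C, FlatDatum.amap_ι]
      rw [D.res_comp, D.res_congr he]
  refine AddMonoidHom.ext fun e => L'.θ_eq D ?_
  rw [← key L.b L'.b L.tb L'.tb hb, amap_θ, key L.a L'.a L.ta L'.ta ha]

/-- Transitions commute with restriction. -/
theorem θ_natural {y' : 𝒳.obj} (k : y' ⟶ y) {p' : y' ⟶ x.1} {q' : y' ⟶ z.1} (hp : k ≫ p = p') (hq : k ≫ q = q')
    (e : Ext (fnMap p) (D.H x)) :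
    (L.restrict k hp hq).θ D (pullTr (D.H x) k hp e) = pullTr (D.H z) k hq (L.θ D e) := by
  have key : ∀ {c : AObj 𝒳} {r : y ⟶ c.1} {r' : y' ⟶ c.1} (hr : k ≫ r = r') (a : L.o.1 ⟶ c.1) (h : L.t ≫ a = r)
      (h' : (k ≫ L.t) ≫ a = r') (e : Ext (fnMap r) (D.H c)),
      D.amap (k ≫ L.t) a h' (pullTr (D.H c) k hr e) = pullTr (D.H L.o) k rfl (D.amap L.t a h e) := by
    intro c r r' hr a h h' e
    refine lift_ext ((D.amap (k ≫ L.t) a h').comp (pullTr (D.H c) k hr))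
      ((pullTr (D.H L.o) k rfl).comp (D.amap L.t a h)) (fnMap k) (fun r z => ?_) (fun r z => ?_) (fun m => ?_) e
    · simp only [AddMonoidHom.coe_comp, Function.comp_apply, pullTr_smul, FlatDatum.amap_smul]
    · simp only [AddMonoidHom.coe_comp, Function.comp_apply, pullTr_smul, FlatDatum.amap_smul]
    · simp only [AddMonoidHom.coe_comp, Function.comp_apply, pullTr_ι, FlatDatum.amap_ι]
  refine (L.restrict k hp hq).θ_eq D ?_
  show D.amap (k ≫ L.t) L.b _ _ = D.amap (k ≫ L.t) L.a _ _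
  rw [key hq L.b L.tb, key hp L.a L.ta, amap_θ]

end Lift

namespace FlatChart

variable (C : FlatChart.{t} 𝒳) (D : FlatDatum 𝒳)

/-- A lift through an overlap. -/
@[simps] def stdLift {y : 𝒳.obj} {i k : C.I} {p : y ⟶ (C.x i).1} {q : y ⟶ (C.x k).1} (c : C.Std i k)
    (t : y ⟶ (C.ov c).1) (hp : t ≫ C.a c = p) (hq : t ≫ C.b c = q) : Lift p q :=
  ⟨C.ov c, t, C.a c, C.b c, C.flat_a c, C.flat_b c, hp, hq⟩

theorem θ_std_eq (y : AObj 𝒳) {i k : C.I} {p : y.1 ⟶ (C.x i).1} {q : y.1 ⟶ (C.x k).1} (c c' : C.Std i k)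
    (t : y.1 ⟶ (C.ov c).1) (t' : y.1 ⟶ (C.ov c').1) (hp : t ≫ C.a c = p) (hq : t ≫ C.b c = q)
    (hp' : t' ≫ C.a c' = p) (hq' : t' ≫ C.b c' = q) (e : Ext (fnMap p) (D.H (C.x i))) :
    (C.stdLift c t hp hq).θ D e = (C.stdLift c' t' hp' hq').θ D e := by
  obtain ⟨𝒰, -, h𝒰⟩ := C.triple y c c' t t' (hp.trans hp'.symm) (hq.trans hq'.symm)
  refine pull_ext C.fib y.2 𝒰 q _ _ fun l => ?_
  obtain ⟨w, s, s', r, hr, hr', hsa, hsb, hfa, hfb⟩ := h𝒰 l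
  let L : Lift (𝒰.map l ≫ p) (𝒰.map l ≫ q) :=
    ⟨w, r, s ≫ C.a c, s ≫ C.b c, hfa, hfb, by rw [← Category.assoc, hr, Category.assoc, hp],
      by rw [← Category.assoc, hr, Category.assoc, hq]⟩
  rw [← Lift.θ_natural D _ (𝒰.map l) (p' := 𝒰.map l ≫ p) rfl rfl,
    ← Lift.θ_natural D _ (𝒰.map l) (p' := 𝒰.map l ≫ p) rfl rfl,
    ← Lift.θ_hom D ((C.stdLift c t hp hq).restrict (𝒰.map l) rfl rfl) L s hr rfl rfl,
    ← Lift.θ_hom D ((C.stdLift c' t' hp' hq').restrict (𝒰.map l) rfl rfl) L s' hr' hsa.symm hsb.symm]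

theorem exists_std (y : AObj 𝒳) {i k : C.I} {p : y.1 ⟶ (C.x i).1} {q : y.1 ⟶ (C.x k).1} (L : Lift p q) :
    ∃ 𝒰 : Cover y.1, ∀ l, ∃ (c : C.Std i k) (t : 𝒰.obj l ⟶ (C.ov c).1) (hp : t ≫ C.a c = 𝒰.map l ≫ p)
      (hq : t ≫ C.b c = 𝒰.map l ≫ q), (L.restrict (𝒰.map l) rfl rfl).θ D = (C.stdLift c t hp hq).θ D := by
  obtain ⟨𝒱, -, h𝒱⟩ := C.pairs L.o i k L.a L.b
  obtain ⟨𝒰, -, h𝒰⟩ := 𝒱.exists_pullback C.fib L.t
  refine ⟨𝒰, fun n => ?_⟩
  obtain ⟨l, s, hs⟩ := h𝒰 n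
  obtain ⟨c, t, hta, htb⟩ := h𝒱 l
  have hp : (s ≫ t) ≫ C.a c = 𝒰.map n ≫ p := by
    rw [Category.assoc, hta, ← Category.assoc, hs, Category.assoc, L.ta]
  have hq : (s ≫ t) ≫ C.b c = 𝒰.map n ≫ q := by
    rw [Category.assoc, htb, ← Category.assoc, hs, Category.assoc, L.tb]
  haveI := 𝒱.cov.flat l
  haveI := L.flat_a
  haveI := L.flat_b
  let L' : Lift (𝒰.map n ≫ p) (𝒰.map n ≫ q) :=
    ⟨memb 𝒱 l, s, 𝒱.map l ≫ L.a, 𝒱.map l ≫ L.b, by rw [bmap_comp]; infer_instance, by rw [bmap_comp]; infer_instance,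
      by rw [← Category.assoc, hs, Category.assoc, L.ta], by rw [← Category.assoc, hs, Category.assoc, L.tb]⟩
  exact ⟨c, s ≫ t, hp, hq, (Lift.θ_hom D (L.restrict (𝒰.map n) rfl rfl) L' (𝒱.map l) hs rfl rfl).symm.trans
    (Lift.θ_hom D (C.stdLift c (s ≫ t) hp hq) L' t rfl hta htb)⟩

/-- Any two lifts have equal transitions. -/
theorem θ_indep (y : AObj 𝒳) {i k : C.I} {p : y.1 ⟶ (C.x i).1} {q : y.1 ⟶ (C.x k).1} (L L' : Lift p q)
    (e : Ext (fnMap p) (D.H (C.x i))) : L.θ D e = L'.θ D e := by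
  obtain ⟨𝒰, h𝒰⟩ := C.exists_std D y L
  refine pull_ext C.fib y.2 𝒰 q _ _ fun l => ?_
  obtain ⟨c, t, hp, hq, hL⟩ := h𝒰 l
  rw [← Lift.θ_natural D _ (𝒰.map l) (p' := 𝒰.map l ≫ p) rfl rfl,
    ← Lift.θ_natural D _ (𝒰.map l) (p' := 𝒰.map l ≫ p) rfl rfl, hL]
  generalize pullTr (D.H (C.x i)) (𝒰.map l) (rfl : 𝒰.map l ≫ p = _) e = e'
  obtain ⟨𝒲, h𝒲⟩ := C.exists_std D (memb 𝒰 l) (L'.restrict (𝒰.map l) (p' := 𝒰.map l ≫ p) rfl rfl)
  refine pull_ext C.fib (𝒰.affine l) 𝒲 _ _ _ fun n => ?_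
  obtain ⟨c', t', hp', hq', hL'⟩ := h𝒲 n
  rw [← Lift.θ_natural D _ (𝒲.map n) (p' := 𝒲.map n ≫ 𝒰.map l ≫ p) rfl rfl,
    ← Lift.θ_natural D _ (𝒲.map n) (p' := 𝒲.map n ≫ 𝒰.map l ≫ p) rfl rfl, hL']
  exact C.θ_std_eq D (memb 𝒲 n) c c' (𝒲.map n ≫ t) t' (by rw [Category.assoc, hp]) (by rw [Category.assoc, hq])
    hp' hq' _

/-- A value of the transition. -/
def IsTrans {y : AObj 𝒳} {i k : C.I} (p : y.1 ⟶ (C.x i).1) (q : y.1 ⟶ (C.x k).1) (e : Ext (fnMap p) (D.H (C.x i)))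
    (e' : Ext (fnMap q) (D.H (C.x k))) : Prop :=
  ∀ (y' : AObj 𝒳) (s : y'.1 ⟶ y.1) (p' : y'.1 ⟶ (C.x i).1) (q' : y'.1 ⟶ (C.x k).1) (hp : s ≫ p = p') (hq : s ≫ q = q')
    (L : Lift p' q'), L.θ D (pullTr (D.H (C.x i)) s hp e) = pullTr (D.H (C.x k)) s hq e'

theorem isTrans_unique {y : AObj 𝒳} {i k : C.I} {p : y.1 ⟶ (C.x i).1} {q : y.1 ⟶ (C.x k).1}
    {e : Ext (fnMap p) (D.H (C.x i))} {e₁ e₂ : Ext (fnMap q) (D.H (C.x k))} (h₁ : C.IsTrans D p q e e₁)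
    (h₂ : C.IsTrans D p q e e₂) : e₁ = e₂ := by
  obtain ⟨𝒰, -, h𝒰⟩ := C.pairs y i k p q
  refine pull_ext C.fib y.2 𝒰 q _ _ fun l => ?_
  obtain ⟨c, t, hta, htb⟩ := h𝒰 l
  exact (h₁ (memb 𝒰 l) (𝒰.map l) _ _ rfl rfl (C.stdLift c t hta htb)).symm.trans
    (h₂ (memb 𝒰 l) (𝒰.map l) _ _ rfl rfl (C.stdLift c t hta htb))

set_option maxHeartbeats 800000 in
theorem exists_isTrans {y : AObj 𝒳} {i k : C.I} (p : y.1 ⟶ (C.x i).1) (q : y.1 ⟶ (C.x k).1)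
    (e : Ext (fnMap p) (D.H (C.x i))) : ∃ e', C.IsTrans D p q e e' := by
  obtain ⟨𝒰, hfin, h𝒰⟩ := C.pairs y i k p q
  haveI := hfin
  choose c t hta htb using h𝒰
  let L : ∀ l, Lift (𝒰.map l ≫ p) (𝒰.map l ≫ q) := fun l => C.stdLift (c l) (t l) (hta l) (htb l)
  obtain ⟨e', he'⟩ := pull_glue C.fib y.2 𝒰 q (fun l => (L l).θ D (pullTr (D.H (C.x i)) (𝒰.map l) rfl e))
    (fun z hz a b α β r ha hb hab => by
      have hb' : β ≫ 𝒰.map b ≫ p = α ≫ 𝒰.map a ≫ p := by rw [← Category.assoc, ← hab, Category.assoc]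
      rw [← Lift.θ_natural D (L a) α (p' := α ≫ 𝒰.map a ≫ p) rfl ha, ← Lift.θ_natural D (L b) β hb' hb]
      rw [pullTr_comp _ α (𝒰.map a) rfl rfl (Category.assoc _ _ _), pullTr_comp _ β (𝒰.map b) rfl hb'
        ((Category.assoc _ _ _).trans hb'), pullTr_congr _ hab.symm ((Category.assoc _ _ _).trans hb')
          (Category.assoc _ _ _)]
      exact C.θ_indep D ⟨z, hz⟩ _ _ _)
  refine ⟨e', fun y' s p' q' hp hq M => ?_⟩
  obtain ⟨𝒵, -, h𝒵⟩ := 𝒰.exists_pullback C.fib s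
  refine pull_ext C.fib y'.2 𝒵 q' _ _ fun n => ?_
  obtain ⟨l, r, hr⟩ := h𝒵 n
  have hrp : r ≫ 𝒰.map l ≫ p = 𝒵.map n ≫ p' := by rw [← Category.assoc, hr, Category.assoc, hp]
  have hrq : r ≫ 𝒰.map l ≫ q = 𝒵.map n ≫ q' := by rw [← Category.assoc, hr, Category.assoc, hq]
  rw [← Lift.θ_natural D M (𝒵.map n) (p' := 𝒵.map n ≫ p') rfl rfl,
    pullTr_comp _ (𝒵.map n) s hp rfl (by rw [Category.assoc, hp]),
    pullTr_comp _ (𝒵.map n) s hq rfl (by rw [Category.assoc, hq]),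
    pullTr_congr _ hr.symm _ (show (r ≫ 𝒰.map l) ≫ p = 𝒵.map n ≫ p' by rw [Category.assoc, hrp]),
    pullTr_congr _ hr.symm _ (show (r ≫ 𝒰.map l) ≫ q = 𝒵.map n ≫ q' by rw [Category.assoc, hrq]),
    ← pullTr_comp _ r (𝒰.map l) rfl hrq, ← pullTr_comp _ r (𝒰.map l) rfl hrp, he' l,
    ← Lift.θ_natural D (L l) r hrp hrq]
  exact C.θ_indep D (memb 𝒵 n) _ _ _

/-- The transition. -/
def trans {y : AObj 𝒳} {i k : C.I} (p : y.1 ⟶ (C.x i).1) (q : y.1 ⟶ (C.x k).1) :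
    Ext (fnMap p) (D.H (C.x i)) →+ Ext (fnMap q) (D.H (C.x k)) where
  toFun e := (C.exists_isTrans D p q e).choose
  map_zero' := C.isTrans_unique D (C.exists_isTrans D p q 0).choose_spec fun y' s p' q' hp hq L => by simp
  map_add' e₁ e₂ := C.isTrans_unique D (C.exists_isTrans D p q (e₁ + e₂)).choose_spec
    fun y' s p' q' hp hq L => by
      simp only [map_add, (C.exists_isTrans D p q e₁).choose_spec y' s p' q' hp hq L,
        (C.exists_isTrans D p q e₂).choose_spec y' s p' q' hp hq L]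

theorem isTrans_trans {y : AObj 𝒳} {i k : C.I} (p : y.1 ⟶ (C.x i).1) (q : y.1 ⟶ (C.x k).1)
    (e : Ext (fnMap p) (D.H (C.x i))) : C.IsTrans D p q e (C.trans D p q e) :=
  (C.exists_isTrans D p q e).choose_spec

theorem trans_θ {y : AObj 𝒳} {i k : C.I} {p : y.1 ⟶ (C.x i).1} {q : y.1 ⟶ (C.x k).1} (L : Lift p q)
    (e : Ext (fnMap p) (D.H (C.x i))) : C.trans D p q e = L.θ D e := by
  have h := C.isTrans_trans D p q e y (𝟙 _) p q (Category.id_comp _) (Category.id_comp _) L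
  rwa [pullTr_id, pullTr_id, eq_comm] at h

theorem trans_smul {y : AObj 𝒳} {i k : C.I} (p : y.1 ⟶ (C.x i).1) (q : y.1 ⟶ (C.x k).1) (r : Fn y.1)
    (e : Ext (fnMap p) (D.H (C.x i))) : C.trans D p q (r • e) = r • C.trans D p q e :=
  C.isTrans_unique D (C.isTrans_trans D p q _) fun y' s p' q' hp hq L => by
    rw [pullTr_smul, Lift.θ_smul, C.isTrans_trans D p q e y' s p' q' hp hq L, pullTr_smul]

theorem trans_natural {y' y : AObj 𝒳} {i k : C.I} (s : y'.1 ⟶ y.1) {p : y.1 ⟶ (C.x i).1} {q : y.1 ⟶ (C.x k).1}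
    {p' : y'.1 ⟶ (C.x i).1} {q' : y'.1 ⟶ (C.x k).1} (hp : s ≫ p = p') (hq : s ≫ q = q')
    (e : Ext (fnMap p) (D.H (C.x i))) :
    C.trans D p' q' (pullTr (D.H (C.x i)) s hp e) = pullTr (D.H (C.x k)) s hq (C.trans D p q e) := by
  refine C.isTrans_unique D (C.isTrans_trans D p' q' _) fun y'' s' p'' q'' hp' hq' L => ?_
  rw [pullTr_comp _ s' s hp hp' (by rw [Category.assoc, hp, hp']),
    pullTr_comp _ s' s hq hq' (by rw [Category.assoc, hq, hq'])]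
  exact C.isTrans_trans D p q e y'' (s' ≫ s) p'' q'' _ _ L

theorem trans_injective {y : AObj 𝒳} {i k : C.I} (p : y.1 ⟶ (C.x i).1) (q : y.1 ⟶ (C.x k).1) :
    Function.Injective (C.trans D p q) := by
  refine (injective_iff_map_eq_zero _).2 fun e he => ?_
  obtain ⟨𝒰, -, h𝒰⟩ := C.pairs y i k p q
  refine pull_ext C.fib y.2 𝒰 p _ _ fun l => ?_
  obtain ⟨c, t, hta, htb⟩ := h𝒰 l
  refine ((C.stdLift c t hta htb).θ_bijective D).1 ?_
  refine ((C.isTrans_trans D p q e) (memb 𝒰 l) (𝒰.map l) _ _ rfl rfl (C.stdLift c t hta htb)).trans ?_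
  rw [he, map_zero, map_zero, map_zero]

theorem trans_comp_lift {m : AObj 𝒳} {i j k : C.I} {p : m.1 ⟶ (C.x i).1} {q : m.1 ⟶ (C.x j).1} {r : m.1 ⟶ (C.x k).1}
    (c : C.Std i j) (t : m.1 ⟶ (C.ov c).1) (hp : t ≫ C.a c = p) (hq : t ≫ C.b c = q)
    (c' : C.Std j k) (t' : m.1 ⟶ (C.ov c').1) (hq' : t' ≫ C.a c' = q) (hr : t' ≫ C.b c' = r)
    (e : Ext (fnMap p) (D.H (C.x i))) : C.trans D q r (C.trans D p q e) = C.trans D p r e := by
  obtain ⟨W, p₁, p₂, hw, H⟩ := exists_square C.fib (C.b c) (C.a c')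
  let W' : AObj 𝒳 := ⟨W, IsAffine.of_isIso H.isoPullback.hom⟩
  obtain ⟨s, hs₁, hs₂⟩ := exists_square_lift C.fib hw H t t' (hq.trans hq'.symm)
  haveI := C.flat_a c
  haveI := C.flat_b c
  haveI := C.flat_a c'
  haveI := C.flat_b c'
  haveI h₁ : Flat (bmap 𝒳 p₁) := MorphismProperty.of_isPullback H.flip (C.flat_a c')
  haveI h₂ : Flat (bmap 𝒳 p₂) := MorphismProperty.of_isPullback H (C.flat_b c)
  have fp : Flat (bmap 𝒳 (p₁ ≫ C.a c)) := by rw [bmap_comp]; infer_instance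
  have fq : Flat (bmap 𝒳 (p₁ ≫ C.b c)) := by rw [bmap_comp]; infer_instance
  have fr : Flat (bmap 𝒳 (p₂ ≫ C.b c')) := by rw [bmap_comp]; infer_instance
  have ep : s ≫ p₁ ≫ C.a c = p := by rw [← Category.assoc, hs₁, hp]
  have eq : s ≫ p₁ ≫ C.b c = q := by rw [← Category.assoc, hs₁, hq]
  have er : s ≫ p₂ ≫ C.b c' = r := by rw [← Category.assoc, hs₂, hr]
  let Lpq : Lift p q := ⟨W', s, _, _, fp, fq, ep, eq⟩
  let Lqr : Lift q r := ⟨W', s, _, _, fq, fr, eq, er⟩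
  let Lpr : Lift p r := ⟨W', s, _, _, fp, fr, ep, er⟩
  rw [C.trans_θ D Lqr, C.trans_θ D Lpq, C.trans_θ D Lpr]
  refine (Lpr.θ_eq D ?_).symm
  exact (Lqr.amap_θ D _).trans (Lpq.amap_θ D _)

theorem trans_comp {y : AObj 𝒳} {i j k : C.I} (p : y.1 ⟶ (C.x i).1) (q : y.1 ⟶ (C.x j).1) (r : y.1 ⟶ (C.x k).1)
    (e : Ext (fnMap p) (D.H (C.x i))) : C.trans D q r (C.trans D p q e) = C.trans D p r e := by
  obtain ⟨𝒰, -, h𝒰⟩ := C.pairs y i j p q
  refine pull_ext C.fib y.2 𝒰 r _ _ fun l => ?_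
  obtain ⟨c, t, hta, htb⟩ := h𝒰 l
  rw [← C.trans_natural D (y' := memb 𝒰 l) (𝒰.map l) (p' := 𝒰.map l ≫ q) rfl rfl,
    ← C.trans_natural D (y' := memb 𝒰 l) (𝒰.map l) (p' := 𝒰.map l ≫ p) rfl rfl,
    ← C.trans_natural D (y' := memb 𝒰 l) (𝒰.map l) (p' := 𝒰.map l ≫ p) rfl rfl]
  obtain ⟨𝒲, -, h𝒲⟩ := C.pairs (memb 𝒰 l) j k (𝒰.map l ≫ q) (𝒰.map l ≫ r)
  refine pull_ext C.fib (𝒰.affine l) 𝒲 _ _ _ fun n => ?_
  obtain ⟨c', t', hta', htb'⟩ := h𝒲 n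
  rw [← C.trans_natural D (y' := memb 𝒲 n) (y := memb 𝒰 l) (𝒲.map n) (p' := 𝒲.map n ≫ 𝒰.map l ≫ q) rfl rfl,
    ← C.trans_natural D (y' := memb 𝒲 n) (y := memb 𝒰 l) (𝒲.map n) (p' := 𝒲.map n ≫ 𝒰.map l ≫ p) rfl rfl,
    ← C.trans_natural D (y' := memb 𝒲 n) (y := memb 𝒰 l) (𝒲.map n) (p' := 𝒲.map n ≫ 𝒰.map l ≫ p) rfl rfl]
  exact C.trans_comp_lift D (m := memb 𝒲 n) c (𝒲.map n ≫ t) (by rw [Category.assoc, hta]) (by rw [Category.assoc, htb])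
    c' t' hta' htb' _

theorem trans_self {y : AObj 𝒳} {i : C.I} (p : y.1 ⟶ (C.x i).1) (e : Ext (fnMap p) (D.H (C.x i))) :
    C.trans D p p e = e :=
  C.trans_injective D p p (C.trans_comp D p p p e)

theorem trans_bijective {y : AObj 𝒳} {i k : C.I} (p : y.1 ⟶ (C.x i).1) (q : y.1 ⟶ (C.x k).1) :
    Function.Bijective (C.trans D p q) :=
  Function.bijective_iff_has_inverse.2 ⟨C.trans D q p, fun e => by rw [C.trans_comp, C.trans_self],
    fun e => by rw [C.trans_comp, C.trans_self]⟩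

end FlatChart

end Groth.L09.CohAffBC
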